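import Groth.Agent.DR39.DC
import Groth.Agent.DR39.ExactFun
import Groth.Agent.DR39.Derived
import Groth.Agent.DR39.TA

/-! Morphisms into derived complete objects; formal properties of derived completeness. -/

set_option autoImplicit false
set_option linter.style.haveILetI false
set_option linter.unusedSectionVars false

universe u

open CategoryTheory CategoryTheory.Limits CategoryTheory.Pretriangulated

attribute [local instance] HasDerivedCategory.standard

namespace Groth.Agent.DR40

open Groth.Agent.DR39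

variable {A : Type u} [CommRing A]

/-- The complex of sequences. -/
noncomputable def seqCx (L : DRing.Cx A) : DRing.Cx A where
  X i := ModuleCat.of A (ℕ → L.X i)
  d i j := ModuleCat.ofHom ((L.d i j).hom.compLeft ℕ)
  shape i j h := by rw [L.shape i j h]; rfl
  d_comp_d' i j k _ _ := ModuleCat.hom_ext (LinearMap.ext fun _ => funext fun _ => d_apply_d L i j k _)

/-- The `n`-th component. -/
noncomputable def seqProj (L : DRing.Cx A) (n : ℕ) : seqCx L ⟶ L where
  f i := ModuleCat.ofHom (LinearMap.proj n)
  comm' _ _ _ := rfl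

/-- A family of chain maps as a map to sequences. -/
noncomputable def seqLift {P L : DRing.Cx A} (v : ℕ → (P ⟶ L)) : P ⟶ seqCx L where
  f i := ModuleCat.ofHom (LinearMap.pi fun n => ((v n).f i).hom)
  comm' i j _ := ModuleCat.hom_ext (LinearMap.ext fun x => funext fun n => (f_apply_d (v n) i j x).symm)

/-- `x ↦ (x_n - f x_{n+1})`. -/
noncomputable def seqT (f : A) (L : DRing.Cx A) : seqCx L ⟶ seqCx L where
  f i := ModuleCat.ofHom (DCM.T f (L.X i))
  comm' i j _ := ModuleCat.hom_ext (LinearMap.ext fun x => funext fun n => by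
    show (L.d i j).hom (x n - f • x (n + 1)) = (L.d i j).hom (x n) - f • (L.d i j).hom (x (n + 1))
    rw [map_sub, map_smul])

/-- A family of null homotopies. -/
noncomputable def seqHomotopy {P L : DRing.Cx A} (v : ℕ → (P ⟶ L)) (h : ∀ n, Homotopy (v n) 0) :
    Homotopy (seqLift v) 0 where
  hom i j := ModuleCat.ofHom (LinearMap.pi fun n => ((h n).hom i j).hom)
  zero i j hij := ModuleCat.hom_ext (LinearMap.ext fun x => funext fun n => by
    show ((h n).hom i j).hom x = 0
    rw [(h n).zero i j hij]; rfl)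
  comm i := ModuleCat.hom_ext (LinearMap.ext fun x => funext fun n => by
    have := LinearMap.congr_fun (congrArg ModuleCat.Hom.hom ((h n).comm i)) x
    rw [dNext_eq _ (show (ComplexShape.up ℤ).Rel i (i + 1) from rfl),
      prevD_eq _ (show (ComplexShape.up ℤ).Rel (i - 1) i by simp)] at this ⊢
    exact this)

/-- If all cohomology is derived complete for `f`, `seqT` is a quasi-isomorphism. -/
theorem quasiIso_seqT (f : A) (L : DRing.Cx A) (hL : ∀ n, DCM.Comp f (L.homology n)) :
    QuasiIso (seqT f L) := by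
  refine ⟨fun i => quasiIsoAt_of_elements _ i (fun x hx y hy => ?_) (fun z hz => ?_)⟩
  · have hx' : ∀ n, (L.d i (i + 1)).hom (x n) = 0 := fun n => congrFun hx n
    have h0 : DCM.T f _ (fun n => hcls L i ⟨x n, hx' n⟩) = 0 := funext fun n => by
      rw [DCM.T_apply, ← map_smul, ← map_sub, Pi.zero_apply, hcls_eq_zero_iff]
      exact ⟨y n, congrFun hy n⟩
    have := (hL i).1 (h0.trans (map_zero _).symm)
    choose w hw using fun n => (hcls_eq_zero_iff L i ⟨x n, hx' n⟩).1 (congrFun this n)
    exact ⟨w, funext hw⟩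
  · have hz' : ∀ n, (L.d i (i + 1)).hom (z n) = 0 := fun n => congrFun hz n
    obtain ⟨c, hc⟩ := (hL i).2 fun n => hcls L i ⟨z n, hz' n⟩
    choose x hx using fun n => hcls_surjective L i (c n)
    refine ⟨fun n => (x n : L.X i), funext fun n => (x n).2, ?_⟩
    have h1 : ∀ n, (x n : L.X i) - f • (x (n + 1) : L.X i) - z n ∈
        LinearMap.range (L.d (i - 1) i).hom := fun n => by
      have := congrFun hc n
      rw [DCM.T_apply, ← hx, ← hx, ← map_smul, ← map_sub, hcls_eq_iff] at this
      exact this
    choose w hw using h1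
    exact ⟨w, funext hw⟩

/-- No morphisms from `f`-invertible objects to objects with `f`-complete cohomology. -/
theorem hom_eq_zero_of_isIso_smul (f : A) {X L : Dual.D A} (hX : IsIso (f • 𝟙 X))
    (hL : ∀ n, DCM.Comp f (Dual.HD A L n)) (g : X ⟶ L) : g = 0 := by
  obtain ⟨K, ⟨eK⟩⟩ := exists_complex_iso X
  obtain ⟨Lc, ⟨eL⟩⟩ := exists_complex_iso L
  haveI := (DerivedCategory.isIso_Q_map_iff_quasiIso (ModuleCat.{u} A) (SF.aug K)).2 inferInstance
  haveI : (SF.res K).IsKProjective := SF.isKProjective_res K
  let e : (QA A).obj (SF.res K) ≅ X := asIso ((QA A).map (SF.aug K)) ≪≫ eK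
  haveI := quasiIso_seqT f Lc fun n =>
    DCM.comp_equiv ((HF A n).mapIso eL.symm ≪≫ HQIso Lc n).toLinearEquiv (hL n)
  haveI hT : IsIso ((QA A).map (seqT f Lc)) :=
    (DerivedCategory.isIso_Q_map_iff_quasiIso (ModuleCat.{u} A) _).2 inferInstance
  let m : X ⟶ X := inv (f • 𝟙 X)
  let u : ℕ → (X ⟶ L) := fun n => Nat.rec g (fun _ w => m ≫ w) n
  have hu : ∀ n, f • u (n + 1) = u n := fun n => by
    show f • (m ≫ u n) = u n
    conv_lhs => rw [← Category.id_comp (m ≫ u n), ← Linear.smul_comp, ← Category.assoc,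
      IsIso.hom_inv_id, Category.id_comp]
  choose v hv using fun n => DR39.Q_map_surjective (SF.res K) Lc (e.hom ≫ u n ≫ eL.inv)
  have h0 : ∀ n, Nonempty (Homotopy (v n - f • v (n + 1)) 0) := fun n => by
    refine (DR39.Q_map_eq_iff _ _).1 ?_
    have h2 : f • DerivedCategory.Q.map (v (n + 1)) = DerivedCategory.Q.map (v n) := by
      rw [hv, hv, ← hu n, ← Linear.comp_smul, ← Linear.smul_comp]
    rw [Functor.map_sub, Functor.map_zero, sub_eq_zero, Functor.map_smul, h2]
  have hcomp : seqLift v ≫ seqT f Lc = seqLift fun n => v n - f • v (n + 1) :=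
    HomologicalComplex.hom_ext _ _ fun i => ModuleCat.hom_ext (LinearMap.ext fun x => funext fun n => rfl)
  have h1 : (QA A).map (seqLift v) = 0 := by
    rw [← cancel_mono ((QA A).map (seqT f Lc)), ← Functor.map_comp, hcomp, zero_comp,
      DerivedCategory.Q_map_eq_of_homotopy (C := ModuleCat.{u} A)
        (seqHomotopy _ fun n => (h0 n).some), Functor.map_zero]
  have h2 : seqLift v ≫ seqProj Lc 0 = v 0 :=
    HomologicalComplex.hom_ext _ _ fun i => ModuleCat.hom_ext (LinearMap.ext fun x => rfl)
  have h3 : (QA A).map (v 0) = 0 := by rw [← h2, Functor.map_comp, h1, zero_comp]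
  have h4 : e.hom ≫ g ≫ eL.inv = 0 := (hv 0).symm.trans h3
  rw [← cancel_epi e.hom, ← cancel_mono eL.inv, Category.assoc, h4]
  simp

theorem isIso_smul_id_of_bijective (f : A) (K : DRing.Cx A)
    (hK : ∀ i : ℤ, Function.Bijective (fun x : K.X i => f • x)) :
    IsIso (f • 𝟙 (DRing.toD K)) := by
  haveI : ∀ i, IsIso ((f • 𝟙 K : K ⟶ K).f i) := fun i => (DR39.isIso_iff_bijective _).2 (hK i)
  haveI : IsIso (f • 𝟙 K : K ⟶ K) := HomologicalComplex.Hom.isIso_of_components _
  rw [← CategoryTheory.Functor.map_id, ← Functor.map_smul]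
  infer_instance

theorem isZero_derivedCompletion (I : Ideal A) [DRing.HasDerivedCompletion I] (K : DRing.Cx A) (f : A)
    (hf : f ∈ I) (hK : ∀ i : ℤ, Function.Bijective (fun x : K.X i => f • x)) :
    IsZero ((DRing.derivedCompletion I).obj (DRing.toD K)).obj := by
  let C := (DRing.derivedCompletion I).obj (DRing.toD K)
  have hz : ∀ h : DRing.toD K ⟶ C.obj, h = 0 := hom_eq_zero_of_isIso_smul f
    (isIso_smul_id_of_bijective f K hK) ((isDerivedComplete_iff I C.obj).1 C.property f hf)
  haveI : Subsingleton (C ⟶ C) := @Equiv.subsingleton _ _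
    ((DRing.derivedCompletionAdj I).homEquiv (DRing.toD K) C) ⟨fun a b => (hz a).trans (hz b).symm⟩
  refine (IsZero.iff_id_eq_zero _).2 ?_
  have h := Subsingleton.elim (𝟙 C) ((DRing.IsDerivedComplete I).homMk (0 : C.obj ⟶ C.obj))
  exact congrArg (fun t => (ObjectProperty.ι (DRing.IsDerivedComplete I)).map t) h

/-- The elements acting completely form an ideal. -/
def compIdeal (M : Type u) [AddCommGroup M] [Module A M] : Ideal A where
  carrier := {g | DCM.Comp g M}
  zero_mem' := DCM.comp_zero
  add_mem' := DCM.comp_add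
  smul_mem' := fun a _ h => DCM.comp_mul h a

theorem comp_restrictScalars {B : Type u} [CommRing B] (φ : A →+* B) (M : ModuleCat.{u} B) (g : A) :
    DCM.Comp g ((ModuleCat.restrictScalars φ).obj M) ↔ DCM.Comp (φ g) M := Iff.rfl

theorem isDerivedComplete_map_iff {B : Type u} [CommRing B] (φ : A →+* B) (I : Ideal A) (L : Dual.D B) :
    DRing.IsDerivedComplete (I.map φ) L ↔ DRing.IsDerivedComplete I ((DRing.restrictD φ).obj L) := by
  rw [isDerivedComplete_iff, isDerivedComplete_iff]
  have he : ∀ (g : A) (n : ℤ),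
      DCM.Comp g (Dual.HD A ((DRing.restrictD φ).obj L) n) ↔ DCM.Comp (φ g) (Dual.HD B L n) :=
    fun g n => by
      obtain ⟨e⟩ := HF_DF (ModuleCat.restrictScalars.{u} φ) L n
      rw [← comp_restrictScalars φ ((HF B n).obj L) g]
      exact ⟨DCM.comp_equiv e.toLinearEquiv, DCM.comp_equiv e.toLinearEquiv.symm⟩
  constructor
  · exact fun h g hg n => (he g n).2 (h _ (Ideal.mem_map_of_mem φ hg) n)
  · intro h g hg n
    exact (Ideal.map_le_iff_le_comap.2 (fun a ha => (he a n).1 (h a ha n)) :
      I.map φ ≤ compIdeal (Dual.HD B L n)) hg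

theorem comp_homology_of_terms (f : A) (E : DRing.Cx A) (h : ∀ i, DCM.Comp f (E.X i)) (n : ℤ) :
    DCM.Comp f (E.homology n) := by
  have hZ : DCM.Comp f (Zd E n) := DCM.comp_ker _ (h n) (h (n + 1))
  refine DCM.comp_equiv (LinearMap.quotKerEquivOfSurjective _ (hcls_surjective E n))
    (DCM.comp_quotient _ ?_ hZ)
  let d' : E.X (n - 1) →ₗ[A] Zd E n := (E.d (n - 1) n).hom.codRestrict _ fun x => d_apply_d E _ _ _ x
  have : LinearMap.ker (hcls E n) = LinearMap.range d' := by
    ext z
    rw [LinearMap.mem_ker, hcls_eq_zero_iff]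
    constructor
    · rintro ⟨x, hx⟩; exact ⟨x, Subtype.ext hx⟩
    · rintro ⟨x, rfl⟩; exact ⟨x, rfl⟩
  rw [this]
  exact DCM.comp_range _ (h (n - 1)) hZ

theorem comp_pi (f : A) (ι : Type*) (h : DCM.Comp f A) : DCM.Comp f (ι → A) := by
  constructor
  · intro x y hxy
    funext n i
    exact congrFun (h.1 (a₁ := fun m => x m i) (a₂ := fun m => y m i)
      (funext fun m => congrFun (congrFun hxy m) i)) n
  · intro y
    choose x hx using fun i => h.2 fun n => y n i
    exact ⟨fun n i => x i n, funext fun n => funext fun i => congrFun (hx i) n⟩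

theorem comp_finite_free (f : A) (h : DCM.Comp f A) (M : Type u) [AddCommGroup M] [Module A M]
    [Module.Finite A M] [Module.Free A M] : DCM.Comp f M := by
  let b := Module.Free.chooseBasis A M
  exact DCM.comp_equiv b.equivFun.symm (comp_pi f _ h)

theorem isDerivedComplete_of_pc' (I : Ideal A) (hA : DRing.IsDerivedComplete I (Dual.inD A A))
    (K : Dual.D A) (hK : DRing.IsPseudoCoherent' A K) : DRing.IsDerivedComplete I K := by
  rw [isDerivedComplete_inD_iff] at hA
  obtain ⟨E, b, -, hE, ⟨e⟩⟩ := hK
  rw [isDerivedComplete_iff]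
  intro g hg n
  refine DCM.comp_equiv ((HQIso E n).symm ≪≫ (HF A n).mapIso e).toLinearEquiv
    (comp_homology_of_terms g E (fun i => ?_) n)
  haveI := (hE i).1
  haveI := (hE i).2
  exact comp_finite_free g (hA g hg) _

theorem bijective_smul_away (f : A) : Function.Bijective (fun x : Localization.Away f => f • x) := by
  have hu : IsUnit (algebraMap A (Localization.Away f) f) := IsLocalization.Away.algebraMap_isUnit f
  have : (fun x : Localization.Away f => f • x) = fun x => algebraMap A (Localization.Away f) f * x :=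
    funext fun x => Algebra.smul_def f x
  rw [this]
  exact hu.unit.mulLeft_bijective

theorem isIso_smul_restrictD {B : Type u} [CommRing B] (φ : A →+* B) (f : A) (hf : IsUnit (φ f))
    (E : Dual.D B) : IsIso (f • 𝟙 ((DRing.restrictD φ).obj E)) := by
  obtain ⟨Ec, ⟨eE⟩⟩ := exists_complex_iso E
  let e : DRing.toD ((DRing.restrictCx φ).obj Ec) ≅ (DRing.restrictD φ).obj E :=
    (restrictDIso φ Ec).symm ≪≫ (DRing.restrictD φ).mapIso eE
  haveI := isIso_smul_id_of_bijective f ((DRing.restrictCx φ).obj Ec) fun i =>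
    (IsUnit.smul_bijective (α := B) (β := Ec.X i) hf : Function.Bijective fun x : Ec.X i => φ f • x)
  have : f • 𝟙 ((DRing.restrictD φ).obj E) =
      e.inv ≫ (f • 𝟙 (DRing.toD ((DRing.restrictCx φ).obj Ec))) ≫ e.hom := by
    simp [Linear.smul_comp, Linear.comp_smul]
  rw [this]
  infer_instance

theorem hom_from_localization_iff (f : A) (K : Dual.D A) :
    (∀ n : ℤ, Subsingleton (Dual.inD A (Localization.Away f) ⟶ K⟦n⟧)) ↔
      ∀ E : Dual.D (Localization.Away f),
        Subsingleton ((DRing.restrictD (algebraMap A (Localization.Away f))).obj E ⟶ K) := by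
  constructor
  · intro h E
    have hz : ∀ g : (DRing.restrictD (algebraMap A (Localization.Away f))).obj E ⟶ K, g = 0 :=
      hom_eq_zero_of_isIso_smul f
        (isIso_smul_restrictD _ f (IsLocalization.Away.algebraMap_isUnit f) E)
        ((subsingleton_iff_comp f K).1 h)
    exact ⟨fun a b => (hz a).trans (hz b).symm⟩
  · intro h n
    let Y := Dual.inD A (Localization.Away f)
    let el : ((ModuleCat.restrictScalars (algebraMap A (Localization.Away f))).obj
        (ModuleCat.of (Localization.Away f) (Localization.Away f))) ≃ₗ[A] Localization.Away f :=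
      { AddEquiv.refl (Localization.Away f) with
        map_smul' := fun a (x : Localization.Away f) => (Algebra.smul_def a x).symm }
    let i1 : (DRing.restrictD (algebraMap A (Localization.Away f))).obj
        (Dual.inD (Localization.Away f) (Localization.Away f)) ≅ Y :=
      DFinD (ModuleCat.restrictScalars.{u} (algebraMap A (Localization.Away f)))
          (ModuleCat.of (Localization.Away f) (Localization.Away f)) ≪≫
        (DerivedCategory.singleFunctor (ModuleCat.{u} A) 0).mapIso el.toModuleIso
    let i2 := ((DRing.restrictD (algebraMap A (Localization.Away f))).commShiftIso (-n)).app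
      (Dual.inD (Localization.Away f) (Localization.Away f)) ≪≫ (shiftFunctor (Dual.D A) (-n)).mapIso i1
    have h1 := h ((Dual.inD (Localization.Away f) (Localization.Away f))⟦-n⟧)
    have h2 : Subsingleton (Y⟦-n⟧ ⟶ K) := @Equiv.subsingleton _ _ (Iso.homFromEquiv i2).symm h1
    exact @Equiv.subsingleton _ _ ((shiftEquiv (Dual.D A) n).symm.toAdjunction.homEquiv Y K).symm h2

end Groth.Agent.DR40
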