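import Groth.Agent.DR40.TensorTri
import Groth.Agent.DR40.DCHom
import Groth.Agent.DR39.Restrict
import Groth.Agent.DR39.KFlatBC
import Mathlib.Algebra.Module.Torsion.Basic

/-! Derived Nakayama for derived complete objects. -/

set_option autoImplicit false
set_option linter.style.haveILetI false
set_option linter.unusedSectionVars false

universe u

open CategoryTheory CategoryTheory.Limits CategoryTheory.Pretriangulated MonoidalCategory HomologicalComplex

attribute [local instance] HasDerivedCategory.standard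

namespace Groth.Agent.DR40

open Groth.Agent.DR39

variable {A : Type u} [CommRing A]

theorem quasiIso_whiskerLeft_of_kflat {P C C' : DRing.Cx A} (hP : DRing.IsKFlat A P) (α : C ⟶ C')
    [QuasiIso α] : QuasiIso (P ◁ α) := by
  haveI := DR39.quasiIso_whiskerRight hP α
  haveI : QuasiIso (symm' C P ≫ (P ◁ α)) := by rw [← symm'_naturality]; infer_instance
  exact quasiIso_of_comp_left (symm' C P) _

theorem nonempty_tensor_homology_iso {P C C' : DRing.Cx A} (hP : DRing.IsKFlat A P)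
    (e : (QA A).obj C ≅ (QA A).obj C') (i : ℤ) :
    Nonempty ((P ⊗ C).homology i ≅ (P ⊗ C').homology i) := by
  haveI : (SF.res C).IsKProjective := SF.isKProjective_res C
  haveI : IsIso ((QA A).map (SF.aug C)) :=
    (DerivedCategory.isIso_Q_map_iff_quasiIso (ModuleCat.{u} A) _).2 inferInstance
  obtain ⟨f, hf⟩ := DR39.Q_map_surjective (SF.res C) C' ((QA A).map (SF.aug C) ≫ e.hom)
  haveI : QuasiIso f := by
    rw [← DerivedCategory.isIso_Q_map_iff_quasiIso, hf]
    infer_instance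
  haveI := quasiIso_whiskerLeft_of_kflat hP (SF.aug C)
  haveI := quasiIso_whiskerLeft_of_kflat hP f
  exact ⟨(isoOfQuasiIsoAt (P ◁ SF.aug C) i).symm ≪≫ isoOfQuasiIsoAt (P ◁ f) i⟩

theorem isZero_tensor_of_acyclic {P C : DRing.Cx A} (hP : DRing.IsKFlat A P)
    (hC : ∀ j, IsZero (C.homology j)) (i : ℤ) : IsZero ((P ⊗ C).homology i) :=
  (hP C hC i).of_iso ((homologyFunctor _ _ i).mapIso (asIso (symm' P C)))

/-- `H^{≥m}(P ⊗ X) = 0`. -/
def Good (P : DRing.Cx A) (m : ℤ) (X : Dual.D A) : Prop :=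
  ∀ C : DRing.Cx A, Nonempty ((QA A).obj C ≅ X) → ∀ i, m ≤ i → IsZero ((P ⊗ C).homology i)

variable {P : DRing.Cx A} {m : ℤ} (hP : DRing.IsKFlat A P)

theorem Good.of_iso {X Y : Dual.D A} (h : Good P m X) (e : X ≅ Y) : Good P m Y :=
  fun C ⟨eC⟩ => h C ⟨eC ≪≫ e.symm⟩

include hP in
theorem good_of_rep {X : Dual.D A} (C : DRing.Cx A) (e : (QA A).obj C ≅ X)
    (h : ∀ i, m ≤ i → IsZero ((P ⊗ C).homology i)) : Good P m X := fun C' ⟨e'⟩ i hi => by
  obtain ⟨f⟩ := nonempty_tensor_homology_iso hP (e' ≪≫ e.symm) i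
  exact (h i hi).of_iso f

include hP in
theorem good_of_isZero {X : Dual.D A} (h : IsZero X) : Good P m X := fun C ⟨e⟩ i _ =>
  isZero_tensor_of_acyclic hP
    (fun j => (isZero_HF_Q_iff C j).1 ((HF A j).map_isZero (h.of_iso e))) i

theorem exists_cone_rep (T : Triangle (Dual.D A)) (hT : T ∈ distinguishedTriangles)
    (C₂ : DRing.Cx A) (e₂ : (QA A).obj C₂ ≅ T.obj₂) :
    ∃ (C₁ : DRing.Cx A) (_ : (QA A).obj C₁ ≅ T.obj₁) (f : C₁ ⟶ C₂),
      Nonempty ((QA A).obj (CochainComplex.mappingCone f) ≅ T.obj₃) := by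
  obtain ⟨K, ⟨e⟩⟩ := exists_complex_iso T.obj₁
  haveI : (SF.res K).IsKProjective := SF.isKProjective_res K
  haveI : IsIso ((QA A).map (SF.aug K)) :=
    (DerivedCategory.isIso_Q_map_iff_quasiIso (ModuleCat.{u} A) _).2 inferInstance
  let e₁ : (QA A).obj (SF.res K) ≅ T.obj₁ := asIso ((QA A).map (SF.aug K)) ≪≫ e
  obtain ⟨f, hf⟩ := DR39.Q_map_surjective (SF.res K) C₂ (e₁.hom ≫ T.mor₁ ≫ e₂.inv)
  let iso := isoTriangleOfIso₁₂ _ T (DerivedCategory.mappingCone_triangle_distinguished f) hT e₁ e₂ (by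
    change (QA A).map f ≫ e₂.hom = e₁.hom ≫ T.mor₁
    erw [hf]
    simp)
  exact ⟨_, e₁, f, ⟨Triangle.π₃.mapIso iso⟩⟩

include hP in
theorem Good.obj₂ {T : Triangle (Dual.D A)} (hT : T ∈ distinguishedTriangles)
    (h₁ : Good P m T.obj₁) (h₃ : Good P m T.obj₃) : Good P m T.obj₂ := by
  intro C₂ ⟨e₂⟩ i hi
  obtain ⟨C₁, e₁, f, e₃⟩ := exists_cone_rep T hT C₂ e₂
  exact (kflat_triangle _ (HomotopyCategory.mappingCone_triangleh_distinguished f) P i).2.1
    (h₁ C₁ ⟨e₁⟩ i hi) (h₃ _ e₃ i hi)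

include hP in
theorem Good.obj₃ {T : Triangle (Dual.D A)} (hT : T ∈ distinguishedTriangles)
    (h₁ : Good P m T.obj₁) (h₂ : Good P m T.obj₂) : Good P m T.obj₃ := by
  obtain ⟨C₂, ⟨e₂⟩⟩ := exists_complex_iso T.obj₂
  obtain ⟨C₁, e₁, f, ⟨e₃⟩⟩ := exists_cone_rep T hT C₂ e₂
  exact good_of_rep hP _ e₃ fun i hi =>
    (kflat_triangle _ (HomotopyCategory.mappingCone_triangleh_distinguished f) P i).1
      (h₁ C₁ ⟨e₁⟩ (i + 1) (by omega)) (h₂ C₂ ⟨e₂⟩ i hi)

include hP in
theorem Good.shift_one {X : Dual.D A} (h : Good P m X) : Good P m (X⟦(1 : ℤ)⟧) :=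
  Good.obj₃ hP (rot_of_distTriang _ (contractible_distinguished X)) h (good_of_isZero hP (isZero_zero _))
    |>.of_iso (Iso.refl _)

include hP in
theorem good_single (M : ModuleCat.{u} A) (h : Good P m (Dual.inD A M)) (k : ℤ) (hk : k ≤ 0) :
    Good P m ((DerivedCategory.singleFunctor (ModuleCat.{u} A) k).obj M) := by
  obtain ⟨j, rfl⟩ : ∃ j : ℕ, k = -(j : ℤ) := ⟨(-k).toNat, by omega⟩
  refine Good.of_iso ?_ (singleShiftIso M (-(j : ℤ)) j (by omega))
  induction j with
  | zero => exact h.of_iso ((shiftFunctorZero (Dual.D A) ℤ).app _).symm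
  | succ j ih =>
    exact ((ih (by omega)).shift_one hP).of_iso
      (((shiftFunctorAdd' (Dual.D A) (j : ℤ) 1 ((j + 1 : ℕ) : ℤ) (by push_cast; rfl)).app _).symm)

theorem exT_of_iso (E : DRing.Cx A) {M N : ModuleCat.{u} A} (e : M ≅ N) (i : ℤ) (h : ExT E M i) :
    ExT E N i := by
  rw [← isZero_tensorCx_iff] at h ⊢
  exact h.of_iso ((homologyFunctor _ _ i).mapIso
    ((NatIso.mapHomologicalComplex ((MonoidalCategory.curriedTensor (ModuleCat.{u} A)).flip.mapIso e)
      (ComplexShape.up ℤ)).app E)).symm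

open scoped TensorProduct in
theorem exT_of_extCx {B : Type u} [CommRing B] (φ : A →+* B) (E : DRing.Cx A) (M : ModuleCat.{u} B)
    (i : ℤ) (h : ExT (extCx φ E) M i) : ExT E ((ModuleCat.restrictScalars φ).obj M) i := by
  letI := φ.toAlgebra
  letI : Module A M := Module.compHom M φ
  haveI : IsScalarTower A B M := ⟨fun a b x => by
    show (φ a * b) • x = φ a • b • x
    rw [mul_smul]⟩
  rw [exT_iff_exact] at h ⊢
  let e : ∀ k, ((extCx φ E).X k ⊗[B] M) ≃+ (E.X k ⊗[A] M) := fun k =>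
    (show ((B ⊗[A] E.X k) ⊗[B] M) ≃+ (E.X k ⊗[A] M) from
      (TensorProduct.comm B (B ⊗[A] E.X k) M).toAddEquiv.trans (cancelX (B := B) (E.X k) M))
  have key : ∀ (j k : ℤ) (z : (extCx φ E).X j ⊗[B] M),
      (E.d j k).hom.rTensor M (e j z) = e k (((extCx φ E).d j k).hom.rTensor M z) := by
    intro j k z
    induction z using TensorProduct.induction_on with
    | zero => simp
    | add x y hx hy => simp only [map_add, hx, hy]
    | tmul w x =>
      exact DFunLike.congr_fun (cancelX_natural (B := B) (E.d j k).hom M) (x ⊗ₜ[B] w)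
  exact (Function.Exact.iff_of_ladder_addEquiv (e₁ := e (i - 1)) (e₂ := e i) (e₃ := e (i + 1))
    (f₁₂ := (((extCx φ E).d (i - 1) i).hom.rTensor M).toAddMonoidHom)
    (f₂₃ := (((extCx φ E).d i (i + 1)).hom.rTensor M).toAddMonoidHom)
    (g₁₂ := ((E.d (i - 1) i).hom.rTensor M).toAddMonoidHom)
    (g₂₃ := ((E.d i (i + 1)).hom.rTensor M).toAddMonoidHom)
    (AddMonoidHom.ext (key _ _)) (AddMonoidHom.ext (key _ _))).2 h

include hP in
theorem exT_of_killed {B : Type u} [CommRing B] (φ : A →+* B)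
    (h : ∀ j, m ≤ j → ExT P ((ModuleCat.restrictScalars φ).obj (ModuleCat.of B B)) j)
    (M : ModuleCat.{u} B) (i : ℤ) (hi : m ≤ i) : ExT P ((ModuleCat.restrictScalars φ).obj M) i := by
  apply exT_of_extCx
  let τ := (NatIso.mapHomologicalComplex (extendRestrictIso φ) (ComplexShape.up ℤ)).app P
  have hz : ∀ j, m ≤ j → IsZero ((extCx φ P).homology j) := fun j hj => by
    refine isZero_of_isZero_restrict φ _ (IsZero.of_iso ?_ (((extCx φ P).sc j).mapHomologyIso
      (ModuleCat.restrictScalars.{u} φ)).symm)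
    exact ((isZero_tensorCx_iff P _ j).2 (h j hj)).of_iso ((homologyFunctor _ _ j).mapIso τ)
  obtain ⟨F, hFv, hF, ⟨e⟩⟩ := rep_free_of_acyc (X := (QA B).obj (extCx φ P)) (b := m - 1)
    fun j hj => (isZero_HF_Q_iff _ j).2 (hz j (by omega))
  obtain ⟨f⟩ := tensor_iso (isKFlat_extendScalars φ P hP) (isKFlat_of_rep (fun _ => flat_of_FR) hFv hF)
    e.symm M i
  refine (isZero_tensorCx_iff _ M i).1 (IsZero.of_iso ((isZero_tensorCx_iff F M i).2 ?_) f)
  haveI := ModuleCat.subsingleton_of_isZero (hFv i fun h => absurd (Set.mem_Iic.1 h) (by omega))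
  exact fun x _ => ⟨0, Subsingleton.elim _ _⟩

variable (I : Ideal A)

include hP in
theorem good_of_killed (h : ∀ j, m ≤ j → ExT P (ModuleCat.of A (A ⧸ I)) j) (M : Type u) [AddCommGroup M]
    [Module A M] (hM : ∀ a ∈ I, ∀ x : M, a • x = 0) : Good P m (Dual.inD A M) := by
  letI : Module (A ⧸ I) M :=
    Module.IsTorsionBySet.module (I := I) (fun x a => hM a a.2 x)
  let φ := Ideal.Quotient.mk I
  let e₀ : ((ModuleCat.restrictScalars φ).obj (ModuleCat.of (A ⧸ I) (A ⧸ I))) ≃ₗ[A] (A ⧸ I) :=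
    { AddEquiv.refl (A ⧸ I) with map_smul' := fun a x => rfl }
  let eM : ((ModuleCat.restrictScalars φ).obj (ModuleCat.of (A ⧸ I) M)) ≃ₗ[A] M :=
    { AddEquiv.refl M with map_smul' := fun a x => rfl }
  refine good_of_rep hP (sgl (ModuleCat.of A M)) (Iso.refl _) fun i hi => ?_
  refine IsZero.of_iso ?_ (isoOfQuasiIsoAt (toSingleTensor P (ModuleCat.of A M)) i).symm
  exact (isZero_tensorCx_iff P _ i).2 (exT_of_iso P eM.toModuleIso i
    (exT_of_killed hP φ (fun j hj => exT_of_iso P e₀.symm.toModuleIso j (h j hj))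
      (ModuleCat.of (A ⧸ I) M) i hi))

include hP in
theorem good_of_killed_pow (h : ∀ j, m ≤ j → ExT P (ModuleCat.of A (A ⧸ I)) j) (n : ℕ) :
    ∀ (M : Type u) [AddCommGroup M] [Module A M], (∀ a ∈ I ^ n, ∀ x : M, a • x = 0) →
      Good P m (Dual.inD A M) := by
  induction n with
  | zero =>
    intro M _ _ hM
    exact good_of_killed hP I h M fun a _ x => by
      rw [show x = 0 by simpa using hM 1 (by simp) x, smul_zero]
  | succ n ih =>
    intro M _ _ hM
    let N : Submodule A M := I • ⊤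
    obtain ⟨T, hT, e1, e2, e3⟩ := exists_triangle_of_surjective N.mkQ N.mkQ_surjective
    rw [← e2]
    refine Good.obj₂ hP hT ?_ ?_
    · rw [e1]
      refine ih _ fun a ha x => ?_
      have hx : (x : M) ∈ N := (Submodule.Quotient.mk_eq_zero N).1 (LinearMap.mem_ker.1 x.2)
      apply Subtype.ext
      show a • (x : M) = 0
      refine Submodule.smul_induction_on hx (fun s hs y _ => ?_) fun y z hy hz => ?_
      · rw [smul_smul]
        exact hM _ (by rw [pow_succ]; exact Ideal.mul_mem_mul ha hs) y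
      · rw [smul_add, hy, hz, add_zero]
    · rw [e3]
      refine good_of_killed hP I h _ fun a ha x => ?_
      obtain ⟨y, rfl⟩ := N.mkQ_surjective x
      rw [← map_smul]
      exact (Submodule.Quotient.mk_eq_zero N).2 (Submodule.smul_mem_smul ha trivial)

theorem smul_smul_eq_zero_of_exact {N₁ N₂ Y N₄ N₅ : ModuleCat.{u} A} (a : N₁ ⟶ N₂) (b : N₂ ⟶ Y)
    (c : Y ⟶ N₄) (d : N₄ ⟶ N₅) (hab : LinearMap.range a.hom = LinearMap.ker b.hom)
    (hbc : LinearMap.range b.hom = LinearMap.ker c.hom) (hcd : LinearMap.range c.hom = LinearMap.ker d.hom)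
    (h : A) (h₂ : ∀ y : N₂, h • y ∈ LinearMap.range a.hom) (h₄ : ∀ w, d.hom w = 0 → h • w = 0) (x : Y) :
    (h * h) • x = 0 := by
  have hx : h • x ∈ LinearMap.ker c.hom := by
    rw [LinearMap.mem_ker, map_smul]
    exact h₄ _ (LinearMap.mem_ker.1 (hcd ▸ LinearMap.mem_range_self _ x))
  rw [← hbc] at hx
  obtain ⟨y, hy⟩ := hx
  rw [mul_smul, ← hy, ← map_smul]
  have := h₂ y
  rw [hab] at this
  exact LinearMap.mem_ker.1 this

theorem isZero_of_exact {N₂ Y N₄ : ModuleCat.{u} A} (b : N₂ ⟶ Y) (c : Y ⟶ N₄)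
    (hbc : LinearMap.range b.hom = LinearMap.ker c.hom) (h₂ : IsZero N₂) (h₄ : IsZero N₄) : IsZero Y := by
  haveI := ModuleCat.subsingleton_of_isZero h₂
  haveI := ModuleCat.subsingleton_of_isZero h₄
  refine isZero_of_subsingleton' Y (subsingleton_of_forall_eq 0 fun x => ?_)
  have hx : x ∈ LinearMap.ker c.hom := Subsingleton.elim _ _
  rw [← hbc] at hx
  obtain ⟨y, rfl⟩ := hx
  rw [Subsingleton.elim y 0, map_zero]

theorem cone_homology_killed (C : DRing.Cx A) (f : A) :
    (∀ n, IsZero (C.homology n) → IsZero (C.homology (n + 1)) →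
      IsZero ((CochainComplex.mappingCone (f • 𝟙 C)).homology n)) ∧
    (∀ (n : ℤ) (x : (CochainComplex.mappingCone (f • 𝟙 C)).homology n), f ^ 2 • x = 0) ∧
    (∀ h : A, (∀ (n : ℤ) (x : C.homology n), h • x = 0) →
      ∀ (n : ℤ) (x : (CochainComplex.mappingCone (f • 𝟙 C)).homology n), (h * h) • x = 0) := by
  let φ : C ⟶ C := f • 𝟙 C
  have hT := DerivedCategory.mappingCone_triangle_distinguished φ
  let a : ∀ n, (HF A n).obj ((QA A).obj C) ⟶ (HF A n).obj ((QA A).obj C) := fun n =>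
    (HF A n).map ((QA A).map φ)
  have hf : ∀ (n : ℤ) (y : (HF A n).obj ((QA A).obj C)), (a n).hom y = f • y :=
    fun n y => by
      apply (HQIso C n).toLinearEquiv.injective
      have := LinearMap.congr_fun (congrArg ModuleCat.Hom.hom (HQIso_naturality φ n)) y
      refine this.trans ?_
      show (homologyMap φ n).hom ((HQIso C n).hom.hom y) = _
      rw [homologyMap_smul_id_apply, map_smul]
      rfl
  have hex : ∀ n : ℤ, ∃ (b : (HF A n).obj ((QA A).obj C) ⟶ (HF A n).obj ((QA A).obj (CochainComplex.mappingCone φ)))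
      (c : (HF A n).obj ((QA A).obj (CochainComplex.mappingCone φ)) ⟶ (HF A (n + 1)).obj ((QA A).obj C)),
      LinearMap.range (a n).hom = LinearMap.ker b.hom ∧ LinearMap.range b.hom = LinearMap.ker c.hom ∧
        LinearMap.range c.hom = LinearMap.ker (a (n + 1)).hom := fun n =>
    ⟨_, _, (DerivedCategory.HomologySequence.exact₂ _ hT n).moduleCat_range_eq_ker,
      (DerivedCategory.HomologySequence.exact₃ _ hT n (n + 1) rfl).moduleCat_range_eq_ker,
      (DerivedCategory.HomologySequence.exact₁ _ hT n (n + 1) rfl).moduleCat_range_eq_ker⟩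
  have tr : ∀ (h : A) (n : ℤ), (∀ x : C.homology n, h • x = 0) →
      ∀ y : (HF A n).obj ((QA A).obj C), h • y = 0 := fun h n hh y => by
    apply (HQIso C n).toLinearEquiv.injective
    rw [map_smul, hh, map_zero]
  refine ⟨fun n z1 z2 => ?_, fun n x => ?_, fun h hh n x => ?_⟩ <;> obtain ⟨b, c, h1, h2, h3⟩ := hex n
  · exact (isZero_HF_Q_iff _ n).1 (isZero_of_exact b c h2 ((isZero_HF_Q_iff C n).2 z1)
      ((isZero_HF_Q_iff C (n + 1)).2 z2))
  · apply (HQIso (CochainComplex.mappingCone φ) n).toLinearEquiv.symm.injective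
    rw [map_smul, map_zero, sq]
    exact smul_smul_eq_zero_of_exact _ b c _ h1 h2 h3 f (fun y => ⟨y, hf n y⟩)
      (fun w hw => (hf (n + 1) w).symm.trans hw) _
  · apply (HQIso (CochainComplex.mappingCone φ) n).toLinearEquiv.symm.injective
    rw [map_smul, map_zero]
    exact smul_smul_eq_zero_of_exact _ b c _ h1 h2 h3 h (fun y => ⟨0, by rw [map_zero, tr h n (hh n) y]⟩)
      (fun w _ => tr h (n + 1) (hh (n + 1)) w) _

include hP in
theorem derived_nakayama (hI : I.FG) (hc : ∀ g ∈ I, ∀ n, DCM.Comp g (P.homology n))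
    (h : ∀ j, m ≤ j → ExT P (ModuleCat.of A (A ⧸ I)) j) : ∀ i, m ≤ i → IsZero (P.homology i) := by
  classical
  obtain ⟨t, rfl⟩ := hI
  have key : ∀ s : List A, (∀ f ∈ s, f ∈ t) → ∀ (C : DRing.Cx A) (a : ℤ),
      (∀ n, n < a ∨ 0 < n → IsZero (C.homology n)) →
      (∀ g ∈ Submodule.span A (t : Set A), ∀ i, DCM.Comp g ((P ⊗ C).homology i)) →
      (∀ f ∈ t, f ∉ s → ∃ e : ℕ, ∀ (n : ℤ) (x : C.homology n), f ^ e • x = 0) →
      ∀ i, m ≤ i → IsZero ((P ⊗ C).homology i) := by
    intro s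
    induction s with
    | nil =>
      intro _ C a hC _ hk i hi
      choose e he using fun f : {x // x ∈ t} => hk f f.2 (by simp)
      let E := t.attach.sup e
      have hpow : ∀ (f : A), f ∈ t → ∀ (n : ℤ) (x : C.homology n), f ^ E • x = 0 := fun f hf n x => by
        obtain ⟨k, hk'⟩ := Nat.exists_eq_add_of_le (Finset.le_sup (f := e) (Finset.mem_attach t ⟨f, hf⟩))
        show f ^ t.attach.sup e • x = 0
        rw [hk', pow_add, mul_comm, mul_smul, he ⟨f, hf⟩ n x, smul_zero]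
      have hkill : ∀ (n : ℤ), ∀ r ∈ Submodule.span A (t : Set A) ^ (t.card * E + 1),
          ∀ x : C.homology n, r • x = 0 := fun n r hr x => by
        have hr' := DCM.span_pow_le t E hr
        have : Ideal.span ((fun x => x ^ E) '' (t : Set A)) ≤ LinearMap.ker (LinearMap.toSpanSingleton A _ x) := by
          rw [Ideal.span_le]
          rintro _ ⟨f, hf, rfl⟩
          exact hpow f hf n x
        exact this hr'
      refine (?_ : Good P m ((QA A).obj C)) C ⟨Iso.refl _⟩ i hi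
      refine induction_homology (P := Good P m) (fun e hX => hX.of_iso e)
        (fun T hT h1 h3 => Good.obj₂ hP hT h1 h3) a _ (fun Y hY hlow => good_of_isZero hP
          (isZero_of_forall fun j => ?_)) (fun j hj => ?_) 1 fun j hj => (isZero_HF_Q_iff C j).2 (hC j (Or.inr (by omega)))
      · by_cases hj : a ≤ j
        · exact hY j hj
        · obtain ⟨e'⟩ := hlow j (by omega)
          exact ((isZero_HF_Q_iff C j).2 (hC j (Or.inl (by omega)))).of_iso e'
      · by_cases hj0 : j ≤ 0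
        · refine good_single hP _ ((good_of_killed_pow hP _ h (t.card * E + 1) _ fun r hr x => ?_)) j hj0
          apply (HQIso C j).toLinearEquiv.injective
          rw [map_smul, hkill j r hr, map_zero]
        · exact good_of_isZero hP (Functor.map_isZero _
            ((isZero_HF_Q_iff C j).2 (hC j (Or.inr (by omega)))))
    | cons f s ih =>
      intro hs C a hC hcC hk i hi
      have hft : f ∈ t := hs f (List.mem_cons_self ..)
      obtain ⟨hz, hf2, hh⟩ := cone_homology_killed C f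
      have := ih (fun g hg => hs g (List.mem_cons_of_mem _ hg)) (CochainComplex.mappingCone (f • 𝟙 C)) (a - 1)
        (fun n hn => hz n (hC n (by omega)) (hC (n + 1) (by omega)))
        (fun g hg j => comp_triangle P _
          (HomotopyCategory.mappingCone_triangleh_distinguished (f • 𝟙 C)) g j (hcC g hg j) (hcC g hg j)
          (hcC g hg (j + 1)) (hcC g hg (j + 1)))
        (fun g hg hgs => by
          by_cases hgf : g = f
          · subst hgf; exact ⟨2, hf2⟩
          · obtain ⟨e, he⟩ := hk g hg (by simp [hgf, hgs])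
            exact ⟨e + e, fun n x => by rw [pow_add]; exact hh _ he n x⟩)
        i hi
      have hsurj := smul_surjective_of_cone P C f i this
      rw [ModuleCat.isZero_iff_subsingleton]
      exact subsingleton_of_forall_eq 0
        (DCM.eq_zero_of_surjective (hcC f (Submodule.subset_span hft) i) hsurj)
  intro i hi
  have hu : ∀ n : ℤ, n < 0 ∨ 0 < n → IsZero ((𝟙_ (DRing.Cx A)).homology n) := fun n hn =>
    HomologicalComplex.isZero_single_obj_homology _ _ _ _ (by omega)
  refine IsZero.of_iso ?_ ((homologyFunctor _ _ i).mapIso (ρ_ P)).symm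
  exact key t.toList (fun f hf => Finset.mem_toList.1 hf) (𝟙_ (DRing.Cx A)) 0 hu
    (fun g hg j => DCM.comp_equiv ((homologyFunctor _ _ j).mapIso (ρ_ P)).symm.toLinearEquiv (hc g hg j))
    (fun f hf hfs => absurd (Finset.mem_toList.2 hf) hfs) i hi

theorem derived_nakayama_D (hI : I.FG) [DRing.HasLTensor A (ModuleCat.of A (A ⧸ I))] (K : Dual.D A)
    (hc : DRing.IsDerivedComplete I K) (m : ℤ)
    (h : ∀ j, m ≤ j → Subsingleton (Dual.HD A ((DRing.LTensor A (ModuleCat.of A (A ⧸ I))).obj K) j)) :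
    ∀ i, m ≤ i → Subsingleton (Dual.HD A K i) := by
  obtain ⟨C, ⟨e⟩⟩ := exists_complex_iso K
  haveI : (SF.res C).IsKProjective := SF.isKProjective_res C
  haveI : IsIso ((QA A).map (SF.aug C)) :=
    (DerivedCategory.isIso_Q_map_iff_quasiIso (ModuleCat.{u} A) _).2 inferInstance
  have hP : DRing.IsKFlat A (SF.res C) := isKFlat_of_isKProjective
  let eP : (QA A).obj (SF.res C) ≅ K := asIso ((QA A).map (SF.aug C)) ≪≫ e
  have hex : ∀ j, m ≤ j → ExT (SF.res C) (ModuleCat.of A (A ⧸ I)) j := fun j hj => by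
    refine (isZero_tensorCx_iff _ _ j).1 ((isZero_HF_Q_iff _ j).1 (((isZero_HF_iff _ j).2 (h j hj)).of_iso
      ((HF A j).mapIso ((LTensorIso _ _ hP).symm ≪≫ (DRing.LTensor A _).mapIso eP))))
  have hcP : ∀ g ∈ I, ∀ n, DCM.Comp g ((SF.res C).homology n) := fun g hg n =>
    DCM.comp_equiv (((HF A n).mapIso eP.symm) ≪≫ HQIso _ n).toLinearEquiv
      ((isDerivedComplete_iff I K).1 hc g hg n)
  exact fun i hi => (isZero_HF_iff K i).1
    (((isZero_HF_Q_iff _ i).2 (derived_nakayama hP I hI hcP hex i hi)).of_iso ((HF A i).mapIso eP.symm))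

theorem LTensor_nonpos (M : ModuleCat.{u} A) [DRing.HasLTensor A M] (K : Dual.D A)
    (hK : ∀ i : ℤ, 0 < i → Subsingleton (Dual.HD A K i)) (i : ℤ) (hi : 0 < i) :
    Subsingleton (Dual.HD A ((DRing.LTensor A M).obj K) i) := by
  obtain ⟨F, hFv, hF, ⟨e⟩⟩ := rep_free_of_acyc (X := K) (b := 0) (acyc_of_subsingleton hK)
  rw [← isZero_HF_iff]
  refine IsZero.of_iso ((isZero_HF_Q_iff _ i).2 ((isZero_tensorCx_iff F M i).2 ?_))
    ((HF A i).mapIso ((DRing.LTensor A M).mapIso e.symm ≪≫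
      LTensorIso M F (isKFlat_of_rep (fun _ => flat_of_FR) hFv hF)))
  haveI := ModuleCat.subsingleton_of_isZero (hFv i fun h => absurd (Set.mem_Iic.1 h) (by omega))
  exact fun x _ => ⟨0, Subsingleton.elim _ _⟩

end Groth.Agent.DR40
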