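import Groth.Agent.DR40.RHomTri
import Groth.Prelude.Def_DerCA
import Mathlib.Algebra.Homology.HomotopyCategory.MappingCocone
import Mathlib.Algebra.Homology.HomotopyCategory.HomComplexSingle
import Mathlib.LinearAlgebra.Finsupp.LSum

/-! Derived completion as `RHom` out of the extended Cech complex. -/

set_option autoImplicit false
set_option linter.style.haveILetI false
set_option linter.unusedSectionVars false

universe u

open CategoryTheory CategoryTheory.Limits CategoryTheory.Pretriangulated CochainComplex.HomComplex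

attribute [local instance] HasDerivedCategory.standard

namespace Groth.Agent.DR40

open Groth.Agent.DR39

variable {A : Type u} [CommRing A]

/-! ### Countable sums and torsion -/

/-- The sum of countably many copies. -/
noncomputable def sumCx (P : DRing.Cx A) : DRing.Cx A where
  X i := ModuleCat.of A (ℕ →₀ P.X i)
  d i j := ModuleCat.ofHom (Finsupp.mapRange.linearMap (P.d i j).hom)
  shape i j h := by rw [P.shape i j h]; ext; simp
  d_comp_d' i j k _ _ := ModuleCat.hom_ext (Finsupp.lhom_ext fun n x => by simp [d_apply_d])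

/-- The inclusion of a summand. -/
noncomputable def sumι (P : DRing.Cx A) (n : ℕ) : P ⟶ sumCx P where
  f i := ModuleCat.ofHom (Finsupp.lsingle n)
  comm' i j _ := by
    refine ModuleCat.hom_ext (LinearMap.ext fun x => ?_)
    show Finsupp.mapRange.linearMap (P.d i j).hom (Finsupp.single n x) = Finsupp.single n ((P.d i j).hom x)
    rw [Finsupp.mapRange.linearMap_apply, Finsupp.mapRange_single]

/-- The map out of the sum. -/
noncomputable def sumDesc {P L : DRing.Cx A} (v : ℕ → (P ⟶ L)) : sumCx P ⟶ L where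
  f i := ModuleCat.ofHom (X := ℕ →₀ P.X i) (Y := L.X i) (Finsupp.lsum A fun n => ((v n).f i).hom)
  comm' i j _ := ModuleCat.hom_ext (Finsupp.lhom_ext fun n x => by simp [sumCx, f_apply_d])

theorem sumι_desc {P L : DRing.Cx A} (v : ℕ → (P ⟶ L)) (n : ℕ) : sumι P n ≫ sumDesc v = v n := by
  ext i x
  simp [sumι, sumDesc, sumCx]

theorem sum_hom_ext {P L : DRing.Cx A} {a b : sumCx P ⟶ L} (h : ∀ n, sumι P n ≫ a = sumι P n ≫ b) : a = b :=
  HomologicalComplex.hom_ext _ _ fun i => ModuleCat.hom_ext (Finsupp.lhom_ext fun n x =>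
    congrArg (fun t : P ⟶ L => (t.f i).hom x) (h n))

/-- Homotopies glue. -/
noncomputable def sumHomotopy {P L : DRing.Cx A} (v : ℕ → (P ⟶ L)) (h : ∀ n, Homotopy (v n) 0) :
    Homotopy (sumDesc v) 0 where
  hom i j := ModuleCat.ofHom (X := ℕ →₀ P.X i) (Y := L.X j) (Finsupp.lsum A fun n => ((h n).hom i j).hom)
  zero i j hij := ModuleCat.hom_ext (Finsupp.lhom_ext fun n x => by
    show Finsupp.lsum A (fun n => ((h n).hom i j).hom) (Finsupp.single n x) = 0
    simp [(h n).zero i j hij])
  comm i := by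
    rw [dNext_eq _ (show (ComplexShape.up ℤ).Rel i (i + 1) from rfl),
      prevD_eq _ (show (ComplexShape.up ℤ).Rel (i - 1) i from sub_add_cancel i 1)]
    refine ModuleCat.hom_ext (Finsupp.lhom_ext fun n x => ?_)
    have hc := congrArg (fun t : P.X i ⟶ L.X i => t.hom x) ((h n).comm i)
    rw [dNext_eq _ (show (ComplexShape.up ℤ).Rel i (i + 1) from rfl),
      prevD_eq _ (show (ComplexShape.up ℤ).Rel (i - 1) i from sub_add_cancel i 1)] at hc
    show Finsupp.lsum A (fun n => ((v n).f i).hom) (Finsupp.single n x) =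
      Finsupp.lsum A (fun n => ((h n).hom (i + 1) i).hom)
          (Finsupp.mapRange.linearMap (P.d i (i + 1)).hom (Finsupp.single n x)) +
        (L.d (i - 1) i).hom (Finsupp.lsum A (fun n => ((h n).hom i (i - 1)).hom) (Finsupp.single n x)) + 0
    simpa using hc

theorem isKProjective_sumCx (P : DRing.Cx A) [P.IsKProjective] : (sumCx P).IsKProjective where
  nonempty_homotopy_zero {_} f hL :=
    ⟨(Homotopy.ofEq (sum_hom_ext fun n => (sumι_desc (fun n => sumι P n ≫ f) n).symm)).trans
      (sumHomotopy _ fun n => CochainComplex.IsKProjective.homotopyZero (sumι P n ≫ f) hL)⟩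

/-- `e_n ↦ e_n - f e_{n+1}`. -/
noncomputable def sumT (f : A) (P : DRing.Cx A) : sumCx P ⟶ sumCx P :=
  sumDesc fun n => sumι P n - f • sumι P (n + 1)

/-- The components of `sumT`. -/
noncomputable def tL (f : A) (M : Type u) [AddCommGroup M] [Module A M] : (ℕ →₀ M) →ₗ[A] (ℕ →₀ M) :=
  Finsupp.lsum A fun n => Finsupp.lsingle n - f • Finsupp.lsingle (n + 1)

theorem sumT_f (f : A) (P : DRing.Cx A) (i : ℤ) : ((sumT f P).f i).hom = tL f (P.X i) :=
  Finsupp.lhom_ext fun n x => by
    show Finsupp.lsum A (fun m => ((sumι P m - f • sumι P (m + 1) : P ⟶ sumCx P).f i).hom) (Finsupp.single n x) =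
      tL f (P.X i) (Finsupp.single n x)
    rw [tL, Finsupp.lsum_single, Finsupp.lsum_single]
    rfl

theorem tL_single (f : A) (M : Type u) [AddCommGroup M] [Module A M] (n : ℕ) (x : M) :
    tL f M (Finsupp.single n x) = Finsupp.single n x - Finsupp.single (n + 1) (f • x) := by
  simp [tL]

theorem tL_apply (f : A) (M : Type u) [AddCommGroup M] [Module A M] (w : ℕ →₀ M) :
    tL f M w 0 = w 0 ∧ ∀ k, tL f M w (k + 1) = w (k + 1) - f • w k := by
  induction w using Finsupp.induction_linear with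
  | zero => simp
  | add a b ha hb =>
    refine ⟨by simp [ha.1, hb.1], fun k => ?_⟩
    simp [ha.2, hb.2, smul_add]
    abel
  | single n x =>
    rw [tL_single]
    refine ⟨by simp, fun k => ?_⟩
    simp [Finsupp.single_apply, smul_ite]

/-- Every class is killed by a power of `f`. -/
def Tors (f : A) (C : DRing.Cx A) : Prop :=
  ∀ (i : ℤ) (x : C.homology i), ∃ N : ℕ, f ^ N • x = 0

theorem quasiIso_sumT (f : A) (P : DRing.Cx A) (h : Tors f P) : QuasiIso (sumT f P) := by
  refine ⟨fun i => quasiIsoAt_of_elements _ i (fun (w : ℕ →₀ P.X i) hw (y : ℕ →₀ P.X (i - 1)) hy => ?_)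
    fun (z : ℕ →₀ P.X i) hz => ?_⟩
  · classical
    have hy' : Finsupp.mapRange.linearMap (α := ℕ) (P.d (i - 1) i).hom y = tL f (P.X i) w := by
      rw [← sumT_f]; exact hy
    have hmem : ∀ n, w n ∈ LinearMap.range (P.d (i - 1) i).hom := by
      intro n
      induction n with
      | zero => exact ⟨y 0, (DFunLike.congr_fun hy' 0).trans (tL_apply f _ w).1⟩
      | succ n ih =>
        have h1 : (P.d (i - 1) i).hom (y (n + 1)) = w (n + 1) - f • w n :=
          (DFunLike.congr_fun hy' (n + 1)).trans ((tL_apply f _ w).2 n)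
        have : w (n + 1) = (P.d (i - 1) i).hom (y (n + 1)) + f • w n := by rw [h1, sub_add_cancel]
        rw [this]
        exact Submodule.add_mem _ ⟨_, rfl⟩ (Submodule.smul_mem _ _ ih)
    choose x hx using hmem
    refine ⟨(∑ n ∈ w.support, Finsupp.single n (x n) : ℕ →₀ P.X (i - 1)), ?_⟩
    show Finsupp.mapRange.linearMap (P.d (i - 1) i).hom _ = w
    rw [map_sum]
    refine Eq.trans (Finset.sum_congr rfl fun n _ => ?_) w.sum_single
    rw [Finsupp.mapRange.linearMap_apply, Finsupp.mapRange_single, hx]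
  · let G : Submodule A (ℕ →₀ P.X i) :=
      (LinearMap.ker (Finsupp.mapRange.linearMap (α := ℕ) (P.d i (i + 1)).hom)).map (tL f (P.X i)) ⊔
        LinearMap.range (Finsupp.mapRange.linearMap (α := ℕ) (P.d (i - 1) i).hom)
    have hz'' : Finsupp.mapRange.linearMap (α := ℕ) (P.d i (i + 1)).hom z = 0 := hz
    have hz' : ∀ n, (P.d i (i + 1)).hom (z n) = 0 := fun n => DFunLike.congr_fun hz'' n
    have hG : ∀ n (c : P.X i), (P.d i (i + 1)).hom c = 0 → Finsupp.single n c ∈ G := by
      have step : ∀ N : ℕ, ∀ n (c : P.X i), (P.d i (i + 1)).hom c = 0 →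
          (∃ y, (P.d (i - 1) i).hom y = f ^ N • c) → Finsupp.single n c ∈ G := by
        intro N
        induction N with
        | zero =>
          rintro n c - ⟨y, hy⟩
          exact Submodule.mem_sup_right ⟨Finsupp.single n y, by simp [hy]⟩
        | succ N ih =>
          rintro n c hc ⟨y, hy⟩
          have h1 : Finsupp.single (n + 1) (f • c) ∈ G :=
            ih (n + 1) (f • c) (by rw [map_smul, hc, smul_zero])
              ⟨y, by rw [hy, pow_succ, mul_smul]⟩
          have h2 : Finsupp.single n c - Finsupp.single (n + 1) (f • c) ∈ G :=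
            Submodule.mem_sup_left ⟨Finsupp.single n c, by simp [hc], tL_single f (P.X i) n c⟩
          simpa using G.add_mem h2 h1
      intro n c hc
      obtain ⟨N, hN⟩ := h i (hcls P i ⟨c, hc⟩)
      rw [← map_smul, hcls_eq_zero_iff] at hN
      obtain ⟨y, hy⟩ := hN
      exact step N n c hc ⟨y, hy⟩
    have hzG : z ∈ G := by
      rw [← z.sum_single]
      exact Submodule.sum_mem _ fun n _ => hG n _ (hz' n)
    obtain ⟨a, ⟨x, hx, hxa⟩, b, ⟨y, hyb⟩, hab⟩ := Submodule.mem_sup.1 hzG
    refine ⟨x, hx, (-y : ℕ →₀ P.X (i - 1)), ?_⟩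
    show Finsupp.mapRange.linearMap (P.d (i - 1) i).hom (-y) = (show ℕ →₀ P.X i from ((sumT f P).f i).hom x) - z
    rw [map_neg, hyb, sumT_f]
    show -b = tL f (P.X i) x - z
    rw [hxa]
    rw [← hab]
    abel

theorem Tors.of_iso {f : A} {C D : DRing.Cx A} (h : Tors f C) (e : ∀ i, C.homology i ≅ D.homology i) :
    Tors f D := fun i x => by
  obtain ⟨N, hN⟩ := h i ((e i).toLinearEquiv.symm x)
  exact ⟨N, (e i).toLinearEquiv.symm.injective (by rw [map_smul, hN, map_zero])⟩

theorem comp_hom_of_tors (f : A) (C : DRing.Cx A) (h : Tors f C) (Y : Dual.D A) :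
    DCM.Comp f ((QA A).obj C ⟶ Y) := by
  obtain ⟨L, ⟨eL⟩⟩ := exists_complex_iso Y
  haveI : (SF.res C).IsKProjective := SF.isKProjective_res C
  let P := SF.res C
  haveI := isKProjective_sumCx P
  haveI := quasiIso_sumT f P (h.of_iso fun i => (isoOfQuasiIsoAt (SF.aug C) i).symm)
  haveI hT : IsIso ((QA A).map (sumT f P)) :=
    (DerivedCategory.isIso_Q_map_iff_quasiIso (ModuleCat.{u} A) _).2 inferInstance
  haveI := (DerivedCategory.isIso_Q_map_iff_quasiIso (ModuleCat.{u} A) (SF.aug C)).2 inferInstance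
  let e : (QA A).obj P ≅ (QA A).obj C := asIso ((QA A).map (SF.aug C))
  let Φ : ((QA A).obj (sumCx P) ⟶ (QA A).obj L) → (ℕ → ((QA A).obj C ⟶ Y)) :=
    fun w n => e.inv ≫ ((QA A).map (sumι P n) ≫ w) ≫ eL.hom
  have hΦ : Function.Bijective Φ := by
    refine ⟨fun w w' hw => ?_, fun y => ?_⟩
    · obtain ⟨v, rfl⟩ := DR39.Q_map_surjective (sumCx P) L w
      obtain ⟨v', rfl⟩ := DR39.Q_map_surjective (sumCx P) L w'
      have hn : ∀ n, Nonempty (Homotopy (sumι P n ≫ (v - v')) 0) := fun n => by
        refine (DR39.Q_map_eq_iff _ _).1 ?_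
        have h1 := congrFun hw n
        simp only [Φ, cancel_epi, cancel_mono] at h1
        rw [Functor.map_comp, Functor.map_sub, Preadditive.comp_sub, Functor.map_zero, sub_eq_zero]
        exact h1
      have h2 : sumDesc (fun n => sumι P n ≫ (v - v')) = v - v' := sum_hom_ext fun n => sumι_desc _ n
      have h3 := DerivedCategory.Q_map_eq_of_homotopy (C := ModuleCat.{u} A)
        (sumHomotopy _ fun n => (hn n).some)
      rw [h2, Functor.map_sub, Functor.map_zero, sub_eq_zero] at h3
      exact h3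
    · choose v hv using fun n => DR39.Q_map_surjective P L (e.hom ≫ y n ≫ eL.inv)
      refine ⟨(QA A).map (sumDesc v), funext fun n => ?_⟩
      show e.inv ≫ (DerivedCategory.Q.map (sumι P n) ≫ DerivedCategory.Q.map (sumDesc v)) ≫ eL.hom = y n
      rw [← Functor.map_comp, sumι_desc, hv]
      simp
  have hsq : ∀ w, DCM.T f ((QA A).obj C ⟶ Y) (Φ w) = Φ ((QA A).map (sumT f P) ≫ w) := fun w => funext fun n => by
    rw [DCM.T_apply]
    simp only [Φ]
    rw [← Functor.map_comp_assoc, show sumι P n ≫ sumT f P = sumι P n - f • sumι P (n + 1) from sumι_desc _ n,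
      Functor.map_sub, Functor.map_smul]
    simp [Preadditive.sub_comp, Preadditive.comp_sub, Linear.smul_comp, Linear.comp_smul]
  have hpre : Function.Bijective fun w : (QA A).obj (sumCx P) ⟶ (QA A).obj L => (QA A).map (sumT f P) ≫ w :=
    ⟨fun w w' h => (cancel_epi _).1 h, fun w => ⟨inv ((QA A).map (sumT f P)) ≫ w, by simp⟩⟩
  have := hΦ.comp hpre
  rw [show (Φ ∘ fun w => (QA A).map (sumT f P) ≫ w) = DCM.T f ((QA A).obj C ⟶ Y) ∘ Φ from
    funext fun w => (hsq w).symm] at this
  exact (Function.Bijective.of_comp_iff _ hΦ).1 this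

theorem compD_homCx_of_tors (f : A) (C I : DRing.Cx A) [I.IsKInjective] (h : Tors f C) :
    CompD f ((QA A).obj (DRing.homCx C I)) := fun n => by
  obtain ⟨l⟩ := nonempty_homology_homCx_equiv C I n
  exact DCM.comp_equiv ((HQIso (DRing.homCx C I) n).toLinearEquiv.trans l).symm (comp_hom_of_tors f C h _)

/-! ### Torsion of the extended Cech complex -/

/-- Torsion cohomology. -/
def TorsD (f : A) (X : Dual.D A) : Prop := ∀ (n : ℤ) (x : Dual.HD A X n), ∃ N : ℕ, f ^ N • x = 0

theorem torsD_iff (f : A) (C : DRing.Cx A) : TorsD f ((QA A).obj C) ↔ Tors f C := by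
  constructor <;> intro h n x
  · obtain ⟨N, hN⟩ := h n ((HQIso C n).toLinearEquiv.symm x)
    exact ⟨N, (HQIso C n).toLinearEquiv.symm.injective (by rw [map_smul, hN, map_zero])⟩
  · obtain ⟨N, hN⟩ := h n ((HQIso C n).toLinearEquiv x)
    exact ⟨N, (HQIso C n).toLinearEquiv.injective (by rw [map_smul, hN, map_zero])⟩

theorem TorsD.of_iso {f : A} {X Y : Dual.D A} (h : TorsD f X) (e : X ≅ Y) : TorsD f Y := fun n x => by
  obtain ⟨N, hN⟩ := h n (((HF A n).mapIso e).toLinearEquiv.symm x)
  exact ⟨N, ((HF A n).mapIso e).toLinearEquiv.symm.injective (by rw [map_smul, hN, map_zero])⟩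

theorem TorsD.shift {f : A} {X : Dual.D A} (h : TorsD f X) (k : ℤ) : TorsD f (X⟦k⟧) := fun n x => by
  let e := (((HF A 0).shiftIso k n (k + n) rfl).app X).toLinearEquiv
  obtain ⟨N, hN⟩ := h (k + n) (e x)
  exact ⟨N, e.injective ((map_smul e (f ^ N) x).trans (hN.trans (map_zero e).symm))⟩

theorem torsD_obj₃ {f : A} {T : Triangle (Dual.D A)} (hT : T ∈ distinguishedTriangles)
    (hk : ∀ n (c : Dual.HD A T.obj₁ n), ((HF A n).map T.mor₁).hom c = 0 → ∃ N : ℕ, f ^ N • c = 0)
    (hc : ∀ n (l : Dual.HD A T.obj₂ n), ∃ N : ℕ, f ^ N • l ∈ LinearMap.range ((HF A n).map T.mor₁).hom) :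
    TorsD f T.obj₃ := fun n x => by
  have e2 := (DerivedCategory.HomologySequence.exact₃ T hT n (n + 1) rfl).moduleCat_range_eq_ker
  have e3 := (DerivedCategory.HomologySequence.exact₁ T hT n (n + 1) rfl).moduleCat_range_eq_ker
  have e1 := (DerivedCategory.HomologySequence.exact₂ T hT n).moduleCat_range_eq_ker
  let d := DerivedCategory.HomologySequence.δ T n (n + 1) rfl
  obtain ⟨N, hN⟩ := hk (n + 1) (d.hom x) (LinearMap.mem_ker.1 (e3 ▸ LinearMap.mem_range_self d.hom x))
  have hx : d.hom (f ^ N • x) = 0 := (map_smul d.hom _ _).trans hN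
  obtain ⟨l, hl⟩ : f ^ N • x ∈ LinearMap.range ((HF A n).map T.mor₂).hom := by
    rw [show LinearMap.range ((HF A n).map T.mor₂).hom = LinearMap.ker d.hom from e2]
    exact hx
  obtain ⟨M, c, hc'⟩ := hc n l
  refine ⟨M + N, ?_⟩
  rw [pow_add, mul_smul, ← hl, ← map_smul, ← hc']
  exact LinearMap.mem_ker.1 (e1 ▸ LinearMap.mem_range_self _ c)

theorem TorsD.obj₃ {f : A} {T : Triangle (Dual.D A)} (hT : T ∈ distinguishedTriangles)
    (h₁ : TorsD f T.obj₁) (h₂ : TorsD f T.obj₂) : TorsD f T.obj₃ :=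
  torsD_obj₃ hT (fun n c _ => h₁ n c) fun n l => (h₂ n l).imp fun N hN => by rw [hN]; exact Submodule.zero_mem _

theorem loc_repr (g : A) (C : DRing.Cx A) (i : ℤ) (w : ((DerCA.locCx (Submonoid.powers g)).obj C).X i) :
    ∃ (k : ℕ) (z : C.X i), g ^ k • w = ((DerCA.locCxUnit (Submonoid.powers g) C).f i).hom z := by
  obtain ⟨⟨z, ⟨s, k, rfl⟩⟩, h⟩ :=
    IsLocalizedModule.surj (Submonoid.powers g) (LocalizedModule.mkLinearMap (Submonoid.powers g) (C.X i)) w
  exact ⟨k, z, h⟩

theorem loc_eq_zero (g : A) (C : DRing.Cx A) (i : ℤ) (z : C.X i)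
    (h : ((DerCA.locCxUnit (Submonoid.powers g) C).f i).hom z = 0) : ∃ m : ℕ, g ^ m • z = 0 := by
  obtain ⟨⟨s, m, rfl⟩, hs⟩ :=
    (IsLocalizedModule.eq_zero_iff (Submonoid.powers g) (LocalizedModule.mkLinearMap (Submonoid.powers g) (C.X i))).1 h
  exact ⟨m, hs⟩

theorem bijective_smul_loc (g : A) (M : ModuleCat.{u} A) :
    Function.Bijective fun w : (DerCA.locFunctor (Submonoid.powers g)).obj M => g • w := by
  have := (Module.End.isUnit_iff _).1 (IsLocalizedModule.map_units
    (LocalizedModule.mkLinearMap (Submonoid.powers g) M) ⟨g, Submonoid.mem_powers g⟩)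
  exact this

theorem locCxUnit_cokernel (g : A) (C : DRing.Cx A) (i : ℤ)
    (l : ((DerCA.locCx (Submonoid.powers g)).obj C).homology i) :
    ∃ N : ℕ, g ^ N • l ∈
      LinearMap.range (HomologicalComplex.homologyMap (DerCA.locCxUnit (Submonoid.powers g) C) i).hom := by
  obtain ⟨⟨w, hw⟩, rfl⟩ := hcls_surjective _ i l
  obtain ⟨k, z, hz⟩ := loc_repr g C i w
  obtain ⟨m, hm⟩ := loc_eq_zero g C (i + 1) ((C.d i (i + 1)).hom z) (by
    rw [f_apply_d, ← hz, map_smul, LinearMap.mem_ker.1 hw, smul_zero])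
  refine ⟨m + k, hcls C i ⟨g ^ m • z, by rw [LinearMap.mem_ker, map_smul, hm]⟩, ?_⟩
  refine (homologyMap_hcls _ _ _).trans ((congrArg _ (Subtype.ext ?_)).trans
    ((hcls ((DerCA.locCx (Submonoid.powers g)).obj C) i).map_smul (g ^ (m + k)) ⟨w, hw⟩))
  show ((DerCA.locCxUnit (Submonoid.powers g) C).f i).hom (g ^ m • z) = g ^ (m + k) • w
  rw [map_smul, ← hz, smul_smul, pow_add]

theorem locCxUnit_kernel (g : A) (C : DRing.Cx A) (i : ℤ) (c : C.homology i)
    (h : (HomologicalComplex.homologyMap (DerCA.locCxUnit (Submonoid.powers g) C) i).hom c = 0) :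
    ∃ N : ℕ, g ^ N • c = 0 := by
  obtain ⟨⟨z, hz⟩, rfl⟩ := hcls_surjective C i c
  rw [homologyMap_hcls, hcls_eq_zero_iff] at h
  obtain ⟨w, hw⟩ := h
  obtain ⟨k, y, hy⟩ := loc_repr g C (i - 1) w
  obtain ⟨m, hm⟩ := loc_eq_zero g C i (g ^ k • z - (C.d (i - 1) i).hom y) (by
    rw [map_sub, map_smul, f_apply_d, ← hy, map_smul, hw]
    exact sub_self _)
  refine ⟨m + k, ?_⟩
  rw [← map_smul, hcls_eq_zero_iff]
  refine ⟨g ^ m • y, ?_⟩
  show (C.d (i - 1) i).hom (g ^ m • y) = g ^ (m + k) • z
  rw [map_smul, pow_add, mul_smul]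
  rw [smul_sub, sub_eq_zero] at hm
  exact hm.symm

theorem tors_loc (g f : A) (C : DRing.Cx A) (h : Tors f C) :
    Tors f ((DerCA.locCx (Submonoid.powers g)).obj C) := fun i l => by
  obtain ⟨N, c, hc⟩ := locCxUnit_cokernel g C i l
  obtain ⟨M, hM⟩ := h i c
  refine ⟨M, ?_⟩
  have hb : Function.Bijective fun x : ((DerCA.locCx (Submonoid.powers g)).obj C).homology i => g ^ N • x := by
    haveI : IsIso ((g ^ N) • 𝟙 ((DerCA.locCx (Submonoid.powers g)).obj C)) := by
      haveI : ∀ j, IsIso (((g ^ N) • 𝟙 ((DerCA.locCx (Submonoid.powers g)).obj C) : _ ⟶ _).f j) := fun j => by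
        rw [DR39.isIso_iff_bijective]
        exact (Module.End.isUnit_iff _).1 (IsLocalizedModule.map_units
          (LocalizedModule.mkLinearMap (Submonoid.powers g) (C.X j)) ⟨g ^ N, Submonoid.pow_mem _ (Submonoid.mem_powers g) N⟩)
      exact HomologicalComplex.Hom.isIso_of_components _
    have := (DR39.isIso_iff_bijective (HomologicalComplex.homologyMap
      ((g ^ N) • 𝟙 ((DerCA.locCx (Submonoid.powers g)).obj C)) i)).1 inferInstance
    rwa [show ⇑(HomologicalComplex.homologyMap ((g ^ N) • 𝟙 ((DerCA.locCx (Submonoid.powers g)).obj C)) i).hom =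
      fun x => g ^ N • x from funext fun x => homologyMap_smul_id_apply _ _ _ x] at this
  refine hb.1 ?_
  show g ^ N • f ^ M • l = g ^ N • 0
  rw [smul_comm, ← hc, ← map_smul, hM, map_zero, smul_zero]

theorem torsD_cocone {f : A} {C L : DRing.Cx A} (φ : C ⟶ L)
    (h : TorsD f ((QA A).obj (CochainComplex.mappingCone φ))) :
    Tors f (CochainComplex.mappingCocone φ) :=
  (torsD_iff f _).1 ((h.shift (-1)).of_iso (((QA A).commShiftIso (-1 : ℤ)).symm.app _))

theorem tors_extCech_head (g : A) (C : DRing.Cx A) :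
    Tors g (CochainComplex.mappingCocone (DerCA.locCxUnit (Submonoid.powers g) C)) := by
  let φ := DerCA.locCxUnit (Submonoid.powers g) C
  refine torsD_cocone φ (torsD_obj₃ (DerivedCategory.mappingCone_triangle_distinguished φ)
    (fun n (c : Dual.HD A ((QA A).obj C) n) hc => ?_) fun n (l : Dual.HD A ((QA A).obj _) n) => ?_)
  · have h1 := LinearMap.congr_fun (congrArg ModuleCat.Hom.hom (HQIso_naturality φ n)) c
    obtain ⟨N, hN⟩ := locCxUnit_kernel g C n ((HQIso C n).hom.hom c) (h1.symm.trans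
      ((congrArg (HQIso _ n).hom.hom hc).trans (map_zero _)))
    exact ⟨N, (HQIso C n).toLinearEquiv.injective
      (((HQIso C n).toLinearEquiv.map_smul (g ^ N) c).trans (hN.trans (map_zero _).symm))⟩
  · obtain ⟨N, c, hc⟩ := locCxUnit_cokernel g C n ((HQIso _ n).hom.hom l)
    refine ⟨N, (HQIso C n).toLinearEquiv.symm c, (HQIso _ n).toLinearEquiv.injective ?_⟩
    refine Eq.trans ?_ ((HQIso ((DerCA.locCx (Submonoid.powers g)).obj C) n).toLinearEquiv.map_smul (g ^ N) l).symm
    refine (LinearMap.congr_fun (congrArg ModuleCat.Hom.hom (HQIso_naturality φ n))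
      ((HQIso C n).toLinearEquiv.symm c)).trans (Eq.trans ?_ hc)
    exact congrArg (HomologicalComplex.homologyMap φ n).hom ((HQIso C n).toLinearEquiv.apply_symm_apply c)

theorem tors_extCech (M : ModuleCat.{u} A) : ∀ (fs : List A), ∀ f ∈ fs, Tors f (DerCA.extCech M fs)
  | g :: fs, f, hf => by
    rcases List.mem_cons.1 hf with rfl | hf
    · exact tors_extCech_head f _
    · have hC := tors_extCech M fs f hf
      exact torsD_cocone _ (TorsD.obj₃ (DerivedCategory.mappingCone_triangle_distinguished _)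
        ((torsD_iff f _).2 hC) ((torsD_iff f _).2 (tors_loc g f _ hC)))

/-! ### The canonical map and its cone -/

theorem homCxPre_comp {P E F : DRing.Cx A} (p : P ⟶ E) (q : E ⟶ F) (L : DRing.Cx A) :
    homCxPre q L ≫ homCxPre p L = homCxPre (p ≫ q) L := by
  refine HomologicalComplex.hom_ext _ _ fun n => ModuleCat.hom_ext (LinearMap.ext fun (z : Cochain F L n) => ?_)
  show (Cochain.ofHom p).comp ((Cochain.ofHom q).comp z (zero_add n)) (zero_add n) =
    (Cochain.ofHom (p ≫ q)).comp z (zero_add n)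
  rw [Cochain.ofHom_comp, Cochain.comp_assoc_of_first_is_zero_cochain]

theorem homCxPre_comp_zero (I : DRing.Cx A) (S : ShortComplex (DRing.Cx A)) :
    homCxPre S.g I ≫ homCxPre S.f I = 0 := by
  rw [homCxPre_comp, S.zero]
  refine HomologicalComplex.hom_ext _ _ fun n => ModuleCat.hom_ext (LinearMap.ext fun (z : Cochain S.X₃ I n) => ?_)
  show (Cochain.ofHom (0 : S.X₁ ⟶ S.X₃)).comp z (zero_add n) = 0
  simp

theorem shortExact_homCxPre (I : DRing.Cx A) (S : ShortComplex (DRing.Cx A))
    (r : Cochain S.X₂ S.X₁ 0) (s : Cochain S.X₃ S.X₂ 0)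
    (hfr : (Cochain.ofHom S.f).comp r (zero_add 0) = Cochain.ofHom (𝟙 S.X₁))
    (hsg : s.comp (Cochain.ofHom S.g) (add_zero 0) = Cochain.ofHom (𝟙 S.X₃))
    (hid : r.comp (Cochain.ofHom S.f) (add_zero 0) + (Cochain.ofHom S.g).comp s (zero_add 0) =
      Cochain.ofHom (𝟙 S.X₂)) :
    (ShortComplex.mk (homCxPre S.g I) (homCxPre S.f I) (homCxPre_comp_zero I S)).ShortExact := by
  refine HomologicalComplex.shortExact_of_degreewise_shortExact _ fun n => ?_
  refine ShortComplex.Splitting.shortExact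
    { r := ModuleCat.ofHom (X := Cochain S.X₂ I n) (Y := Cochain S.X₃ I n)
        { toFun := fun z => s.comp z (zero_add n)
          map_add' := fun z z' => by simp
          map_smul' := fun a z => by simp }
      s := ModuleCat.ofHom (X := Cochain S.X₁ I n) (Y := Cochain S.X₂ I n)
        { toFun := fun z => r.comp z (zero_add n)
          map_add' := fun z z' => by simp
          map_smul' := fun a z => by simp }
      f_r := ?_, s_g := ?_, id := ?_ }
  · refine ModuleCat.hom_ext (LinearMap.ext fun (z : Cochain S.X₃ I n) => ?_)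
    show s.comp ((Cochain.ofHom S.g).comp z (zero_add n)) (zero_add n) = z
    rw [← Cochain.comp_assoc_of_first_is_zero_cochain, hsg, Cochain.id_comp]
  · refine ModuleCat.hom_ext (LinearMap.ext fun (z : Cochain S.X₁ I n) => ?_)
    show (Cochain.ofHom S.f).comp (r.comp z (zero_add n)) (zero_add n) = z
    rw [← Cochain.comp_assoc_of_first_is_zero_cochain, hfr, Cochain.id_comp]
  · refine ModuleCat.hom_ext (LinearMap.ext fun (z : Cochain S.X₂ I n) => ?_)
    show (Cochain.ofHom S.g).comp (s.comp z (zero_add n)) (zero_add n) +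
      r.comp ((Cochain.ofHom S.f).comp z (zero_add n)) (zero_add n) = z
    rw [← Cochain.comp_assoc_of_first_is_zero_cochain, ← Cochain.comp_assoc_of_first_is_zero_cochain,
      ← Cochain.add_comp, add_comm ((Cochain.ofHom S.g).comp s _), hid, Cochain.id_comp]

theorem inr_shift_f {C L : DRing.Cx A} (φ : C ⟶ L) (p : ℤ) :
    ((CochainComplex.mappingCone.inr φ)⟦(-1 : ℤ)⟧').f p =
      (CochainComplex.mappingCocone.inr φ).1.v (p + -1) p (by omega) := by
  refine Eq.symm ?_
  refine (Cochain.rightShift_v (n := 0) (Cochain.ofHom (CochainComplex.mappingCone.inr φ)) (-1) 1 (by omega)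
    (p + -1) p (by omega) (p + -1) (by omega)).trans ?_
  simp
  rfl

/-- `L[-1] → cocone → C`. -/
noncomputable def coconeSeq {C L : DRing.Cx A} (φ : C ⟶ L) : ShortComplex (DRing.Cx A) :=
  ShortComplex.mk ((CochainComplex.mappingCone.inr φ)⟦(-1 : ℤ)⟧') (CochainComplex.mappingCocone.fst φ) (by
    refine HomologicalComplex.hom_ext _ _ fun p => ?_
    rw [HomologicalComplex.comp_f, inr_shift_f]
    exact CochainComplex.mappingCocone.inr_v_fst_f φ _ _ _)

theorem coconeSeq_homCx (I : DRing.Cx A) {C L : DRing.Cx A} (φ : C ⟶ L) :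
    (ShortComplex.mk (homCxPre (coconeSeq φ).g I) (homCxPre (coconeSeq φ).f I)
      (homCxPre_comp_zero I (coconeSeq φ))).ShortExact := by
  refine shortExact_homCxPre I (coconeSeq φ)
    (Cochain.mk fun p q hpq => (CochainComplex.mappingCocone.snd φ).v p (q + -1) (by omega))
    (CochainComplex.mappingCocone.inl φ) ?_ ?_ ?_
  · ext p x
    simp only [Cochain.zero_cochain_comp_v, Cochain.ofHom_v, Cochain.mk_v, HomologicalComplex.id_f]
    exact congrArg (fun t : _ ⟶ L.X (p + -1) => t.hom x) ((inr_shift_f φ p).symm ▸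
      CochainComplex.mappingCocone.inr_v_snd_v φ (p + -1) p (by omega))
  · ext p x
    simp only [Cochain.comp_zero_cochain_v, Cochain.ofHom_v, HomologicalComplex.id_f]
    exact congrArg (fun t : C.X p ⟶ C.X p => t.hom x) (CochainComplex.mappingCocone.inl_v_fst_f φ p)
  · ext p x
    simp only [Cochain.comp_zero_cochain_v, Cochain.zero_cochain_comp_v, Cochain.ofHom_v, Cochain.mk_v,
      Cochain.add_v, HomologicalComplex.id_f]
    have := CochainComplex.mappingCocone.id_X φ p (p + -1) rfl
    rw [add_comm] at this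
    exact congrArg (fun t : _ ⟶ (CochainComplex.mappingCocone φ).X p => t.hom x)
      ((inr_shift_f φ p).symm ▸ this)

theorem homCxPre_smul_id (P I : DRing.Cx A) (f : A) :
    homCxPre (f • 𝟙 P) I = f • 𝟙 (DRing.homCx P I) := by
  refine HomologicalComplex.hom_ext _ _ fun n => ModuleCat.hom_ext (LinearMap.ext fun (z : Cochain P I n) => ?_)
  show (Cochain.ofHom (f • 𝟙 P)).comp z (zero_add n) = f • z
  ext p q hpq
  simp [Linear.smul_comp]

theorem orth_homCx_of_isIso (f : A) {J : Ideal A} (hf : f ∈ J) (P I : DRing.Cx A) [hP : IsIso (f • 𝟙 P)] :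
    Orth J ((QA A).obj (DRing.homCx P I)) := by
  refine orth_of_bijective f hf fun n => ?_
  have h1 : homCxPre (inv (f • 𝟙 P)) I ≫ (f • 𝟙 (DRing.homCx P I)) = 𝟙 _ ∧
      (f • 𝟙 (DRing.homCx P I)) ≫ homCxPre (inv (f • 𝟙 P)) I = 𝟙 _ := by
    rw [← homCxPre_smul_id, homCxPre_comp, homCxPre_comp, IsIso.hom_inv_id, IsIso.inv_hom_id]
    have : homCxPre (𝟙 P) I = 𝟙 (DRing.homCx P I) :=
      HomologicalComplex.hom_ext _ _ fun n => ModuleCat.hom_ext (LinearMap.ext fun (z : Cochain P I n) =>
        Cochain.id_comp z)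
    exact ⟨this, this⟩
  haveI : IsIso (f • 𝟙 (DRing.homCx P I)) := ⟨_, h1.2, h1.1⟩
  have h2 := (DR39.isIso_iff_bijective (HomologicalComplex.homologyMap (f • 𝟙 (DRing.homCx P I)) n)).1 inferInstance
  let l := (HQIso (DRing.homCx P I) n).toLinearEquiv
  rw [show (fun x : Dual.HD A ((QA A).obj (DRing.homCx P I)) n => f • x) =
    l.symm ∘ (HomologicalComplex.homologyMap (f • 𝟙 (DRing.homCx P I)) n).hom ∘ l from funext fun x => by
      simp [homologyMap_smul_id_apply]]
  exact l.symm.bijective.comp (h2.comp l.bijective)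

/-- `Hom•(A[0], I) = I`. -/
noncomputable def homCxUnitIso (I : DRing.Cx A) :
    I ≅ DRing.homCx (DerCA.extCech (ModuleCat.of A A) []) I :=
  HomologicalComplex.Hom.isoOfComponents (fun n => (LinearEquiv.ofBijective
      (M := I.X n) (M₂ := Cochain ((CochainComplex.singleFunctor (ModuleCat.{u} A) 0).obj (ModuleCat.of A A)) I n)
      { toFun := fun x => Cochain.fromSingleMk (ModuleCat.ofHom (X := A) (LinearMap.toSpanSingleton A (I.X n) x)) (zero_add n)
        map_add' := fun x y => by
          rw [← Cochain.fromSingleMk_add]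
          refine congrArg (fun t => Cochain.fromSingleMk t _) (ModuleCat.hom_ext (LinearMap.ext_ring ?_))
          simp
        map_smul' := fun a x => by
          apply (Cochain.fromSingleEquiv (zero_add n)).injective
          rw [Cochain.fromSingleEquiv_fromSingleMk]
          refine (ModuleCat.hom_ext (LinearMap.ext_ring ?_))
          simp [Cochain.fromSingleEquiv]
          erw [Cochain.smul_v, Cochain.fromSingleMk_v]
          refine congrArg (a • ·) ?_
          show x = (LinearMap.toSpanSingleton A (I.X n) x)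
            (((HomologicalComplex.singleObjXSelf (ComplexShape.up ℤ) 0 (ModuleCat.of A A)).inv ≫
              (HomologicalComplex.singleObjXSelf (ComplexShape.up ℤ) 0 (ModuleCat.of A A)).hom).hom (1 : A))
          rw [Iso.inv_hom_id]
          exact (one_smul A x).symm }
      (by
        refine ⟨fun x y h => ?_, fun z => ?_⟩
        · have := congrArg (fun t => (Cochain.fromSingleEquiv (zero_add n) t : ModuleCat.of A A ⟶ I.X n).hom (1 : A)) h
          simpa using this
        · obtain ⟨g, rfl⟩ := Cochain.fromSingleMk_surjective z n (zero_add n)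
          refine ⟨g.hom (1 : A), congrArg (fun t => Cochain.fromSingleMk t _)
            (ModuleCat.hom_ext (LinearMap.ext_ring ?_))⟩
          simp)).toModuleIso) fun i j hij => by
    refine ModuleCat.hom_ext (LinearMap.ext fun x => ?_)
    show δ i j (Cochain.fromSingleMk (K := I) (ModuleCat.ofHom (X := A) (LinearMap.toSpanSingleton A (I.X i) x))
      (zero_add i)) = Cochain.fromSingleMk (K := I)
      (ModuleCat.ofHom (X := A) (LinearMap.toSpanSingleton A (I.X j) ((I.d i j).hom x))) (zero_add j)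
    rw [Cochain.δ_fromSingleMk _ (zero_add i) j j (zero_add j)]
    refine congrArg (fun t => Cochain.fromSingleMk t _) (ModuleCat.hom_ext (LinearMap.ext_ring ?_))
    simp

theorem exists_cech_map (J : Ideal A) (I : DRing.Cx A) : ∀ fs : List A, (∀ f ∈ fs, f ∈ J) →
    ∃ η : (QA A).obj I ⟶ (QA A).obj (DRing.homCx (DerCA.extCech (ModuleCat.of A A) fs) I),
      ∀ E, DRing.IsDerivedComplete J E → Function.Bijective (fun g : _ ⟶ E => η ≫ g)
  | [], _ => by
    refine ⟨((QA A).mapIso (homCxUnitIso I)).hom, fun E _ => ⟨fun a b h => (cancel_epi _).1 h, fun a =>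
      ⟨((QA A).mapIso (homCxUnitIso I)).inv ≫ a, ?_⟩⟩⟩
    simp
  | f :: fs, hf => by
    obtain ⟨η, hη⟩ := exists_cech_map J I fs fun g hg => hf g (List.mem_cons_of_mem _ hg)
    let C := DerCA.extCech (ModuleCat.of A A) fs
    let φ := DerCA.locCxUnit (Submonoid.powers f) C
    have hS := coconeSeq_homCx I φ
    haveI : IsIso (f • 𝟙 ((DerCA.locCx (Submonoid.powers f)).obj C)) := by
      haveI : ∀ j, IsIso ((f • 𝟙 ((DerCA.locCx (Submonoid.powers f)).obj C) : _ ⟶ _).f j) := fun j => by
        rw [DR39.isIso_iff_bijective]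
        exact bijective_smul_loc f (C.X j)
      exact HomologicalComplex.Hom.isIso_of_components _
    haveI : IsIso (f • 𝟙 (((DerCA.locCx (Submonoid.powers f)).obj C)⟦(-1 : ℤ)⟧)) := by
      rw [← CategoryTheory.Functor.map_id, ← Functor.map_smul]
      infer_instance
    refine ⟨η ≫ (QA A).map (homCxPre (CochainComplex.mappingCocone.fst φ) I), fun E hE => ?_⟩
    have h1 := bijective_of_orth (DerivedCategory.triangleOfSES_distinguished hS)
      (orth_homCx_of_isIso f (hf f (List.mem_cons_self ..))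
        (((DerCA.locCx (Submonoid.powers f)).obj C)⟦(-1 : ℤ)⟧) I) E hE
    have := (hη E hE).comp h1
    simp only [Function.comp_def] at this
    simp only [Category.assoc]
    exact this

theorem derivedCompletion_iso_cech (fs : List A) (J : Ideal A) (hJ : Ideal.span {x : A | x ∈ fs} = J)
    [DRing.HasDerivedCompletion J] [DRing.HasRHomCx (DerCA.extCech (ModuleCat.of A A) fs)] (K : Dual.D A) :
    Nonempty (((DRing.derivedCompletion J).obj K).obj ≅
      (DRing.RHomCx (DerCA.extCech (ModuleCat.of A A) fs)).obj K) := by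
  obtain ⟨I, hI, ⟨e⟩⟩ := exists_kinj_rep K
  haveI := hI
  obtain ⟨η, hη⟩ := exists_cech_map J I fs fun f hf => hJ ▸ Ideal.subset_span hf
  have hc : IsCompl J (e.inv ≫ η) := by
    refine ⟨dc_of_generators _ hJ fun f hf => compD_homCx_of_tors f _ I (tors_extCech _ fs f hf), fun E hE => ?_⟩
    have : Function.Bijective fun g : (QA A).obj I ⟶ E => e.inv ≫ g :=
      ⟨fun a b h => (cancel_epi _).1 h, fun a => ⟨e.hom ≫ a, by simp⟩⟩
    simpa only [Function.comp_def, Category.assoc] using this.comp (hη E hE)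
  obtain ⟨i, -⟩ := (isCompl_unit J K).unique hc
  have hu := isIso_homCxUnit (DerCA.extCech (ModuleCat.of A A) fs) I hI
  exact ⟨i ≪≫ @asIso _ _ _ _ ((homCxUnit (DerCA.extCech (ModuleCat.of A A) fs)).app I) hu ≪≫
    (DRing.RHomCx (DerCA.extCech (ModuleCat.of A A) fs)).mapIso e⟩

end Groth.Agent.DR40
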