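import Groth.Agent.DR40.DCTri

/-! Existence of derived completions, their amplitude and behaviour on triangles. -/

set_option autoImplicit false
set_option linter.style.haveILetI false
set_option linter.unusedSectionVars false

universe u

open CategoryTheory CategoryTheory.Limits CategoryTheory.Pretriangulated

attribute [local instance] HasDerivedCategory.standard

namespace Groth.Agent.DR40

open Groth.Agent.DR39

variable {A : Type u} [CommRing A]

/-- Maps into sequences are sequences of maps. -/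
theorem seq_hom_bijective (X : Dual.D A) (L : DRing.Cx A) :
    Function.Bijective (fun (w : X ⟶ (QA A).obj (seqCx L)) (n : ℕ) => w ≫ (QA A).map (seqProj L n)) := by
  obtain ⟨K, ⟨eK⟩⟩ := exists_complex_iso X
  haveI := (DerivedCategory.isIso_Q_map_iff_quasiIso (ModuleCat.{u} A) (SF.aug K)).2 inferInstance
  haveI : (SF.res K).IsKProjective := SF.isKProjective_res K
  let e : (QA A).obj (SF.res K) ≅ X := asIso ((QA A).map (SF.aug K)) ≪≫ eK
  refine ⟨fun w w' h => ?_, fun y => ?_⟩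
  · rw [← cancel_epi e.hom]
    obtain ⟨v, hv⟩ := DR39.Q_map_surjective (SF.res K) (seqCx L) (e.hom ≫ w)
    obtain ⟨v', hv'⟩ := DR39.Q_map_surjective (SF.res K) (seqCx L) (e.hom ≫ w')
    have hn : ∀ n, Nonempty (Homotopy ((v - v') ≫ seqProj L n) 0) := fun n => by
      refine (DR39.Q_map_eq_iff _ _).1 ?_
      rw [Functor.map_comp, Functor.map_sub, Preadditive.sub_comp, Functor.map_zero, sub_eq_zero, hv, hv',
        Category.assoc, Category.assoc]
      exact congrArg (e.hom ≫ ·) (congrFun h n)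
    have h2 : seqLift (fun n => (v - v') ≫ seqProj L n) = v - v' :=
      HomologicalComplex.hom_ext _ _ fun i => ModuleCat.hom_ext (LinearMap.ext fun x => funext fun n => rfl)
    have h3 := DerivedCategory.Q_map_eq_of_homotopy (C := ModuleCat.{u} A)
      (seqHomotopy _ fun n => (hn n).some)
    rw [h2, Functor.map_sub, Functor.map_zero, sub_eq_zero, hv, hv'] at h3
    exact h3
  · choose v hv using fun n => DR39.Q_map_surjective (SF.res K) L (e.hom ≫ y n)
    refine ⟨e.inv ≫ (QA A).map (seqLift v), funext fun n => ?_⟩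
    have h2 : seqLift v ≫ seqProj L n = v n :=
      HomologicalComplex.hom_ext _ _ fun i => ModuleCat.hom_ext (LinearMap.ext fun x => rfl)
    show (e.inv ≫ DerivedCategory.Q.map (seqLift v)) ≫ DerivedCategory.Q.map (seqProj L n) = y n
    rw [Category.assoc, ← Functor.map_comp, h2, hv, Iso.inv_hom_id_assoc]

theorem seqT_proj (f : A) (L : DRing.Cx A) (n : ℕ) :
    (QA A).map (seqT f L) ≫ (QA A).map (seqProj L n) =
      (QA A).map (seqProj L n) - f • (QA A).map (seqProj L (n + 1)) := by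
  have h2 : seqT f L ≫ seqProj L n = seqProj L n - f • seqProj L (n + 1) :=
    HomologicalComplex.hom_ext _ _ fun i => ModuleCat.hom_ext (LinearMap.ext fun x => rfl)
  show DerivedCategory.Q.map _ ≫ DerivedCategory.Q.map _ = DerivedCategory.Q.map _ - f • DerivedCategory.Q.map _
  rw [← Functor.map_comp, h2, Functor.map_sub, Functor.map_smul]

theorem isIso_smul_shift (f : A) (X : Dual.D A) [IsIso (f • 𝟙 X)] (k : ℤ) : IsIso (f • 𝟙 (X⟦k⟧)) := by
  have : f • 𝟙 (X⟦k⟧) = (shiftFunctor (Dual.D A) k).map (f • 𝟙 X) := by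
    rw [Functor.map_smul, CategoryTheory.Functor.map_id]
  rw [this]
  infer_instance

theorem isIso_smul_of_iso (f : A) {X Y : Dual.D A} (e : X ≅ Y) [IsIso (f • 𝟙 X)] : IsIso (f • 𝟙 Y) := by
  have : f • 𝟙 Y = e.inv ≫ (f • 𝟙 X) ≫ e.hom := by simp [Linear.smul_comp, Linear.comp_smul]
  rw [this]
  infer_instance

theorem isIso_smul_inD_away (f : A) : IsIso (f • 𝟙 (Dual.inD A (Localization.Away f))) := by
  haveI : IsIso (f • 𝟙 (ModuleCat.of A (Localization.Away f))) :=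
    (DR39.isIso_iff_bijective _).2 (bijective_smul_away f)
  have : f • 𝟙 (Dual.inD A (Localization.Away f)) =
      (DerivedCategory.singleFunctor (ModuleCat.{u} A) 0).map (f • 𝟙 (ModuleCat.of A (Localization.Away f))) := by
    rw [Functor.map_smul, CategoryTheory.Functor.map_id]
  rw [this]
  infer_instance

theorem compD_seqCx (g : A) (L : DRing.Cx A) (h : CompD g ((QA A).obj L)) :
    CompD g ((QA A).obj (seqCx L)) := by
  refine (subsingleton_iff_comp g _).1 fun n => ?_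
  have h' := (subsingleton_iff_comp g ((QA A).obj L)).2 h
  let ad := (shiftEquiv (Dual.D A) n).symm.toAdjunction.homEquiv
    (Dual.inD A (Localization.Away g))
  have h1 : Subsingleton ((Dual.inD A (Localization.Away g))⟦-n⟧ ⟶ (QA A).obj L) :=
    @Equiv.subsingleton _ _ (ad _) (h' n)
  have h2 : Subsingleton ((Dual.inD A (Localization.Away g))⟦-n⟧ ⟶ (QA A).obj (seqCx L)) :=
    ⟨fun a b => (seq_hom_bijective _ L).1 (funext fun m => @Subsingleton.elim _ h1 _ _)⟩
  exact @Equiv.subsingleton _ _ (ad _).symm h2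

theorem isZero_seqCx (L : DRing.Cx A) (n : ℤ) (h : IsZero (L.homology n)) :
    IsZero ((seqCx L).homology n) := by
  rw [isZero_homology_iff] at h ⊢
  intro x hx
  choose y hy using fun m => h (x m) (congrFun hx m)
  exact ⟨y, funext hy⟩

/-- The property of a completion map. -/
def IsCompl (I : Ideal A) {K C : Dual.D A} (η : K ⟶ C) : Prop :=
  DRing.IsDerivedComplete I C ∧
    ∀ E, DRing.IsDerivedComplete I E → Function.Bijective (fun g : C ⟶ E => η ≫ g)

theorem bijective_of_orth {I : Ideal A} {T : Triangle (Dual.D A)} (hT : T ∈ distinguishedTriangles)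
    (h : Orth I T.obj₃) (E : Dual.D A) (hE : DRing.IsDerivedComplete I E) :
    Function.Bijective (fun g : T.obj₂ ⟶ E => T.mor₁ ≫ g) := by
  refine ⟨fun g g' hg => ?_, fun g => ?_⟩
  · obtain ⟨k, hk⟩ := Triangle.yoneda_exact₂ T hT (g - g') (by
      rw [Preadditive.comp_sub, sub_eq_zero]; exact hg)
    rw [h E hE k, comp_zero] at hk
    exact sub_eq_zero.1 hk
  · obtain ⟨g', hg'⟩ := Triangle.yoneda_exact₂ _ (inv_rot_of_distTriang T hT) g ((h.shift (-1)) E hE _)
    exact ⟨g', hg'.symm⟩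

/-- One step of the completion. -/
theorem exists_step (f : A) (X : Dual.D A) :
    ∃ (C : Dual.D A) (η : X ⟶ C), CompD f C ∧ (∀ g, CompD g X → CompD g C) ∧
      (∀ I : Ideal A, f ∈ I → ∀ E, DRing.IsDerivedComplete I E →
        Function.Bijective (fun g : C ⟶ E => η ≫ g)) ∧
      (∀ n : ℤ, IsZero ((HF A n).obj X) → IsZero ((HF A (n + 1)).obj X) → IsZero ((HF A n).obj C)) := by
  obtain ⟨L, ⟨e⟩⟩ := exists_complex_iso X
  let V := (QA A).obj (seqCx L)
  let T : V ⟶ V := (QA A).map (seqT f L)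
  let pr : ℕ → (V ⟶ X) := fun n => (QA A).map (seqProj L n) ≫ e.hom
  have hTpr : ∀ n, T ≫ pr n = pr n - f • pr (n + 1) := fun n => by
    show _ ≫ _ ≫ _ = _
    rw [← Category.assoc, seqT_proj, Preadditive.sub_comp, Linear.smul_comp]
  have hbij : ∀ Y : Dual.D A, Function.Bijective (fun (w : Y ⟶ V) (n : ℕ) => w ≫ pr n) := fun Y => by
    refine ⟨fun w w' h => (seq_hom_bijective Y L).1 (funext fun n => ?_), fun y => ?_⟩
    · have := congrFun h n
      simp only [pr, ← Category.assoc, cancel_mono] at this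
      exact this
    · obtain ⟨w, hw⟩ := (seq_hom_bijective Y L).2 fun n => y n ≫ e.inv
      exact ⟨w, funext fun n => by
        show w ≫ _ ≫ e.hom = y n
        rw [← Category.assoc]
        exact (congrArg (· ≫ e.hom) (congrFun hw n)).trans (by simp)⟩
  obtain ⟨Z, ι, δ, hZ⟩ := distinguished_cocone_triangle T
  let θ : Z ⟶ X⟦(1 : ℤ)⟧ := δ ≫ (pr 0)⟦(1 : ℤ)⟧'
  obtain ⟨C, η, p, hC⟩ := distinguished_cocone_triangle₂ θ
  haveI hZiso : IsIso (f • 𝟙 Z) := by
    obtain ⟨sh, hsh⟩ := (hbij V).2 fun n => pr (n + 1)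
    have hsh' : ∀ n, sh ≫ pr n = pr (n + 1) := congrFun hsh
    have hc : T ≫ sh = sh ≫ T := (hbij V).1 (funext fun n => by
      simp only [Category.assoc, hsh', hTpr, Preadditive.comp_sub, Linear.comp_smul])
    have hfs : f • sh = 𝟙 V - T := (hbij V).1 (funext fun n => by
      simp only [Linear.smul_comp, hsh', Preadditive.sub_comp, Category.id_comp, hTpr, sub_sub_cancel])
    obtain ⟨(S : Z ⟶ Z), hS1, hS2⟩ := complete_distinguished_triangle_morphism _ _ hZ hZ sh sh hc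
    have h0T : T ≫ ι = 0 := comp_distTriang_mor_zero₁₂ _ hZ
    have h0δ : δ ≫ T⟦(1 : ℤ)⟧' = 0 := comp_distTriang_mor_zero₃₁ _ hZ
    let d : Z ⟶ Z := f • S - 𝟙 Z
    have hd1 : ι ≫ d = 0 := by
      have hS1' : ι ≫ S = sh ≫ ι := hS1
      show ι ≫ (f • S - 𝟙 Z) = 0
      rw [Preadditive.comp_sub, Category.comp_id, Linear.comp_smul, hS1', ← Linear.smul_comp, hfs,
        Preadditive.sub_comp, Category.id_comp, h0T, sub_zero, sub_self]
    have hd2 : d ≫ δ = 0 := by
      have hS2' : δ ≫ sh⟦(1 : ℤ)⟧' = S ≫ δ := hS2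
      show (f • S - 𝟙 Z) ≫ δ = 0
      rw [Preadditive.sub_comp, Category.id_comp, Linear.smul_comp, ← hS2', ← Linear.comp_smul,
        ← Functor.map_smul, hfs, Functor.map_sub, CategoryTheory.Functor.map_id, Preadditive.comp_sub,
        h0δ, sub_zero]
      exact sub_eq_zero.2 (Category.comp_id δ)
    obtain ⟨(u : V⟦(1 : ℤ)⟧ ⟶ Z), (hu : d = δ ≫ u)⟩ := Triangle.yoneda_exact₃ _ hZ d hd1
    have hdd : d ≫ d = 0 := by
      conv_lhs => arg 2; rw [hu]
      rw [← Category.assoc, hd2, zero_comp]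
    have hfS : f • S = 𝟙 Z + d := (add_sub_cancel (𝟙 Z) (f • S)).symm
    clear_value d
    have key : (𝟙 Z + d) ≫ (𝟙 Z - d) = 𝟙 Z := by
      rw [Preadditive.add_comp, Preadditive.comp_sub, Preadditive.comp_sub, Category.id_comp,
        Category.id_comp, Category.comp_id, hdd]
      abel
    refine ⟨S ≫ (𝟙 Z - d), ?_, ?_⟩
    · rw [Linear.smul_comp, Category.id_comp, ← Linear.smul_comp, hfS, key]
    · rw [Linear.comp_smul, Category.comp_id, ← Linear.smul_comp, hfS, key]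
  have hu : ∀ (Y : Dual.D A) [IsIso (f • 𝟙 Y)] (y : Y ⟶ X), ∃ w : Y ⟶ V, w ≫ pr 0 = y ∧ w ≫ T = 0 := by
    intro Y _ y
    let m : Y ⟶ Y := inv (f • 𝟙 Y)
    let u : ℕ → (Y ⟶ X) := fun n => Nat.rec y (fun _ w => m ≫ w) n
    obtain ⟨w, hw⟩ := (hbij Y).2 u
    have hw' : ∀ n, w ≫ pr n = u n := congrFun hw
    refine ⟨w, hw' 0, (hbij Y).1 (funext fun n => ?_)⟩
    show (w ≫ T) ≫ pr n = 0 ≫ pr n
    rw [Category.assoc, hTpr, Preadditive.comp_sub, Linear.comp_smul, hw', hw', zero_comp, sub_eq_zero]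
    show u n = f • (m ≫ u n)
    conv_rhs => rw [← Category.id_comp (m ≫ u n), ← Linear.smul_comp, ← Category.assoc,
      IsIso.hom_inv_id, Category.id_comp]
  have hCf : CompD f C := by
    refine (subsingleton_iff_comp f C).1 fun n => ?_
    haveI := isIso_smul_inD_away f
    let Y := (Dual.inD A (Localization.Away f))⟦-n⟧
    haveI : IsIso (f • 𝟙 Y) := isIso_smul_shift f _ _
    suffices h : ∀ g : Y ⟶ C, g = 0 by
      exact @Equiv.subsingleton _ _ ((shiftEquiv (Dual.D A) n).symm.toAdjunction.homEquiv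
        (Dual.inD A (Localization.Away f)) C).symm ⟨fun a b => (h a).trans (h b).symm⟩
    intro g
    have hinj : ∀ z : Y ⟶ Z, z ≫ θ = 0 → z = 0 := by
      intro z hz
      haveI : IsIso (f • 𝟙 (Y⟦(-1 : ℤ)⟧)) := isIso_smul_shift f _ _
      have hwT : (z ≫ δ) ≫ T⟦(1 : ℤ)⟧' = 0 := by
        rw [Category.assoc]
        erw [comp_distTriang_mor_zero₃₁ _ hZ]
        exact comp_zero
      have hw0 : (z ≫ δ) ≫ (pr 0)⟦(1 : ℤ)⟧' = 0 := (Category.assoc _ _ _).trans hz
      have hall : ∀ k, (z ≫ δ) ≫ (pr k)⟦(1 : ℤ)⟧' = 0 := by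
        intro k
        induction k with
        | zero => exact hw0
        | succ k ih =>
          have h1 : (z ≫ δ) ≫ (T ≫ pr k)⟦(1 : ℤ)⟧' = 0 := by
            rw [Functor.map_comp, ← Category.assoc, hwT, zero_comp]
          rw [hTpr, Functor.map_sub, Functor.map_smul, Preadditive.comp_sub, ih, zero_sub, neg_eq_zero,
            Linear.comp_smul] at h1
          rw [← cancel_epi (f • 𝟙 Y), comp_zero, Linear.smul_comp, Category.id_comp]
          exact h1
      have hzδ : z ≫ δ = 0 := by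
        let ad := (shiftEquiv (Dual.D A) (1 : ℤ)).symm.toAdjunction.homEquiv Y
        apply (ad V).symm.injective
        refine (hbij _).1 (funext fun k => ?_)
        show (ad V).symm (z ≫ δ) ≫ pr k = (ad V).symm 0 ≫ pr k
        rw [← Adjunction.homEquiv_naturality_right_symm, ← Adjunction.homEquiv_naturality_right_symm]
        congr 1
        exact (hall k).trans zero_comp.symm
      obtain ⟨(y : Y ⟶ V), (hy : z = y ≫ ι)⟩ := Triangle.coyoneda_exact₃ _ hZ z hzδ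
      let m : Y ⟶ Y := inv (f • 𝟙 Y)
      let c : ℕ → (Y ⟶ X) := fun k => Nat.rec (0 : Y ⟶ X) (fun j x => m ≫ (x - y ≫ pr j)) k
      obtain ⟨y', hy'⟩ := (hbij Y).2 c
      have hy'' : ∀ j, y' ≫ pr j = c j := congrFun hy'
      have : y' ≫ T = y := (hbij Y).1 (funext fun k => by
        show (y' ≫ T) ≫ pr k = y ≫ pr k
        rw [Category.assoc, hTpr, Preadditive.comp_sub, Linear.comp_smul, hy'' k, hy'' (k + 1)]
        show c k - f • (m ≫ (c k - y ≫ pr k)) = _
        rw [← Linear.smul_comp, ← Category.comp_id (f • m), Category.assoc, Category.id_comp]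
        have hm : f • m = 𝟙 Y := by
          have := IsIso.hom_inv_id (f • 𝟙 Y)
          rwa [Linear.smul_comp, Category.id_comp] at this
        rw [hm, Category.id_comp, sub_sub_cancel])
      rw [hy, ← this, Category.assoc]
      erw [comp_distTriang_mor_zero₁₂ _ hZ]
      exact comp_zero
    have hgp : g ≫ p = 0 := hinj _ (by
      rw [Category.assoc]
      erw [comp_distTriang_mor_zero₂₃ _ hC]
      exact comp_zero)
    obtain ⟨(y : Y ⟶ X), (hy : g = y ≫ η)⟩ := Triangle.coyoneda_exact₂ _ hC g hgp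
    obtain ⟨w, hw, hwT⟩ := hu Y y
    obtain ⟨(z : Y⟦(1 : ℤ)⟧ ⟶ Z), (hz : w⟦(1 : ℤ)⟧' = z ≫ δ)⟩ :=
      Triangle.coyoneda_exact₁ _ hZ (w⟦(1 : ℤ)⟧') (by
        show w⟦(1 : ℤ)⟧' ≫ T⟦(1 : ℤ)⟧' = 0
        rw [← Functor.map_comp, hwT, Functor.map_zero])
    apply (shiftFunctor (Dual.D A) (1 : ℤ)).map_injective
    rw [Functor.map_zero, hy, Functor.map_comp, ← hw, Functor.map_comp, hz]
    have h31 : θ ≫ η⟦(1 : ℤ)⟧' = 0 := comp_distTriang_mor_zero₃₁ _ hC
    simp only [θ, Category.assoc] at h31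
    simp only [Category.assoc, h31, comp_zero]
  refine ⟨C, η, hCf, fun g hg => ?_, fun I hf E hE => ?_, fun n h0 h1 => ?_⟩
  · have hV : CompD g V := compD_seqCx g L (hg.of_iso e.symm)
    exact CompD.obj₂ hC hg (CompD.obj₃ (T := Triangle.mk T ι δ) hZ hV hV)
  · exact bijective_of_orth hC
      (fun E hE g => hom_eq_zero_of_isIso_smul (X := Z) f hZiso ((dc_iff I E).1 hE f hf) g) E hE
  · have hV : ∀ j, IsZero ((HF A j).obj X) → IsZero ((HF A j).obj V) := fun j hj =>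
      (isZero_HF_Q_iff _ j).2 (isZero_seqCx L j ((isZero_HF_Q_iff L j).1 (hj.of_iso ((HF A j).mapIso e))))
    have hZn : IsZero ((HF A n).obj Z) :=
      (DerivedCategory.HomologySequence.exact₃ _ hZ n (n + 1) rfl).isZero_of_both_zeros
        ((hV n h0).eq_of_src _ _) ((hV (n + 1) h1).eq_of_tgt _ _)
    exact (DerivedCategory.HomologySequence.exact₂ _ hC n).isZero_of_both_zeros
      (h0.eq_of_src _ _) (hZn.eq_of_tgt _ _)

theorem exists_compl_list (I : Ideal A) : ∀ fs : List A, (∀ f ∈ fs, f ∈ I) → ∀ X : Dual.D A,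
    ∃ (C : Dual.D A) (η : X ⟶ C), (∀ f ∈ fs, CompD f C) ∧ (∀ g, CompD g X → CompD g C) ∧
      (∀ E, DRing.IsDerivedComplete I E → Function.Bijective (fun g : C ⟶ E => η ≫ g)) ∧
      (∀ n : ℤ, (∀ j, n ≤ j → j ≤ n + fs.length → IsZero ((HF A j).obj X)) →
        IsZero ((HF A n).obj C)) := by
  intro fs
  induction fs with
  | nil =>
    exact fun _ X => ⟨X, 𝟙 X, fun f hf => absurd hf List.not_mem_nil, fun g hg => hg,
      fun E _ => ⟨fun a b h => by simpa using h, fun a => ⟨a, Category.id_comp a⟩⟩,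
      fun n h => h n le_rfl (by simp)⟩
  | cons f fs ih =>
    intro hI X
    obtain ⟨C₁, η₁, hf1, hg1, hb1, hz1⟩ := exists_step f X
    obtain ⟨C₂, η₂, hf2, hg2, hb2, hz2⟩ := ih (fun g hg => hI g (List.mem_cons_of_mem _ hg)) C₁
    refine ⟨C₂, η₁ ≫ η₂, fun g hg => ?_, fun g hg => hg2 g (hg1 g hg), fun E hE => ?_, fun n hn => ?_⟩
    · rcases List.mem_cons.1 hg with rfl | hg
      · exact hg2 _ hf1
      · exact hf2 g hg
    · have := (hb1 I (hI f (List.mem_cons_self ..)) E hE).comp (hb2 E hE)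
      simpa only [Function.comp_def, Category.assoc] using this
    · refine hz2 n fun j hj hj' => hz1 j (hn j hj ?_) (hn (j + 1) (by omega) ?_) <;>
        (simp only [List.length_cons]; push_cast; omega)

theorem exists_compl (fs : List A) {I : Ideal A} (hI : Ideal.span {x | x ∈ fs} = I) (X : Dual.D A) :
    ∃ (C : Dual.D A) (η : X ⟶ C), IsCompl I η ∧
      ∀ n : ℤ, (∀ j, n ≤ j → j ≤ n + fs.length → IsZero ((HF A j).obj X)) → IsZero ((HF A n).obj C) := by
  obtain ⟨C, η, h1, -, h3, h4⟩ := exists_compl_list I fs (fun f hf => hI ▸ Ideal.subset_span hf) X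
  exact ⟨C, η, ⟨dc_of_generators _ hI h1, h3⟩, h4⟩

theorem exists_list_of_fg {I : Ideal A} (hI : I.FG) : ∃ fs : List A, Ideal.span {x | x ∈ fs} = I := by
  obtain ⟨t, ht⟩ := hI
  exact ⟨t.toList, by simpa [Finset.mem_toList] using ht⟩

theorem hasDerivedCompletion_of_fg (I : Ideal A) (hI : I.FG) : DRing.HasDerivedCompletion I := by
  obtain ⟨fs, hfs⟩ := exists_list_of_fg hI
  choose C η hη _ using fun X : Dual.D A => exists_compl fs hfs X
  let e : ∀ (X : Dual.D A) (E : DRing.DComp I),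
      ((⟨C X, (hη X).1⟩ : DRing.DComp I) ⟶ E) ≃ (X ⟶ (ObjectProperty.ι (DRing.IsDerivedComplete I)).obj E) :=
    fun X E => ((ObjectProperty.fullyFaithfulι _).homEquiv).trans
      (Equiv.ofBijective _ ((hη X).2 E.obj E.property))
  exact ⟨_, ⟨Adjunction.adjunctionOfEquivLeft e fun X Y Y' g h => by
    show η X ≫ (h ≫ g).hom = (η X ≫ h.hom) ≫ g.hom
    exact (Category.assoc _ _ _).symm⟩⟩

theorem isCompl_unit (I : Ideal A) [DRing.HasDerivedCompletion I] (X : Dual.D A) :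
    IsCompl I (DRing.toDerivedCompletion I X) := by
  refine ⟨((DRing.derivedCompletion I).obj X).property, fun E hE => ?_⟩
  let a := ((DRing.derivedCompletionAdj I).homEquiv X ⟨E, hE⟩)
  let b := (ObjectProperty.fullyFaithfulι (DRing.IsDerivedComplete I)).homEquiv
    (X := (DRing.derivedCompletion I).obj X) (Y := ⟨E, hE⟩)
  have : (fun g : ((DRing.derivedCompletion I).obj X).obj ⟶ E => DRing.toDerivedCompletion I X ≫ g) =
      (a ∘ b.symm : _ → _) := funext fun g => by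
    rw [Function.comp_apply, Adjunction.homEquiv_unit]
    rfl
  rw [this]
  exact a.bijective.comp b.symm.bijective

theorem IsCompl.unique {I : Ideal A} {K C C' : Dual.D A} {η : K ⟶ C} {η' : K ⟶ C'}
    (h : IsCompl I η) (h' : IsCompl I η') : ∃ e : C ≅ C', η ≫ e.hom = η' := by
  obtain ⟨u, hu⟩ := (h.2 C' h'.1).2 η'
  obtain ⟨v, hv⟩ := (h'.2 C h.1).2 η
  simp only at hu hv
  exact ⟨⟨u, v, (h.2 C h.1).1 (by simp [reassoc_of% hu, hv]),
    (h'.2 C' h'.1).1 (by simp [reassoc_of% hv, hu])⟩, hu⟩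

theorem isZero_compl (fs : List A) {I : Ideal A} (hI : Ideal.span {x | x ∈ fs} = I) {K C : Dual.D A}
    {η : K ⟶ C} (h : IsCompl I η) (n : ℤ)
    (hK : ∀ j, n ≤ j → j ≤ n + fs.length → IsZero ((HF A j).obj K)) : IsZero ((HF A n).obj C) := by
  obtain ⟨C', η', h', hz⟩ := exists_compl fs hI K
  obtain ⟨e, -⟩ := h.unique h'
  exact (hz n hK).of_iso ((HF A n).mapIso e)

theorem IsCompl.shift_bijective {I : Ideal A} {K C : Dual.D A} {η : K ⟶ C} (h : IsCompl I η)
    (E : Dual.D A) (hE : DRing.IsDerivedComplete I E) :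
    Function.Bijective (fun g : C⟦(1 : ℤ)⟧ ⟶ E => η⟦(1 : ℤ)⟧' ≫ g) :=
  precomp_shift_bijective η E (h.2 _ (dc_shift hE (-1)))

/-- The third vertex of a morphism of triangles is a completion when the first two are. -/
theorem exists_compl_triangle {I : Ideal A} {T : Triangle (Dual.D A)} (hT : T ∈ distinguishedTriangles)
    {C₁ C₂ : Dual.D A} {η₁ : T.obj₁ ⟶ C₁} {η₂ : T.obj₂ ⟶ C₂} (h₁ : IsCompl I η₁) (h₂ : IsCompl I η₂)
    (ψ : C₁ ⟶ C₂) (hψ : T.mor₁ ≫ η₂ = η₁ ≫ ψ) :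
    ∃ (Z : Dual.D A) (p : C₂ ⟶ Z) (d : Z ⟶ C₁⟦(1 : ℤ)⟧) (γ : T.obj₃ ⟶ Z),
      Triangle.mk ψ p d ∈ distinguishedTriangles ∧ IsCompl I γ := by
  obtain ⟨Z, p, d, hZ⟩ := distinguished_cocone_triangle ψ
  obtain ⟨(γ : T.obj₃ ⟶ Z), hγ2, hγ3⟩ :=
    complete_distinguished_triangle_morphism T _ hT hZ η₁ η₂ hψ
  have hγ2' : T.mor₂ ≫ γ = η₂ ≫ p := hγ2
  have hγ3' : T.mor₃ ≫ η₁⟦(1 : ℤ)⟧' = γ ≫ d := hγ3
  have h0d : d ≫ ψ⟦(1 : ℤ)⟧' = 0 := comp_distTriang_mor_zero₃₁ _ hZ
  refine ⟨Z, p, d, γ, hZ, dc_obj₃ hZ h₁.1 h₂.1, fun E hE => ⟨fun a b hab => ?_, fun w => ?_⟩⟩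
  · rw [← sub_eq_zero]
    let g : Z ⟶ E := a - b
    show g = 0
    have hg : γ ≫ g = 0 := (Preadditive.comp_sub _ _ _).trans (sub_eq_zero.2 hab)
    have hpg : p ≫ g = 0 := (h₂.2 E hE).1 (by
      show η₂ ≫ p ≫ g = η₂ ≫ 0
      rw [← reassoc_of% hγ2', hg, comp_zero, comp_zero])
    obtain ⟨(k : C₁⟦(1 : ℤ)⟧ ⟶ E), (hk : g = d ≫ k)⟩ := Triangle.yoneda_exact₃ _ hZ g hpg
    have h1 : T.mor₃ ≫ η₁⟦(1 : ℤ)⟧' ≫ k = 0 := by
      rw [reassoc_of% hγ3', ← hk, hg]
    obtain ⟨(l : T.obj₂⟦(1 : ℤ)⟧ ⟶ E), (hl : η₁⟦(1 : ℤ)⟧' ≫ k = (-T.mor₁⟦(1 : ℤ)⟧') ≫ l)⟩ :=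
      Triangle.yoneda_exact₃ _ (rot_of_distTriang T hT) (η₁⟦(1 : ℤ)⟧' ≫ k) h1
    obtain ⟨l', hl'⟩ := (h₂.shift_bijective E hE).2 l
    simp only at hl'
    have hk' : k = -(ψ⟦(1 : ℤ)⟧' ≫ l') := (h₁.shift_bijective E hE).1 (by
      show η₁⟦(1 : ℤ)⟧' ≫ k = η₁⟦(1 : ℤ)⟧' ≫ _
      rw [hl, ← hl', Preadditive.neg_comp, Preadditive.comp_neg, ← Functor.map_comp_assoc,
        ← Functor.map_comp_assoc, hψ])
    rw [hk, hk', Preadditive.comp_neg, reassoc_of% h0d, zero_comp, neg_zero]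
  · obtain ⟨v, hv⟩ := (h₂.2 E hE).2 (T.mor₂ ≫ w)
    simp only at hv
    have hψv : ψ ≫ v = 0 := (h₁.2 E hE).1 (by
      show η₁ ≫ ψ ≫ v = η₁ ≫ 0
      rw [← reassoc_of% hψ, hv, reassoc_of% (comp_distTriang_mor_zero₁₂ T hT), zero_comp, comp_zero])
    obtain ⟨(g : Z ⟶ E), (hg : v = p ≫ g)⟩ := Triangle.yoneda_exact₂ _ hZ v hψv
    obtain ⟨k, hk⟩ := Triangle.yoneda_exact₃ T hT (w - γ ≫ g) (by
      rw [Preadditive.comp_sub, reassoc_of% hγ2', ← hg, hv, sub_self])
    obtain ⟨k', hk'⟩ := (h₁.shift_bijective E hE).2 k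
    simp only at hk'
    refine ⟨g + d ≫ k', ?_⟩
    show γ ≫ (g + d ≫ k') = w
    rw [Preadditive.comp_add, ← reassoc_of% hγ3', hk', ← hk]
    abel

theorem completion_map_triangle (I : Ideal A) [DRing.HasDerivedCompletion I] {K L : Dual.D A} (φ : K ⟶ L) :
    ∃ (M Z : Dual.D A) (q : L ⟶ M) (q' : M ⟶ K⟦(1 : ℤ)⟧) (p : _ ⟶ Z) (d : _) (γ : M ⟶ Z),
      Triangle.mk φ q q' ∈ distinguishedTriangles ∧
      Triangle.mk ((DRing.derivedCompletion I).map φ).hom p d ∈ distinguishedTriangles ∧ IsCompl I γ := by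
  obtain ⟨M, q, q', hT⟩ := distinguished_cocone_triangle φ
  obtain ⟨Z, p, d, γ, h1, h2⟩ := exists_compl_triangle hT (isCompl_unit I K) (isCompl_unit I L)
    ((DRing.derivedCompletion I).map φ).hom ((DRing.derivedCompletionAdj I).unit.naturality φ)
  exact ⟨M, Z, q, q', p, d, γ, hT, h1, h2⟩

end Groth.Agent.DR40
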