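import Groth.Agent.DTen43.Binders
import Groth.Agent.DR39.Derived

/-! `LBaseChange` is left adjoint to restriction. -/

set_option autoImplicit false
set_option linter.style.haveILetI false
set_option linter.unusedSectionVars false

universe u

open CategoryTheory CategoryTheory.Limits
attribute [local instance] HasDerivedCategory.standard

namespace Groth.Agent.DR40

open Groth.Agent.DR39

variable {R A : Type u} [CommRing R] [CommRing A] (φ : R →+* A) [DTen.HasLBase φ]

/-- The comparison on the homotopy category. -/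
noncomputable def baseCmpKh :
    DerivedCategory.Qh (C := ModuleCat.{u} R) ⋙ DTen.LBase φ ⟶ FKh (ModuleCat.extendScalars.{u, u, u} φ) :=
  CategoryTheory.Quotient.natTransLift _ (F := DerivedCategory.Qh (C := ModuleCat.{u} R) ⋙ DTen.LBase φ)
    (G := FKh (ModuleCat.extendScalars.{u, u, u} φ))
    ((Functor.associator (HomotopyCategory.quotient _ _) DerivedCategory.Qh (DTen.LBase φ)).inv ≫
      Functor.whiskerRight (DerivedCategory.quotientCompQhIso (ModuleCat.{u} R)).hom _ ≫ DTen.baseCmp φ ≫
      Functor.whiskerLeft (DTen.extCx φ) (DerivedCategory.quotientCompQhIso (ModuleCat.{u} A)).inv ≫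
      (Functor.associator _ _ _).inv ≫
      Functor.whiskerRight ((ModuleCat.extendScalars.{u, u, u} φ).mapHomotopyCategoryFactors (ComplexShape.up ℤ)).inv _ ≫
      (Functor.associator _ _ _).hom)

theorem isIso_baseCmpKh (P : DRing.Cx R) [P.IsKProjective] :
    IsIso ((baseCmpKh φ).app ((HomotopyCategory.quotient _ _).obj P)) := by
  haveI := DTen43.isIso_baseCmp φ P (isKFlat_of_isKProjective (P := P))
  simp only [baseCmpKh, HomotopyCategory.quotient]
  erw [CategoryTheory.Quotient.natTransLift_app]
  simp only [NatTrans.comp_app, Functor.associator_inv_app, Functor.associator_hom_app, Functor.whiskerRight_app,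
    Functor.whiskerLeft_app]
  exact IsIso.comp_isIso' (IsIso.id _) (IsIso.comp_isIso' (Functor.map_isIso _ _) (IsIso.comp_isIso' this
    (IsIso.comp_isIso' inferInstance (IsIso.comp_isIso' (IsIso.id _) (IsIso.comp_isIso' (Functor.map_isIso _ _) (IsIso.id _))))))

theorem nonempty_LBaseChange_adjunction [DRing.HasLBaseChange φ] :
    Nonempty (DRing.LBaseChange φ ⊣ DRing.restrictD φ) := by
  let F := ModuleCat.extendScalars.{u, u, u} φ
  let W := HomotopyCategory.quasiIso (ModuleCat.{u} R) (ComplexShape.up ℤ)
  let α := (FKh F).totalLeftDerivedCounit DerivedCategory.Qh W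
  let γ : DTen.LBase φ ⟶ LF F := (LF F).leftDerivedLift α W (DTen.LBase φ) (baseCmpKh φ)
  haveI : ∀ Y, IsIso (γ.app Y) := fun Y => by
    obtain ⟨X, ⟨P, hP, rfl⟩, ⟨e⟩⟩ := (khDeformation F).exists_rep W Y
    haveI := hP
    rw [← NatTrans.isIso_app_iff_of_iso γ e]
    haveI := (khDeformation F).isIso_counit W α (X := (HomotopyCategory.quotient _ _).obj P) ⟨P, hP, rfl⟩
    haveI := isIso_baseCmpKh φ P
    exact IsIso.of_isIso_fac_right ((LF F).leftDerived_fac_app α W (DTen.LBase φ) (baseCmpKh φ)
      ((HomotopyCategory.quotient _ _).obj P))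
  haveI : IsIso γ := NatIso.isIso_of_isIso_app γ
  exact ⟨(DTen.baseAdj φ).ofNatIsoLeft (asIso γ)⟩

end Groth.Agent.DR40
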