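import Groth.Agent.DR40.RHomTri
import Groth.Agent.DR39.HomAssoc
import Groth.Agent.DR39.TensorSymm
import Groth.Agent.DR39.TA
import Mathlib.RingTheory.Localization.BaseChange

/-! `RHom(A_f, RHom(A_g, -)) = RHom(A_{fg}, -)`. -/

set_option autoImplicit false
set_option linter.style.haveILetI false
set_option linter.unusedSectionVars false

universe u

open CategoryTheory CategoryTheory.Limits MonoidalCategory CochainComplex.HomComplex
open scoped TensorProduct

attribute [local instance] HasDerivedCategory.standard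

namespace Groth.Agent.DR40

open Groth.Agent.DR39

variable {A : Type u} [CommRing A]

theorem isKInjective_homCx (L I : DRing.Cx A) (hL : DRing.IsKFlat A L) [I.IsKInjective] :
    (DRing.homCx L I).IsKInjective where
  nonempty_homotopy_zero {K} φ hK := by
    obtain ⟨e⟩ := homCx_assoc K L I
    have hz : IsZero ((DRing.homCx K (DRing.homCx L I)).homology 0) := by
      refine IsZero.of_iso ?_ ((HomologicalComplex.homologyFunctor _ _ 0).mapIso e)
      haveI : Subsingleton ((QA A).obj (K ⊗ L) ⟶ (QA A).obj (I⟦(0 : ℤ)⟧)) := by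
        have h0 : IsZero ((QA A).obj (K ⊗ L)) := by
          haveI : QuasiIso (0 : K ⊗ L ⟶ K ⊗ L) := ⟨fun i => by
            rw [quasiIsoAt_iff_isIso_homologyMap]
            exact Limits.IsZero.isIso (hL K (fun j => (hK j).isZero_homology) i)
              (hL K (fun j => (hK j).isZero_homology) i) _⟩
          haveI h1 : IsIso ((QA A).map (0 : K ⊗ L ⟶ K ⊗ L)) :=
            (DerivedCategory.isIso_Q_map_iff_quasiIso (ModuleCat.{u} A) _).2 inferInstance
          rw [IsZero.iff_id_eq_zero, ← cancel_epi ((QA A).map (0 : K ⊗ L ⟶ K ⊗ L))]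
          simp
        exact ⟨fun a b => h0.eq_of_src a b⟩
      obtain ⟨l⟩ := nonempty_homology_homCx_equiv (K ⊗ L) I 0
      exact (ModuleCat.isZero_iff_subsingleton).2 l.toEquiv.subsingleton
    have hcyc : (δ 0 (0 + 1) (Cochain.ofHom φ) : Cochain K (DRing.homCx L I) (0 + 1)) = 0 := δ_ofHom φ
    obtain ⟨(w : Cochain K (DRing.homCx L I) (0 - 1)), hw⟩ := (isZero_homology_iff (DRing.homCx K (DRing.homCx L I)) 0).1 hz (Cochain.ofHom φ) hcyc
    refine ⟨(Cochain.equivHomotopy φ 0).symm ⟨(show Cochain K (DRing.homCx L I) (-1) from w), ?_⟩⟩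
    rw [Cochain.ofHom_zero, add_zero]
    exact hw.symm

/-- `A_f ⊗ A_g = A_{fg}`. -/
theorem nonempty_away_tensor (f g : A) :
    Nonempty ((Localization.Away f ⊗[A] Localization.Away g) ≃ₗ[A] Localization.Away (f * g)) := by
  let T := Localization (Algebra.algebraMapSubmonoid (Localization.Away f) (Submonoid.powers g))
  haveI h1 : IsLocalization.Away (algebraMap A (Localization.Away f) g) T := by
    have : Algebra.algebraMapSubmonoid (Localization.Away f) (Submonoid.powers g) =
        Submonoid.powers (algebraMap A (Localization.Away f) g) := Submonoid.map_powers _ g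
    show IsLocalization (Submonoid.powers _) T
    rw [← this]
    infer_instance
  haveI : IsLocalization.Away (f * g) T := IsLocalization.Away.mul' (Localization.Away f) T f g
  exact ⟨((Localization.tensorLeftAlgEquiv (Submonoid.powers g) (Localization.Away f)).restrictScalars A).toLinearEquiv.trans
    (IsLocalization.algEquiv (Submonoid.powers (f * g)) T (Localization.Away (f * g))).toLinearEquiv⟩

theorem isKFlat_sgl (M : ModuleCat.{u} A) [Module.Flat A M] : DRing.IsKFlat A (sgl M) := by
  refine isKFlat_of_flat 0 (fun i hi => HomologicalComplex.isZero_single_obj_X _ _ _ _ (by omega)) fun i => ?_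
  show Module.Flat A _
  by_cases hi : i = 0
  · subst hi
    exact Module.Flat.of_linearEquiv (HomologicalComplex.singleObjXSelf (ComplexShape.up ℤ) 0 M).toLinearEquiv
  · haveI := ModuleCat.subsingleton_of_isZero
      (HomologicalComplex.isZero_single_obj_X (ComplexShape.up ℤ) 0 M i hi)
    haveI : Module.Free A ((sgl M).X i) := Module.Free.of_subsingleton A _
    infer_instance

theorem RHomCx_comp_single (M N P : ModuleCat.{u} A) [Module.Flat A N] (e : M ⊗ N ≅ P)
    [DRing.HasRHomCx (sgl M)] [DRing.HasRHomCx (sgl N)] [DRing.HasRHomCx (sgl P)] (K : Dual.D A) :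
    Nonempty ((DRing.RHomCx (sgl M)).obj ((DRing.RHomCx (sgl N)).obj K) ≅ (DRing.RHomCx (sgl P)).obj K) := by
  obtain ⟨I, hI, ⟨eI⟩⟩ := exists_kinj_rep K
  haveI := hI
  haveI hH := isKInjective_homCx (sgl N) I (isKFlat_sgl N)
  haveI := isIso_homCxUnit (sgl N) I hI
  haveI := isIso_homCxUnit (sgl M) (DRing.homCx (sgl N) I) hH
  have hPu := isIso_homCxUnit (sgl P) I hI
  let τ : sgl P ≅ sgl M ⊗ sgl N :=
    (HomologicalComplex.single _ _ 0).mapIso e.symm ≪≫
      ((HomologicalComplex.singleMapHomologicalComplex (MonoidalCategory.tensorRight N) (ComplexShape.up ℤ) 0).app M).symm ≪≫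
      asIso (toSingleTensor (sgl M) N)
  obtain ⟨a⟩ := homCx_assoc (sgl M) (sgl N) I
  haveI : IsIso (homCxPre τ.hom I) := by
    have hid : ∀ X : DRing.Cx A, homCxPre (𝟙 X) I = 𝟙 _ := fun X =>
      HomologicalComplex.hom_ext _ _ fun n => ModuleCat.hom_ext (LinearMap.ext fun (z : Cochain X I n) =>
        Cochain.id_comp z)
    have hc : ∀ {X Y Z : DRing.Cx A} (p : X ⟶ Y) (q : Y ⟶ Z),
        homCxPre q I ≫ homCxPre p I = homCxPre (p ≫ q) I := fun {X Y Z} p q =>
      HomologicalComplex.hom_ext _ _ fun n => ModuleCat.hom_ext (LinearMap.ext fun (z : Cochain Z I n) => by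
        show (Cochain.ofHom p).comp ((Cochain.ofHom q).comp z (zero_add n)) (zero_add n) =
          (Cochain.ofHom (p ≫ q)).comp z (zero_add n)
        rw [Cochain.ofHom_comp, Cochain.comp_assoc_of_first_is_zero_cochain])
    exact ⟨homCxPre τ.inv I, by rw [hc, τ.inv_hom_id, hid], by rw [hc, τ.hom_inv_id, hid]⟩
  refine ⟨(DRing.RHomCx (sgl M)).mapIso ((DRing.RHomCx (sgl N)).mapIso eI.symm ≪≫
      (asIso ((homCxUnit (sgl N)).app I)).symm) ≪≫
    (asIso ((homCxUnit (sgl M)).app (DRing.homCx (sgl N) I))).symm ≪≫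
    (QA A).mapIso a ≪≫ (QA A).mapIso (asIso (homCxPre τ.hom I)) ≪≫
    @asIso _ _ _ _ ((homCxUnit (sgl P)).app I) hPu ≪≫ (DRing.RHomCx (sgl P)).mapIso eI⟩

theorem RHomCx_away_comp (f g : A)
    [DRing.HasRHomCx (sgl (ModuleCat.of A (Localization.Away f)))]
    [DRing.HasRHomCx (sgl (ModuleCat.of A (Localization.Away g)))]
    [DRing.HasRHomCx (sgl (ModuleCat.of A (Localization.Away (f * g))))] (K : Dual.D A) :
    Nonempty ((DRing.RHomCx (sgl (ModuleCat.of A (Localization.Away f)))).obj
      ((DRing.RHomCx (sgl (ModuleCat.of A (Localization.Away g)))).obj K) ≅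
        (DRing.RHomCx (sgl (ModuleCat.of A (Localization.Away (f * g))))).obj K) := by
  haveI : Module.Flat A (ModuleCat.of A (Localization.Away g)) :=
    IsLocalization.flat (Localization.Away g) (Submonoid.powers g)
  exact RHomCx_comp_single _ (ModuleCat.of A (Localization.Away g)) _ (nonempty_away_tensor f g).some.toModuleIso K

end Groth.Agent.DR40
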