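import Groth.Agent.DR40.TensorComplete
import Groth.Agent.DR40.LocComp
import Mathlib.RingTheory.AdicCompletion.AsTensorProduct
import Mathlib.RingTheory.AdicCompletion.Completeness

/-! Derived completion of complexes with finite cohomology over a Noetherian ring. -/

set_option autoImplicit false
set_option linter.style.haveILetI false
set_option linter.unusedSectionVars false

universe u

open CategoryTheory CategoryTheory.Limits CategoryTheory.Pretriangulated MonoidalCategory HomologicalComplex
open scoped TensorProduct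

attribute [local instance] HasDerivedCategory.standard

namespace Groth.Agent.DR40

open Groth.Agent.DR39

variable {A : Type u} [CommRing A] (I : Ideal A)

/-- The completion of the ring as a module. -/
noncomputable abbrev complM : ModuleCat.{u} A := ModuleCat.of A (AdicCompletion I A)

/-- `A → Â`. -/
noncomputable abbrev complι : ModuleCat.of A A ⟶ complM I := ModuleCat.ofHom (AdicCompletion.of I A)

/-- `N → N ⊗ Â`. -/
noncomputable def complτ : 𝟭 (ModuleCat.{u} A) ⟶ MonoidalCategory.tensorRight (complM I) where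
  app N := ModuleCat.ofHom (X := N) (Y := N ⊗[A] AdicCompletion I A) ((TensorProduct.mk A N _).flip 1)
  naturality N N' f := by ext x; rfl

/-- `C → C ⊗ Â`. -/
noncomputable def complU (C : DRing.Cx A) : C ⟶ DRing.tensorCx C (complM I) where
  f i := (complτ I).app (C.X i)
  comm' i j _ := ((complτ I).naturality (C.d i j)).symm

section Noeth

variable [IsNoetherianRing A]

theorem preservesHomology_tensorCompl :
    (MonoidalCategory.tensorRight (complM I)).PreservesHomology := by
  haveI : Module.Flat A (complM I) := inferInstanceAs (Module.Flat A (AdicCompletion I A))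
  haveI : PreservesFiniteLimits (MonoidalCategory.tensorRight (complM I)) := inferInstance
  haveI : PreservesFiniteColimits (MonoidalCategory.tensorRight (complM I)) :=
    preservesFiniteColimits_of_natIso (BraidedCategory.tensorLeftIsoTensorRight _)
  infer_instance

theorem exists_homology_tensorCompl (C : DRing.Cx A) (n : ℤ) :
    ∃ e : (DRing.tensorCx C (complM I)).homology n ≅ (C.homology n ⊗ complM I : ModuleCat.{u} A),
      HomologicalComplex.homologyMap (complU I C) n ≫ e.hom = (complτ I).app (C.homology n) := by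
  haveI := preservesHomology_tensorCompl I
  let w : (C.homology n : ModuleCat.{u} A) ≅ C.homology n := (C.sc n).mapHomologyIso (𝟭 (ModuleCat.{u} A))
  refine ⟨(C.sc n).mapHomologyIso (MonoidalCategory.tensorRight (complM I)) ≪≫
    (MonoidalCategory.tensorRight (complM I)).mapIso w.symm, ?_⟩
  have h : HomologicalComplex.homologyMap (complU I C) n ≫
      ((C.sc n).mapHomologyIso (MonoidalCategory.tensorRight (complM I))).hom =
        w.hom ≫ (complτ I).app (C.homology n) := by
    have := NatTrans.app_homology (complτ I) (C.sc n)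
    exact ((Iso.eq_inv_comp w).1 this).symm
  rw [Iso.trans_hom, Functor.mapIso_hom, Iso.symm_hom, ← Category.assoc]
  refine (congrArg (· ≫ (MonoidalCategory.tensorRight (complM I)).map w.inv) h).trans ?_
  rw [Category.assoc]
  refine (congrArg (w.hom ≫ ·) ((complτ I).naturality w.inv).symm).trans ?_
  exact Iso.hom_inv_id_assoc w _

theorem bijective_complτ (N : ModuleCat.{u} A) [Module.Finite A N] (k : ℕ)
    (hk : ∀ a ∈ I ^ k, ∀ x : N, a • x = 0) : Function.Bijective ((complτ I).app N).hom := by
  have hbot : (I ^ k • ⊤ : Submodule A N) = ⊥ :=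
    eq_bot_iff.2 (Submodule.smul_le.2 fun a ha x _ => (Submodule.mem_bot A).2 (hk a ha x))
  haveI : IsAdicComplete I N := by
    refine { haus' := fun x hx => ?_, prec' := fun f hf => ⟨f k, fun n => ?_⟩ }
    · have := hx k
      rwa [hbot, SModEq.zero, Submodule.mem_bot] at this
    · rcases le_total n k with h | h
      · exact hf h
      · have := hf h
        rw [hbot, SModEq.bot] at this
        rw [this]
  let e : AdicCompletion I N ≃ (N ⊗[A] AdicCompletion I A) :=
    (AdicCompletion.ofTensorProductEquivOfFiniteNoetherian I N).symm.toEquiv.trans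
      (TensorProduct.comm A (AdicCompletion I A) N).toEquiv
  have : ⇑((complτ I).app N).hom = e ∘ AdicCompletion.of I N := funext fun x => by
    simp only [Function.comp_apply, e]
    show x ⊗ₜ[A] (1 : AdicCompletion I A) = TensorProduct.comm A (AdicCompletion I A) N
      ((AdicCompletion.ofTensorProductEquivOfFiniteNoetherian I N).symm (AdicCompletion.of I N x))
    rw [AdicCompletion.ofTensorProductEquivOfFiniteNoetherian_symm_of, TensorProduct.comm_tmul]
  rw [this]
  exact e.bijective.comp (AdicCompletion.of_bijective I N)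

theorem quasiIso_complU (C : DRing.Cx A) (h : ∀ n, Function.Bijective ((complτ I).app (C.homology n)).hom) :
    QuasiIso (complU I C) := ⟨fun n => by
  obtain ⟨e, he⟩ := exists_homology_tensorCompl I C n
  rw [quasiIsoAt_iff_isIso_homologyMap]
  haveI : IsIso ((complτ I).app (C.homology n)) := (DR39.isIso_iff_bijective _).2 (h n)
  haveI : IsIso (HomologicalComplex.homologyMap (complU I C) n ≫ e.hom) := by rw [he]; infer_instance
  exact IsIso.of_isIso_comp_right _ e.hom⟩

end Noeth

/-- `C ⊗ g`. -/
noncomputable def tmap (C : DRing.Cx A) {N N' : ModuleCat.{u} A} (g : N ⟶ N') :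
    DRing.tensorCx C N ⟶ DRing.tensorCx C N' :=
  (NatTrans.mapHomologicalComplex ((MonoidalCategory.curriedTensor (ModuleCat.{u} A)).flip.map g)
    (ComplexShape.up ℤ)).app C

theorem toSingleTensor_naturality_right (C : DRing.Cx A) {N N' : ModuleCat.{u} A} (g : N ⟶ N') :
    toSingleTensor C N ≫ (C ◁ (single (ModuleCat.{u} A) (ComplexShape.up ℤ) 0).map g) =
      tmap C g ≫ toSingleTensor C N' := by
  refine HomologicalComplex.hom_ext _ _ fun q => ?_
  show ((C.X q ◁ _) ≫ ιTensorObj C (sgl N) q 0 q (add_zero q)) ≫ (C ◁ _).f q =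
    (C.X q ◁ g) ≫ (C.X q ◁ _) ≫ ιTensorObj C (sgl N') q 0 q (add_zero q)
  rw [Category.assoc, DR39.whiskerLeft_ι, ← Category.assoc, ← Category.assoc,
    ← MonoidalCategory.whiskerLeft_comp, ← MonoidalCategory.whiskerLeft_comp, single_map_f_self,
    Iso.inv_hom_id_assoc]

/-- `C ≅ C ⊗ A`. -/
noncomputable def tensorUnitIso (C : DRing.Cx A) : C ≅ DRing.tensorCx C (ModuleCat.of A A) :=
  HomologicalComplex.Hom.isoOfComponents
    (fun i => ((TensorProduct.rid A (C.X i)).symm.toModuleIso :
      C.X i ≅ ((MonoidalCategory.tensorRight (ModuleCat.of A A)).mapHomologicalComplex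
        (ComplexShape.up ℤ)).obj C |>.X i))
    fun _ _ _ => ModuleCat.hom_ext (LinearMap.ext fun _ => rfl)

theorem tensorUnitIso_comp (C : DRing.Cx A) :
    (tensorUnitIso C).hom ≫ tmap C (complι I) = complU I C := by
  refine HomologicalComplex.hom_ext _ _ fun i => ModuleCat.hom_ext (LinearMap.ext fun x => ?_)
  show x ⊗ₜ[A] AdicCompletion.of I A 1 = x ⊗ₜ[A] (1 : AdicCompletion I A)
  rw [show AdicCompletion.of I A 1 = (1 : AdicCompletion I A) from AdicCompletion.ext fun n => rfl]

/-- The cone of `A → Â`. -/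
noncomputable abbrev complCone : DRing.Cx A :=
  CochainComplex.mappingCone ((single (ModuleCat.{u} A) (ComplexShape.up ℤ) 0).map (complι I))

section Noeth

variable [IsNoetherianRing A]

theorem isKFlat_complCone : DRing.IsKFlat A (complCone I) := fun M hM i => by
  haveI : Module.Flat A (complM I) := inferInstanceAs (Module.Flat A (AdicCompletion I A))
  haveI : Module.Flat A (ModuleCat.of A A) := inferInstanceAs (Module.Flat A A)
  exact (kflat_triangle _ (HomotopyCategory.mappingCone_triangleh_distinguished _) M i).1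
    (isKFlat_sgl (ModuleCat.of A A) M hM (i + 1)) (isKFlat_sgl (complM I) M hM i)

theorem exists_completion_triangle (X : Dual.D A) : ∃ (C : DRing.Cx A) (e : (QA A).obj C ≅ X)
    (g : (QA A).obj (DRing.tensorCx C (complM I)) ⟶ (leftR (complCone I) (isKFlat_complCone I)).obj X)
    (h : (leftR (complCone I) (isKFlat_complCone I)).obj X ⟶ X⟦(1 : ℤ)⟧),
    Triangle.mk (e.inv ≫ (QA A).map (complU I C)) g h ∈ distinguishedTriangles := by
  obtain ⟨C, hC, ⟨e⟩⟩ := exists_kproj_rep X
  haveI := hC
  have hK : DRing.IsKFlat A C := isKFlat_of_isKProjective (P := C)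
  let j := (single (ModuleCat.{u} A) (ComplexShape.up ℤ) 0).map (complι I)
  let R := leftR C hK
  obtain ⟨g', h', hd⟩ := (leftModel C hK).triangle (DerivedCategory.mappingCone_triangle_distinguished j)
  let F := leftFac C hK
  let a : X ≅ R.obj ((QA A).obj (sgl (ModuleCat.of A A))) := e.symm ≪≫ (QA A).mapIso (tensorUnitIso C) ≪≫
    (QA A).mapIso (@asIso _ _ _ _ (toSingleTensor C (ModuleCat.of A A)) (DR39.isIso_toSingleTensor _ _)) ≪≫
    (F.app _).symm
  let b : (QA A).obj (DRing.tensorCx C (complM I)) ≅ R.obj ((QA A).obj (sgl (complM I))) :=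
    (QA A).mapIso (@asIso _ _ _ _ (toSingleTensor C (complM I)) (DR39.isIso_toSingleTensor _ _)) ≪≫
    (F.app _).symm
  let c : (leftR (complCone I) (isKFlat_complCone I)).obj X ≅ R.obj ((QA A).obj (complCone I)) :=
    (leftR (complCone I) (isKFlat_complCone I)).mapIso e.symm ≪≫
      (leftFac (complCone I) (isKFlat_complCone I)).app C ≪≫
      (QA A).mapIso (@asIso _ _ _ _ (symm' (complCone I) C) (DR39.isIso_symm' _ _)) ≪≫ (F.app _).symm
  refine ⟨C, e, b.hom ≫ g' ≫ c.inv, c.hom ≫ h' ≫ a.inv⟦(1 : ℤ)⟧',
    isomorphic_distinguished _ hd _ (Triangle.isoMk _ _ a b c ?_ ?_ ?_)⟩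
  · show (e.inv ≫ (QA A).map (complU I C)) ≫ b.hom = a.hom ≫ R.map ((QA A).map j)
    have hn : F.inv.app _ ≫ R.map ((QA A).map j) = (QA A).map (C ◁ j) ≫ F.inv.app _ :=
      (F.inv.naturality j).symm
    simp only [a, b, Iso.trans_hom, Iso.symm_hom, Iso.app_inv, Functor.mapIso_hom, asIso_hom, Category.assoc]
    rw [hn, ← tensorUnitIso_comp, Functor.map_comp]
    simp only [Category.assoc]
    refine congrArg (e.inv ≫ ·) (congrArg ((QA A).map (tensorUnitIso C).hom ≫ ·) ?_)
    exact (Category.assoc _ _ _).symm.trans ((congrArg (· ≫ F.inv.app _) (((QA A).map_comp _ _).symm.trans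
      ((congrArg (fun t => (QA A).map t) (toSingleTensor_naturality_right C (complι I)).symm).trans
        ((QA A).map_comp _ _)))).trans (Category.assoc _ _ _))
  · show (b.hom ≫ g' ≫ c.inv) ≫ c.hom = b.hom ≫ g'
    exact (Category.assoc _ _ _).trans (congrArg (b.hom ≫ ·)
      ((Category.assoc _ _ _).trans ((congrArg (g' ≫ ·) c.inv_hom_id).trans (Category.comp_id _))))
  · show (c.hom ≫ h' ≫ a.inv⟦(1 : ℤ)⟧') ≫ a.hom⟦(1 : ℤ)⟧' = c.hom ≫ h'
    refine (Category.assoc _ _ _).trans (congrArg (c.hom ≫ ·) ((Category.assoc _ _ _).trans ?_))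
    exact (congrArg (h' ≫ ·) ((shiftFunctor (Dual.D A) (1 : ℤ)).mapIso a).inv_hom_id).trans (Category.comp_id _)

theorem finite_cn (f : A) (X : Dual.D A) (h : ∀ n, Module.Finite A (Dual.HD A X n)) (n : ℤ) :
    Module.Finite A (Dual.HD A (cn f X) n) := by
  have hT := cn_distinguished f X
  have e2 := (DerivedCategory.HomologySequence.exact₂ _ (rot_of_distTriang _ hT) n)
  haveI := h n
  haveI : Module.Finite A (Dual.HD A (X⟦(1 : ℤ)⟧) n) := by
    haveI : Module.Finite A (((HF A 0).shift (1 + n)).obj X) := h (1 + n)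
    exact Module.Finite.equiv (((HF A 0).shiftIso 1 n (1 + n) rfl).app X).symm.toLinearEquiv
  have hex := e2.moduleCat_range_eq_ker
  haveI : IsNoetherian A (Dual.HD A (X⟦(1 : ℤ)⟧) n) := isNoetherian_of_isNoetherianRing_of_finite _ _
  let u : Dual.HD A X n →ₗ[A] Dual.HD A (cn f X) n := ((HF A n).map (cnι f X)).hom
  let v : Dual.HD A (cn f X) n →ₗ[A] Dual.HD A (X⟦(1 : ℤ)⟧) n := ((HF A n).map (cnδ f X)).hom
  refine ⟨Submodule.fg_of_fg_map_of_fg_inf_ker v (IsNoetherian.noetherian _) ?_⟩
  rw [top_inf_eq, show LinearMap.ker v = LinearMap.range u from hex.symm, LinearMap.range_eq_map]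
  exact Submodule.FG.map _ Module.Finite.fg_top

theorem finite_kos : ∀ (fs : List A) (X : Dual.D A), (∀ n, Module.Finite A (Dual.HD A X n)) →
    ∀ n, Module.Finite A (Dual.HD A (kosObj fs X) n)
  | [], _, h => h
  | f :: fs, X, h => finite_kos fs (cn f X) (finite_cn f X h)

theorem orth_complCone (fs : List A) (hI : Ideal.span {x | x ∈ fs} = I) (X : Dual.D A)
    (hX : ∀ n, Module.Finite A (Dual.HD A X n)) :
    Orth I ((leftR (complCone I) (isKFlat_complCone I)).obj X) := by
  rw [orth_iff_kos fs hI]
  obtain ⟨k⟩ := (leftModel (complCone I) (isKFlat_complCone I)).kosObj fs X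
  refine IsZero.of_iso ?_ k
  obtain ⟨C, e, g, h, hT⟩ := exists_completion_triangle I (kosObj fs X)
  refine (Triangle.isZero₃_iff_isIso₁ _ hT).2 ?_
  haveI : QuasiIso (complU I C) := quasiIso_complU I C fun n => by
    let l := (((HF A n).mapIso e).symm ≪≫ HQIso C n).toLinearEquiv
    haveI : Module.Finite A (C.homology n) := by
      haveI := finite_kos fs X hX n
      exact Module.Finite.equiv l
    have hle : I ≤ Ideal.radical (Module.annihilator A (Dual.HD A (kosObj fs X) n)) := by
      refine hI ▸ Ideal.span_le.2 fun f hf => ?_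
      obtain ⟨m, hm⟩ := kos_killed fs X f (Or.inl hf)
      exact ⟨m, Module.mem_annihilator.2 (hm n)⟩
    obtain ⟨m, hm⟩ := Ideal.exists_pow_le_of_le_radical_of_fg hle (IsNoetherian.noetherian I)
    exact bijective_complτ I _ m fun a ha x => l.symm.injective (by
      rw [map_smul, map_zero]
      exact Module.mem_annihilator.1 (hm ha) _)
  haveI := (DerivedCategory.isIso_Q_map_iff_quasiIso (ModuleCat.{u} A) (complU I C)).2 inferInstance
  show IsIso (e.inv ≫ (QA A).map (complU I C))
  infer_instance

theorem exists_isCompl_of_finite (X : Dual.D A) (hX : ∀ n, Module.Finite A (Dual.HD A X n)) :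
    ∃ (D : Dual.D A) (η : X ⟶ D), IsCompl I η ∧ ∀ n, ∃ e : Dual.HD A D n ≃ₗ[A] AdicCompletion I (Dual.HD A X n),
      ∀ x, e (((HF A n).map η).hom x) = AdicCompletion.of I (Dual.HD A X n) x := by
  obtain ⟨C, e, g, h, hT⟩ := exists_completion_triangle I X
  obtain ⟨fs, hfs⟩ := exists_list_of_fg (IsNoetherian.noetherian I)
  have key : ∀ n, ∃ l : Dual.HD A ((QA A).obj (DRing.tensorCx C (complM I))) n ≃ₗ[A]
      AdicCompletion I (Dual.HD A X n),
      ∀ x, l (((HF A n).map (e.inv ≫ (QA A).map (complU I C))).hom x) = AdicCompletion.of I (Dual.HD A X n) x := by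
    intro n
    haveI := hX n
    obtain ⟨eh, he⟩ := exists_homology_tensorCompl I C n
    let l := ((HQIso C n).symm ≪≫ (HF A n).mapIso e).toLinearEquiv
    refine ⟨((HQIso _ n).toLinearEquiv.trans (eh.toLinearEquiv)).trans
      ((TensorProduct.congr l (LinearEquiv.refl A (AdicCompletion I A))).trans
        ((TensorProduct.comm A _ _).trans
          ((AdicCompletion.ofTensorProductEquivOfFiniteNoetherian I (Dual.HD A X n)).restrictScalars A))),
      fun x => ?_⟩
    have h1 : (HQIso (DRing.tensorCx C (complM I)) n).hom.hom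
        (((HF A n).map (e.inv ≫ (QA A).map (complU I C))).hom x) =
        (HomologicalComplex.homologyMap (complU I C) n).hom (l.symm x) := by
      rw [Functor.map_comp]
      exact LinearMap.congr_fun (congrArg ModuleCat.Hom.hom (HQIso_naturality (complU I C) n))
        (((HF A n).map e.inv).hom x)
    have h2 : eh.hom.hom ((HomologicalComplex.homologyMap (complU I C) n).hom (l.symm x)) =
        (l.symm x) ⊗ₜ[A] (1 : AdicCompletion I A) :=
      LinearMap.congr_fun (congrArg ModuleCat.Hom.hom he) (l.symm x)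
    show AdicCompletion.ofTensorProductEquivOfFiniteNoetherian I (Dual.HD A X n)
      (TensorProduct.comm A _ _ (TensorProduct.congr l (LinearEquiv.refl A (AdicCompletion I A))
        (eh.hom.hom ((HQIso (DRing.tensorCx C (complM I)) n).hom.hom _)))) = _
    rw [h1, h2, TensorProduct.congr_tmul, TensorProduct.comm_tmul,
      AdicCompletion.ofTensorProductEquivOfFiniteNoetherian_apply, AdicCompletion.ofTensorProduct_tmul,
      LinearEquiv.refl_apply, one_smul, LinearEquiv.apply_symm_apply]
  refine ⟨_, _, ⟨(dc_iff I _).2 fun f hf n => ?_,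
    fun E hE => bijective_of_orth hT (orth_complCone I fs hfs X hX) E hE⟩, key⟩
  obtain ⟨l, -⟩ := key n
  haveI := AdicCompletion.isAdicComplete (M := Dual.HD A X n) (IsNoetherian.noetherian I)
  exact DCM.comp_equiv l.symm (DCM.comp_of_isAdicComplete I hf)

theorem homology_completion [DRing.HasDerivedCompletion I] (X : Dual.D A)
    (hX : ∀ n, Module.Finite A (Dual.HD A X n)) (n : ℤ) :
    ∃ e : Dual.HD A ((DRing.derivedCompletion I).obj X).obj n ≃ₗ[A] AdicCompletion I (Dual.HD A X n),
      ∀ x, e (((HF A n).map (DRing.toDerivedCompletion I X)).hom x) =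
        AdicCompletion.of I (Dual.HD A X n) x := by
  obtain ⟨D, η, hη, hl⟩ := exists_isCompl_of_finite I X hX
  obtain ⟨e, he⟩ := (isCompl_unit I X).unique hη
  obtain ⟨l, hl⟩ := hl n
  refine ⟨((HF A n).mapIso e).toLinearEquiv.trans l, fun x => ?_⟩
  rw [← hl x, ← he, Functor.map_comp]
  rfl

end Noeth

end Groth.Agent.DR40
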