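import Groth.Agent.DR40.CompFinite
import Groth.Agent.CAlg1.Complete
import Groth.Agent.AdicC27.Approx

/-! Derived complete modules with finite reduction over a Noetherian ring. -/

set_option autoImplicit false
set_option linter.style.haveILetI false
set_option linter.unusedSectionVars false

universe u

open CategoryTheory CategoryTheory.Limits CategoryTheory.Pretriangulated

attribute [local instance] HasDerivedCategory.standard

namespace Groth.Agent.DR40

open Groth.Agent.DR39

variable {A : Type u} [CommRing A] [IsNoetherianRing A] (I : Ideal A)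
variable (M : Type u) [AddCommGroup M] [Module A M] (hM : ∀ g ∈ I, DCM.Comp g M)

include hM in
theorem subsingleton_of_smul_top (h : I • (⊤ : Submodule A M) = ⊤) : Subsingleton M := by
  classical
  obtain ⟨s, rfl⟩ := IsNoetherian.noetherian I
  exact DCM.subsingleton_of_smul_top_eq_top s (fun x hx => hM x (Submodule.subset_span hx)) h

include hM in
theorem surjective_adicOf : Function.Surjective (AdicCompletion.of I M) := by
  classical
  obtain ⟨s, rfl⟩ := IsNoetherian.noetherian I
  exact DCM.adicCompletion_of_surjective s fun x hx => hM x (Submodule.subset_span hx)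

theorem comp_adicCompletion (N : Type u) [AddCommGroup N] [Module A N] (g : A) (hg : g ∈ I) :
    DCM.Comp g (AdicCompletion I N) := by
  haveI := AdicCompletion.isAdicComplete (M := N) (IsNoetherian.noetherian I)
  exact DCM.comp_of_isAdicComplete I hg

include hM in
theorem eq_zero_of_comp_of (ψ : AdicCompletion I A →ₗ[A] M) (h : ψ ∘ₗ AdicCompletion.of I A = 0) :
    ψ = 0 := by
  haveI : Subsingleton (LinearMap.range ψ) := by
    refine subsingleton_of_smul_top I _ (fun g hg => DCM.comp_range ψ (comp_adicCompletion I A g hg) (hM g hg))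
      (eq_top_iff.2 fun y _ => ?_)
    obtain ⟨a, ha⟩ := y.2
    obtain ⟨r, hr⟩ := Ideal.Quotient.mk_surjective (AdicCompletion.evalOneₐ I a)
    have hmem : a - AdicCompletion.of I A r ∈ I • (⊤ : Submodule A (AdicCompletion I A)) := by
      rw [Ideal.smul_top_eq_map, Submodule.restrictScalars_mem,
        ← AdicCompletion.ker_evalOneₐ_eq_map I (IsNoetherian.noetherian I), RingHom.mem_ker]
      show AdicCompletion.evalOneₐ I (a - AdicCompletion.of I A r) = 0
      rw [map_sub, AdicCompletion.evalOneₐ_of, hr, sub_self]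
    have h1 : ψ.rangeRestrict (a - AdicCompletion.of I A r) = y := Subtype.ext (by
      show ψ _ = _
      rw [map_sub, show ψ (AdicCompletion.of I A r) = 0 from LinearMap.congr_fun h r, sub_zero, ha])
    rw [← h1]
    have h2 := Submodule.mem_map_of_mem (f := ψ.rangeRestrict) hmem
    rw [Submodule.map_smul''] at h2
    exact Submodule.smul_mono le_rfl le_top h2
  exact LinearMap.ext fun a =>
    congrArg Subtype.val (Subsingleton.elim (ψ.rangeRestrict a) (0 : LinearMap.range ψ))

include hM in
theorem exists_extension (x : M) : ∃ ψ : AdicCompletion I A →ₗ[A] M, ψ 1 = x := by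
  have hfin : ∀ n, Module.Finite A (Dual.HD A (Dual.inD A A) n) := fun n => by
    by_cases h : n = 0
    · subst h
      exact Module.Finite.equiv (inDH0 A).toLinearEquiv.symm
    · haveI : Subsingleton (Dual.HD A (Dual.inD A A) n) := by
        rcases lt_or_gt_of_ne h with h' | h'
        · exact (isZero_HF_iff _ n).1
            (((DerivedCategory.singleFunctor (ModuleCat.{u} A) 0).obj (ModuleCat.of A A)).isZero_of_isGE 0 n h')
        · exact (isZero_HF_iff _ n).1 ((acyc_inD A (m := 1) (by omega)) n (by omega))
      infer_instance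
  obtain ⟨D, η, hη, he⟩ := exists_isCompl_of_finite I (Dual.inD A A) hfin
  obtain ⟨e, he⟩ := he 0
  let v : ModuleCat.of A A ⟶ ModuleCat.of A M := ModuleCat.ofHom (LinearMap.toSpanSingleton A M x)
  obtain ⟨g, (hg : η ≫ g = _)⟩ := (hη.2 (Dual.inD A M) ((isDerivedComplete_inD_iff I M).2 hM)).2
    ((DerivedCategory.singleFunctor (ModuleCat.{u} A) 0).map v)
  let a := ((inDH0 A).inv.hom : A →ₗ[A] Dual.HD A (Dual.inD A A) 0) 1
  let E : AdicCompletion I (Dual.HD A (Dual.inD A A) 0) ≃ₗ[A] AdicCompletion I A :=
    (AdicCompletion.congr I (inDH0 A).toLinearEquiv).restrictScalars A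
  refine ⟨(inDH0 M).toLinearEquiv.toLinearMap ∘ₗ ((HF A 0).map g).hom ∘ₗ
    e.symm.toLinearMap ∘ₗ E.symm.toLinearMap, ?_⟩
  have h1 : E (AdicCompletion.of I _ a) = (1 : AdicCompletion I A) := by
    show AdicCompletion.map I _ (AdicCompletion.of I _ a) = _
    rw [AdicCompletion.map_of]
    rw [show (inDH0 A).toLinearEquiv.toLinearMap a = (1 : A) from (inDH0 A).toLinearEquiv.apply_symm_apply 1]
    exact AdicCompletion.ext fun n => rfl
  simp only [LinearMap.comp_apply, LinearEquiv.coe_coe]
  rw [← h1, E.symm_apply_apply, ← he a, e.symm_apply_apply]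
  show (inDH0 M).hom.hom (((HF A 0).map g).hom (((HF A 0).map η).hom a)) = x
  have h2 : (HF A 0).map η ≫ (HF A 0).map g ≫ (inDH0 M).hom = (inDH0 A).hom ≫ v := by
    rw [← Functor.map_comp_assoc, hg]
    rw [← cancel_epi (inDH0 A).inv, Iso.inv_hom_id_assoc, ← Category.assoc]
    exact (Iso.eq_comp_inv _).1 (singleH0Iso_inv_naturality v).symm
  refine (LinearMap.congr_fun (congrArg ModuleCat.Hom.hom h2) a).trans ?_
  show v.hom ((inDH0 A).toLinearEquiv ((inDH0 A).toLinearEquiv.symm 1)) = x
  rw [LinearEquiv.apply_symm_apply]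
  exact one_smul A x

include hM in
theorem isAdicComplete_and_finite (hf : Module.Finite A (M ⧸ I • (⊤ : Submodule A M))) :
    IsAdicComplete I M ∧ Module.Finite (AdicCompletion I A) (AdicCompletion I M) := by
  classical
  obtain ⟨n, q, hq⟩ := Module.Finite.exists_fin' A (M ⧸ I • (⊤ : Submodule A M))
  choose x hx using fun i => Submodule.mkQ_surjective (I • (⊤ : Submodule A M)) (q (Pi.single i 1))
  choose ψ hψ using fun i => exists_extension I M hM (x i)
  let φ : (Fin n → AdicCompletion I A) →ₗ[A] M := ∑ i, ψ i ∘ₗ LinearMap.proj i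
  have hφ1 : ∀ i, φ (Pi.single i 1) = x i := fun i => by
    simp only [φ, LinearMap.sum_apply, LinearMap.comp_apply, LinearMap.proj_apply]
    rw [Finset.sum_eq_single i (fun j _ hj => by rw [Pi.single_eq_of_ne hj, map_zero])
      (fun h => absurd (Finset.mem_univ i) h), Pi.single_eq_same, hψ]
  have hsurj : Function.Surjective φ := by
    have hr : ∀ g ∈ I, DCM.Comp g (LinearMap.range φ) := fun g hg =>
      DCM.comp_range φ (comp_piGen g (Fin n) _ (comp_adicCompletion I A g hg)) (hM g hg)
    haveI : Subsingleton (M ⧸ LinearMap.range φ) := by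
      refine subsingleton_of_smul_top I _ (fun g hg => DCM.comp_quotient _ (hr g hg) (hM g hg))
        (eq_top_iff.2 fun y _ => ?_)
      obtain ⟨m, rfl⟩ := Submodule.mkQ_surjective _ y
      obtain ⟨c, hc⟩ := hq (Submodule.mkQ _ m)
      have hmem : m - ∑ i, c i • x i ∈ I • (⊤ : Submodule A M) := by
        rw [← Submodule.Quotient.mk_eq_zero]
        show (I • (⊤ : Submodule A M)).mkQ (m - ∑ i, c i • x i) = 0
        rw [map_sub, sub_eq_zero, map_sum, ← hc]
        conv_lhs => rw [pi_eq_sum_univ' c, map_sum]
        exact Finset.sum_congr rfl fun i _ => by rw [map_smul, map_smul, hx]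
      have h0 : (LinearMap.range φ).mkQ (∑ i, c i • x i) = 0 :=
        (Submodule.Quotient.mk_eq_zero _).2 (Submodule.sum_mem _ fun i _ =>
          Submodule.smul_mem _ _ ⟨Pi.single i 1, hφ1 i⟩)
      have h2 := Submodule.mem_map_of_mem (f := (LinearMap.range φ).mkQ) hmem
      rw [Submodule.map_smul'', map_sub, h0, sub_zero] at h2
      exact Submodule.smul_mono le_rfl le_top h2
    intro m
    exact (Submodule.Quotient.mk_eq_zero (LinearMap.range φ)).1 (Subsingleton.elim _ _)
  let P : Submodule (AdicCompletion I A) (Fin n → AdicCompletion I A) :=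
    { carrier := LinearMap.ker φ
      zero_mem' := (LinearMap.ker φ).zero_mem
      add_mem' := (LinearMap.ker φ).add_mem
      smul_mem' := fun a v hv => by
        let L : AdicCompletion I A →ₗ[A] (Fin n → AdicCompletion I A) :=
          (LinearMap.toSpanSingleton (AdicCompletion I A) _ v).restrictScalars A
        have h0 : φ ∘ₗ L = 0 := eq_zero_of_comp_of I M hM _ (LinearMap.ext_ring (by
          show φ (AdicCompletion.of I A 1 • v) = 0
          rw [show AdicCompletion.of I A 1 = (1 : AdicCompletion I A) from AdicCompletion.ext fun n => rfl, one_smul]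
          exact hv))
        exact LinearMap.congr_fun h0 a }
  let e : ((Fin n → AdicCompletion I A) ⧸ P) ≃ₗ[A] M :=
    (Submodule.Quotient.restrictScalarsEquiv A P).symm.trans
      ((Submodule.quotEquivOfEq _ _ (SetLike.coe_injective rfl : P.restrictScalars A = LinearMap.ker φ)).trans
        (φ.quotKerEquivOfSurjective hsurj))
  haveI : IsNoetherianRing (AdicCompletion I A) := CAlg1.isNoetherianRing_adicCompletion I (IsNoetherian.noetherian I)
  haveI := AdicCompletion.isAdicComplete_self I (IsNoetherian.noetherian I)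
  have hN : IsAdicComplete I ((Fin n → AdicCompletion I A) ⧸ P) :=
    (IsAdicComplete.map_algebraMap_iff I _).1 (AdicC27.isAdicComplete_of_finite
      (I := I.map (algebraMap A (AdicCompletion I A))) _)
  have hMc : IsAdicComplete I M := by
    rw [← AdicCompletion.of_bijective_iff]
    have hsq : AdicCompletion.of I M = fun m => AdicCompletion.map I e.toLinearMap (AdicCompletion.of I _ (e.symm m)) :=
      funext fun m => by rw [AdicCompletion.map_of, LinearEquiv.coe_coe, e.apply_symm_apply]
    show Function.Bijective ⇑(AdicCompletion.of I M)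
    rw [hsq]
    exact (AdicCompletion.congr I e).bijective.comp ((AdicCompletion.of_bijective I _).comp e.symm.bijective)
  refine ⟨hMc, ?_⟩
  let Ψ : (Fin n → AdicCompletion I A) →ₗ[AdicCompletion I A] AdicCompletion I M :=
    ∑ i, (LinearMap.toSpanSingleton _ _ (AdicCompletion.of I M (x i))) ∘ₗ LinearMap.proj i
  refine Module.Finite.of_surjective Ψ fun z => ?_
  obtain ⟨m, rfl⟩ := surjective_adicOf I M hM z
  obtain ⟨v, rfl⟩ := hsurj m
  refine ⟨v, ?_⟩
  have hd : ∀ i, (LinearMap.toSpanSingleton (AdicCompletion I A) _ (AdicCompletion.of I M (x i))).restrictScalars A -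
      AdicCompletion.of I M ∘ₗ ψ i = 0 := fun i =>
    eq_zero_of_comp_of I _ (comp_adicCompletion I M) _ (LinearMap.ext_ring (by
      show AdicCompletion.of I A 1 • AdicCompletion.of I M (x i) - AdicCompletion.of I M (ψ i (AdicCompletion.of I A 1)) = 0
      rw [show AdicCompletion.of I A 1 = (1 : AdicCompletion I A) from AdicCompletion.ext fun n => rfl,
        one_smul, hψ, sub_self]))
  simp only [Ψ, φ, LinearMap.sum_apply, LinearMap.comp_apply, LinearMap.proj_apply, map_sum]
  exact Finset.sum_congr rfl fun i _ => sub_eq_zero.1 (LinearMap.congr_fun (hd i) (v i))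

end Groth.Agent.DR40
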