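import Groth.Agent.DR40.DCExist

/-! Amplitude of derived completions. -/

set_option autoImplicit false
set_option linter.style.haveILetI false
set_option linter.unusedSectionVars false

universe u

open CategoryTheory CategoryTheory.Limits CategoryTheory.Pretriangulated

attribute [local instance] HasDerivedCategory.standard

namespace Groth.Agent.DR40

open Groth.Agent.DR39

variable {A : Type u} [CommRing A]

theorem span_toList (s : Finset A) : Ideal.span {x | x ∈ s.toList} = Ideal.span (s : Set A) := by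
  simp [Finset.mem_toList]

theorem vanishes_outside_shifted (I : Ideal A) (r : ℕ)
    (hI : ∃ s : Finset A, s.card ≤ r ∧ Ideal.span (s : Set A) = I) [DRing.HasDerivedCompletion I]
    (K : Dual.D A) (a : WithBot ℤ) (b : WithTop ℤ)
    (hKa : ∀ i : ℤ, (i : WithBot ℤ) < a → Subsingleton (Dual.HD A K i))
    (hKb : ∀ i : ℤ, b < (i : WithTop ℤ) → Subsingleton (Dual.HD A K i)) (i : ℤ)
    (hi : ((i + r : ℤ) : WithBot ℤ) < a ∨ b < (i : WithTop ℤ)) :
    Subsingleton (Dual.HD A ((DRing.derivedCompletion I).obj K).obj i) := by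
  obtain ⟨s, hs, hsI⟩ := hI
  refine (isZero_HF_iff _ i).1 (isZero_compl s.toList ((span_toList s).trans hsI) (isCompl_unit I K) i
    fun j hj hj' => (isZero_HF_iff K j).2 ?_)
  rw [Finset.length_toList] at hj'
  rcases hi with hi | hi
  · refine hKa j (lt_of_le_of_lt ?_ hi)
    exact WithBot.coe_le_coe.2 (by omega)
  · exact hKb j (lt_of_lt_of_le hi (WithTop.coe_le_coe.2 hj))

theorem completion_iso_of_pos (I : Ideal A) (hI : I.FG) [DRing.HasDerivedCompletion I] {K L : Dual.D A}
    (φ : K ⟶ L)
    (hiso : ∀ i : ℤ, 1 ≤ i → IsIso ((DerivedCategory.homologyFunctor (ModuleCat.{u} A) i).map φ))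
    (hepi : Epi ((DerivedCategory.homologyFunctor (ModuleCat.{u} A) 0).map φ)) :
    (∀ i : ℤ, 1 ≤ i → IsIso ((DerivedCategory.homologyFunctor (ModuleCat.{u} A) i).map
        ((DRing.derivedCompletion I).map φ).hom)) ∧
      Epi ((DerivedCategory.homologyFunctor (ModuleCat.{u} A) 0).map
        ((DRing.derivedCompletion I).map φ).hom) := by
  obtain ⟨fs, hfs⟩ := exists_list_of_fg hI
  obtain ⟨M, Z, q, q', p, d, γ, hT, hZ, hγ⟩ := completion_map_triangle I φ
  have hM : Acyc 0 M := (acyc_obj₃_iff _ hT 0).2 ⟨fun i hi => hiso i (by omega), hepi⟩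
  have := (acyc_obj₃_iff _ hZ 0).1 fun i hi => isZero_compl fs hfs hγ i fun j hj _ => hM j (by omega)
  exact ⟨fun i hi => this.1 i (by omega), this.2⟩

theorem completion_iso_of_neg (I : Ideal A) (s : Finset A) (hs : Ideal.span (s : Set A) = I)
    [DRing.HasDerivedCompletion I] {K L : Dual.D A} (φ : K ⟶ L)
    (hiso : ∀ i : ℤ, i ≤ -1 → IsIso ((DerivedCategory.homologyFunctor (ModuleCat.{u} A) i).map φ))
    (hmono : Mono ((DerivedCategory.homologyFunctor (ModuleCat.{u} A) 0).map φ)) :
    (∀ i : ℤ, i ≤ -(s.card : ℤ) - 1 → IsIso ((DerivedCategory.homologyFunctor (ModuleCat.{u} A) i).map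
        ((DRing.derivedCompletion I).map φ).hom)) ∧
      Mono ((DerivedCategory.homologyFunctor (ModuleCat.{u} A) (-(s.card : ℤ))).map
        ((DRing.derivedCompletion I).map φ).hom) := by
  obtain ⟨M, Z, q, q', p, d, γ, hT, hZ, hγ⟩ := completion_map_triangle I φ
  have hM : ∀ j : ℤ, j ≤ -1 → IsZero ((HF A j).obj M) := fun j hj =>
    (DerivedCategory.HomologySequence.exact₃ _ hT j (j + 1) rfl).isZero_of_both_zeros
      ((DerivedCategory.HomologySequence.epi_homologyMap_mor₁_iff _ hT j).1
        (haveI := hiso j hj; inferInstanceAs (Epi ((HF A j).map φ))))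
      ((DerivedCategory.HomologySequence.mono_homologyMap_mor₁_iff _ hT j (j + 1) rfl).1 (by
        show Mono ((HF A (j + 1)).map φ)
        by_cases h : j + 1 = 0
        · rw [h]; exact hmono
        · haveI := hiso (j + 1) (by omega); infer_instance))
  have hZ0 : ∀ n : ℤ, n + s.card ≤ -1 → IsZero ((HF A n).obj Z) := fun n hn =>
    isZero_compl s.toList ((span_toList s).trans hs) hγ n fun j _ hj => hM j (by
      rw [Finset.length_toList] at hj; omega)
  have hmonos : ∀ n : ℤ, n + s.card ≤ 0 →
      Mono ((HF A n).map ((DRing.derivedCompletion I).map φ).hom) := fun n hn =>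
    (DerivedCategory.HomologySequence.mono_homologyMap_mor₁_iff _ hZ (n - 1) n (by omega)).2
      ((hZ0 (n - 1) (by omega)).eq_of_src _ _)
  refine ⟨fun i hi => ?_, hmonos _ (by omega)⟩
  haveI := hmonos i (by omega)
  haveI : Epi ((HF A i).map ((DRing.derivedCompletion I).map φ).hom) :=
    (DerivedCategory.HomologySequence.epi_homologyMap_mor₁_iff _ hZ i).2
      ((hZ0 i (by omega)).eq_of_tgt _ _)
  exact isIso_of_mono_of_epi ((HF A i).map ((DRing.derivedCompletion I).map φ).hom)

end Groth.Agent.DR40
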