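import Groth.Agent.DR40.DCHom
import Groth.Agent.DR40.DCNak

/-! Derived complete objects in triangles; the orthogonal of derived complete objects via Koszul objects. -/

set_option autoImplicit false
set_option linter.style.haveILetI false
set_option linter.unusedSectionVars false

universe u

open CategoryTheory CategoryTheory.Limits CategoryTheory.Pretriangulated

attribute [local instance] HasDerivedCategory.standard

namespace Groth.Agent.DR40

open Groth.Agent.DR39

variable {A : Type u} [CommRing A]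

/-- All cohomology is complete for `g`. -/
def CompD (g : A) (X : Dual.D A) : Prop := ∀ n : ℤ, DCM.Comp g (Dual.HD A X n)

theorem CompD.of_iso {g : A} {X Y : Dual.D A} (h : CompD g X) (e : X ≅ Y) : CompD g Y :=
  fun n => DCM.comp_equiv ((HF A n).mapIso e).toLinearEquiv (h n)

theorem CompD.shift {g : A} {X : Dual.D A} (h : CompD g X) (k : ℤ) : CompD g (X⟦k⟧) :=
  fun n => DCM.comp_equiv (((HF A 0).shiftIso k n (k + n) rfl).app X).symm.toLinearEquiv (h (k + n))

theorem CompD.obj₃ {g : A} {T : Triangle (Dual.D A)} (hT : T ∈ distinguishedTriangles)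
    (h₁ : CompD g T.obj₁) (h₂ : CompD g T.obj₂) : CompD g T.obj₃ := fun n =>
  comp_of_exact₅ _ _ _ _ (DerivedCategory.HomologySequence.exact₂ T hT n).moduleCat_range_eq_ker
    (DerivedCategory.HomologySequence.exact₃ T hT n (n + 1) rfl).moduleCat_range_eq_ker
    (DerivedCategory.HomologySequence.exact₁ T hT n (n + 1) rfl).moduleCat_range_eq_ker
    (h₁ n) (h₂ n) (h₁ (n + 1)) (h₂ (n + 1))

theorem CompD.obj₂ {g : A} {T : Triangle (Dual.D A)} (hT : T ∈ distinguishedTriangles)
    (h₁ : CompD g T.obj₁) (h₃ : CompD g T.obj₃) : CompD g T.obj₂ :=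
  CompD.obj₃ (inv_rot_of_distTriang T hT) (h₃.shift (-1)) h₁

theorem CompD.obj₁ {g : A} {T : Triangle (Dual.D A)} (hT : T ∈ distinguishedTriangles)
    (h₂ : CompD g T.obj₂) (h₃ : CompD g T.obj₃) : CompD g T.obj₁ :=
  (CompD.shift (CompD.obj₃ (rot_of_distTriang T hT) h₂ h₃) (-1)).of_iso
    ((shiftEquiv (Dual.D A) (1 : ℤ)).unitIso.symm.app T.obj₁)

theorem dc_iff (I : Ideal A) (X : Dual.D A) :
    DRing.IsDerivedComplete I X ↔ ∀ g ∈ I, CompD g X := isDerivedComplete_iff I X

theorem dc_of_iso {I : Ideal A} {X Y : Dual.D A} (h : DRing.IsDerivedComplete I X) (e : X ≅ Y) :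
    DRing.IsDerivedComplete I Y :=
  (dc_iff I Y).2 fun g hg => ((dc_iff I X).1 h g hg).of_iso e

theorem dc_shift {I : Ideal A} {X : Dual.D A} (h : DRing.IsDerivedComplete I X) (k : ℤ) :
    DRing.IsDerivedComplete I (X⟦k⟧) := (dc_iff I _).2 fun g hg => ((dc_iff I X).1 h g hg).shift k

theorem dc_obj₃ {I : Ideal A} {T : Triangle (Dual.D A)} (hT : T ∈ distinguishedTriangles)
    (h₁ : DRing.IsDerivedComplete I T.obj₁) (h₂ : DRing.IsDerivedComplete I T.obj₂) :
    DRing.IsDerivedComplete I T.obj₃ :=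
  (dc_iff I _).2 fun g hg => CompD.obj₃ hT ((dc_iff I _).1 h₁ g hg) ((dc_iff I _).1 h₂ g hg)

theorem dc_of_generators {I : Ideal A} {X : Dual.D A} (s : Set A) (hs : Ideal.span s = I)
    (h : ∀ f ∈ s, CompD f X) : DRing.IsDerivedComplete I X :=
  (dc_iff I X).2 fun g hg n => by
    subst hs
    exact (Ideal.span_le.2 (fun f hf => h f hf n) : Ideal.span s ≤ compIdeal (Dual.HD A X n)) hg

/-- Morphism groups into complete objects are complete. -/
theorem comp_hom (g : A) (X E : Dual.D A) (hE : CompD g E) : DCM.Comp g (X ⟶ E) := by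
  obtain ⟨K, ⟨eK⟩⟩ := exists_complex_iso X
  obtain ⟨L, ⟨eL⟩⟩ := exists_complex_iso E
  haveI := (DerivedCategory.isIso_Q_map_iff_quasiIso (ModuleCat.{u} A) (SF.aug K)).2 inferInstance
  haveI : (SF.res K).IsKProjective := SF.isKProjective_res K
  let e : (QA A).obj (SF.res K) ≅ X := asIso ((QA A).map (SF.aug K)) ≪≫ eK
  haveI := quasiIso_seqT g L fun n =>
    DCM.comp_equiv ((HF A n).mapIso eL.symm ≪≫ HQIso L n).toLinearEquiv (hE n)
  haveI hT : IsIso ((QA A).map (seqT g L)) :=
    (DerivedCategory.isIso_Q_map_iff_quasiIso (ModuleCat.{u} A) _).2 inferInstance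
  let Φ : ((QA A).obj (SF.res K) ⟶ (QA A).obj (seqCx L)) → (ℕ → (X ⟶ E)) :=
    fun w n => e.inv ≫ (w ≫ (QA A).map (seqProj L n)) ≫ eL.hom
  have hΦ : Function.Bijective Φ := by
    refine ⟨fun w w' h => ?_, fun y => ?_⟩
    · obtain ⟨v, rfl⟩ := DR39.Q_map_surjective (SF.res K) (seqCx L) w
      obtain ⟨v', rfl⟩ := DR39.Q_map_surjective (SF.res K) (seqCx L) w'
      have hn : ∀ n, Nonempty (Homotopy ((v - v') ≫ seqProj L n) 0) := fun n => by
        refine (DR39.Q_map_eq_iff _ _).1 ?_
        have h1 := congrFun h n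
        simp only [Φ, cancel_epi, cancel_mono] at h1
        rw [Functor.map_comp, Functor.map_sub, Preadditive.sub_comp, Functor.map_zero, sub_eq_zero]
        exact h1
      have h2 : seqLift (fun n => (v - v') ≫ seqProj L n) = v - v' :=
        HomologicalComplex.hom_ext _ _ fun i => ModuleCat.hom_ext (LinearMap.ext fun x => funext fun n => rfl)
      have h3 := DerivedCategory.Q_map_eq_of_homotopy (C := ModuleCat.{u} A)
        (seqHomotopy _ fun n => (hn n).some)
      rw [h2, Functor.map_sub, Functor.map_zero, sub_eq_zero] at h3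
      exact h3
    · choose v hv using fun n => DR39.Q_map_surjective (SF.res K) L (e.hom ≫ y n ≫ eL.inv)
      refine ⟨(QA A).map (seqLift v), funext fun n => ?_⟩
      have h2 : seqLift v ≫ seqProj L n = v n :=
        HomologicalComplex.hom_ext _ _ fun i => ModuleCat.hom_ext (LinearMap.ext fun x => rfl)
      show e.inv ≫ (DerivedCategory.Q.map (seqLift v) ≫ DerivedCategory.Q.map (seqProj L n)) ≫ eL.hom = y n
      rw [← Functor.map_comp, h2, hv]
      simp
  have hsq : ∀ w, DCM.T g (X ⟶ E) (Φ w) = Φ (w ≫ (QA A).map (seqT g L)) := fun w => funext fun n => by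
    have h2 : seqT g L ≫ seqProj L n = seqProj L n - g • seqProj L (n + 1) :=
      HomologicalComplex.hom_ext _ _ fun i => ModuleCat.hom_ext (LinearMap.ext fun x => rfl)
    rw [DCM.T_apply]
    simp only [Φ, Category.assoc]
    rw [← Functor.map_comp_assoc, h2, Functor.map_sub, Functor.map_smul]
    simp [Preadditive.sub_comp, Preadditive.comp_sub, Linear.smul_comp, Linear.comp_smul]
  have hpost : Function.Bijective fun w : (QA A).obj (SF.res K) ⟶ (QA A).obj (seqCx L) =>
      w ≫ (QA A).map (seqT g L) :=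
    ⟨fun w w' h => (cancel_mono _).1 h, fun w => ⟨w ≫ inv ((QA A).map (seqT g L)), by simp⟩⟩
  have := hΦ.comp hpost
  rw [show (Φ ∘ fun w => w ≫ (QA A).map (seqT g L)) = DCM.T g (X ⟶ E) ∘ Φ from
    funext fun w => (hsq w).symm] at this
  exact (Function.Bijective.of_comp_iff _ hΦ).1 this

/-! ### The orthogonal -/

/-- No morphisms to derived complete objects. -/
def Orth (I : Ideal A) (X : Dual.D A) : Prop :=
  ∀ E : Dual.D A, DRing.IsDerivedComplete I E → ∀ g : X ⟶ E, g = 0

theorem Orth.of_iso {I : Ideal A} {X Y : Dual.D A} (h : Orth I X) (e : X ≅ Y) : Orth I Y :=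
  fun E hE g => by rw [← cancel_epi e.hom, comp_zero]; exact h E hE _

theorem Orth.shift {I : Ideal A} {X : Dual.D A} (h : Orth I X) (k : ℤ) : Orth I (X⟦k⟧) := fun E hE g =>
  ((shiftEquiv (Dual.D A) k).toAdjunction.homEquiv X E).injective
    ((h _ (dc_shift hE (-k)) _).trans (h _ (dc_shift hE (-k)) _).symm)

theorem orth_of_isZero {I : Ideal A} {X : Dual.D A} (h : IsZero X) : Orth I X :=
  fun _ _ g => h.eq_of_src g 0

theorem Orth.obj₂ {I : Ideal A} {T : Triangle (Dual.D A)} (hT : T ∈ distinguishedTriangles)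
    (h₁ : Orth I T.obj₁) (h₃ : Orth I T.obj₃) : Orth I T.obj₂ := fun E hE g => by
  obtain ⟨k, rfl⟩ := Triangle.yoneda_exact₂ T hT g (h₁ E hE _)
  rw [h₃ E hE k, comp_zero]

theorem Orth.obj₃ {I : Ideal A} {T : Triangle (Dual.D A)} (hT : T ∈ distinguishedTriangles)
    (h₁ : Orth I T.obj₁) (h₂ : Orth I T.obj₂) : Orth I T.obj₃ :=
  Orth.obj₂ (rot_of_distTriang T hT) h₂ (h₁.shift 1)

theorem Orth.obj₁ {I : Ideal A} {T : Triangle (Dual.D A)} (hT : T ∈ distinguishedTriangles)
    (h₂ : Orth I T.obj₂) (h₃ : Orth I T.obj₃) : Orth I T.obj₁ :=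
  Orth.obj₂ (inv_rot_of_distTriang T hT) (h₃.shift (-1)) h₂

theorem orth_of_bijective {I : Ideal A} {X : Dual.D A} (f : A) (hf : f ∈ I)
    (h : ∀ n, Function.Bijective fun x : Dual.HD A X n => f • x) : Orth I X := fun E hE g => by
  obtain ⟨K, ⟨e⟩⟩ := exists_complex_iso X
  have hh : ∀ n, Function.Bijective (HomologicalComplex.homologyMap (f • 𝟙 K) n).hom := fun n => by
    let l := ((HF A n).mapIso e.symm ≪≫ HQIso K n).toLinearEquiv
    have : ⇑(HomologicalComplex.homologyMap (f • 𝟙 K) n).hom =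
        l ∘ (fun x : Dual.HD A X n => f • x) ∘ l.symm := funext fun x => by
      rw [homologyMap_smul_id_apply]
      simp
    rw [this]
    exact l.bijective.comp ((h n).comp l.symm.bijective)
  haveI : QuasiIso (f • 𝟙 K : K ⟶ K) := ⟨fun n => by
    rw [quasiIsoAt_iff_isIso_homologyMap, DR39.isIso_iff_bijective]; exact hh n⟩
  haveI : IsIso ((QA A).map (f • 𝟙 K)) :=
    (DerivedCategory.isIso_Q_map_iff_quasiIso (ModuleCat.{u} A) _).2 inferInstance
  haveI : IsIso (f • 𝟙 X) := by
    have : f • 𝟙 X = e.inv ≫ (QA A).map (f • 𝟙 K) ≫ e.hom := by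
      show f • 𝟙 X = e.inv ≫ DerivedCategory.Q.map (f • 𝟙 K) ≫ e.hom
      rw [Functor.map_smul, CategoryTheory.Functor.map_id]
      simp [Linear.smul_comp, Linear.comp_smul]
    rw [this]
    infer_instance
  exact hom_eq_zero_of_isIso_smul f inferInstance ((dc_iff I E).1 hE f hf) g

/-! ### Koszul objects -/

theorem exists_cn (f : A) (X : Dual.D A) : ∃ (C : Dual.D A) (g : X ⟶ C) (h : C ⟶ X⟦(1 : ℤ)⟧),
    Triangle.mk (f • 𝟙 X) g h ∈ distinguishedTriangles := distinguished_cocone_triangle (f • 𝟙 X)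

/-- The cone of multiplication by `f`. -/
noncomputable def cn (f : A) (X : Dual.D A) : Dual.D A := (exists_cn f X).choose

/-- `X → X/f`. -/
noncomputable def cnι (f : A) (X : Dual.D A) : X ⟶ cn f X := (exists_cn f X).choose_spec.choose

/-- `X/f → X[1]`. -/
noncomputable def cnδ (f : A) (X : Dual.D A) : cn f X ⟶ X⟦(1 : ℤ)⟧ :=
  (exists_cn f X).choose_spec.choose_spec.choose

theorem cn_distinguished (f : A) (X : Dual.D A) :
    Triangle.mk (f • 𝟙 X) (cnι f X) (cnδ f X) ∈ distinguishedTriangles :=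
  (exists_cn f X).choose_spec.choose_spec.choose_spec

/-- The Koszul object. -/
noncomputable def kosObj : List A → Dual.D A → Dual.D A
  | [], X => X
  | f :: fs, X => kosObj fs (cn f X)

theorem HF_smul (f : A) (X : Dual.D A) (n : ℤ) (x : Dual.HD A X n) :
    ((HF A n).map (f • 𝟙 X)).hom x = f • x := by
  obtain ⟨K, ⟨e⟩⟩ := exists_complex_iso X
  have h1 : f • 𝟙 X = e.inv ≫ (QA A).map (f • 𝟙 K) ≫ e.hom := by
    show f • 𝟙 X = e.inv ≫ DerivedCategory.Q.map (f • 𝟙 K) ≫ e.hom
    rw [Functor.map_smul, CategoryTheory.Functor.map_id]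
    simp [Linear.smul_comp, Linear.comp_smul]
  have h2 : ∀ y : (HF A n).obj ((QA A).obj K), ((HF A n).map ((QA A).map (f • 𝟙 K))).hom y = f • y :=
    fun y => by
      apply (HQIso K n).toLinearEquiv.injective
      have := LinearMap.congr_fun (congrArg ModuleCat.Hom.hom (HQIso_naturality (f • 𝟙 K) n)) y
      refine this.trans ?_
      show (HomologicalComplex.homologyMap (f • 𝟙 K) n).hom ((HQIso K n).hom.hom y) = _
      rw [homologyMap_smul_id_apply, map_smul]
      rfl
  rw [h1, Functor.map_comp, Functor.map_comp]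
  show ((HF A n).map e.hom).hom (((HF A n).map ((QA A).map (f • 𝟙 K))).hom
    (((HF A n).map e.inv).hom x)) = f • x
  rw [h2, map_smul]
  exact congrArg (f • ·) (((HF A n).mapIso e).toLinearEquiv.apply_symm_apply x)

theorem cn_killed (f : A) (X : Dual.D A) :
    (∀ (n : ℤ) (x : Dual.HD A (cn f X) n), f ^ 2 • x = 0) ∧
    (∀ h : A, (∀ (n : ℤ) (x : Dual.HD A X n), h • x = 0) →
      ∀ (n : ℤ) (x : Dual.HD A (cn f X) n), (h * h) • x = 0) := by
  have hT := cn_distinguished f X
  have e1 := fun n => (DerivedCategory.HomologySequence.exact₂ _ hT n).moduleCat_range_eq_ker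
  have e2 := fun n => (DerivedCategory.HomologySequence.exact₃ _ hT n (n + 1) rfl).moduleCat_range_eq_ker
  have e3 := fun n => (DerivedCategory.HomologySequence.exact₁ _ hT n (n + 1) rfl).moduleCat_range_eq_ker
  refine ⟨fun n x => ?_, fun h hh n x => ?_⟩
  · rw [sq]
    exact smul_smul_eq_zero_of_exact _ _ _ _ (e1 n) (e2 n) (e3 n) f (fun y => ⟨y, HF_smul f X n y⟩)
      (fun w hw => (HF_smul f X (n + 1) w).symm.trans hw) x
  · exact smul_smul_eq_zero_of_exact _ _ _ _ (e1 n) (e2 n) (e3 n) h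
      (fun y => ⟨0, (map_zero _).trans (hh n y).symm⟩) (fun w _ => hh (n + 1) w) x

theorem kos_killed (fs : List A) : ∀ (X : Dual.D A) (f : A),
    (f ∈ fs ∨ ∃ e : ℕ, ∀ (n : ℤ) (x : Dual.HD A X n), f ^ e • x = 0) →
      ∃ e : ℕ, ∀ (n : ℤ) (x : Dual.HD A (kosObj fs X) n), f ^ e • x = 0 := by
  induction fs with
  | nil => intro X f h; exact h.resolve_left List.not_mem_nil
  | cons g fs ih =>
    intro X f h
    refine ih (cn g X) f ?_
    rcases h with h | ⟨e, he⟩
    · rcases List.mem_cons.1 h with rfl | h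
      · exact Or.inr ⟨2, (cn_killed f X).1⟩
      · exact Or.inl h
    · exact Or.inr ⟨e + e, fun n x => by rw [pow_add]; exact (cn_killed g X).2 _ he n x⟩

theorem comp_of_nilpotent (g : A) (M : Type u) [AddCommGroup M] [Module A M] (e : ℕ)
    (h : ∀ x : M, g ^ e • x = 0) : DCM.Comp g M := by
  refine DCM.comp_of_pow (k := e) ?_
  have : (DCM.T (g ^ e) M : (ℕ → M) → (ℕ → M)) = id := funext fun x => funext fun n => by simp [h]
  rw [DCM.Comp, this]
  exact Function.bijective_id

theorem dc_kosObj (fs : List A) {I : Ideal A} (hI : Ideal.span {x | x ∈ fs} = I) (X : Dual.D A) :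
    DRing.IsDerivedComplete I (kosObj fs X) :=
  dc_of_generators _ hI fun f hf n => by
    obtain ⟨e, he⟩ := kos_killed fs X f (Or.inl hf)
    exact comp_of_nilpotent f _ e (he n)

theorem orth_of_cn {I : Ideal A} {f : A} (hf : f ∈ I) {X : Dual.D A} (h : Orth I (cn f X)) :
    Orth I X := fun E hE z => by
  refine DCM.eq_zero_of_surjective (comp_hom f X E ((dc_iff I E).1 hE f hf)) (fun z => ?_) z
  obtain ⟨(y : X ⟶ E), (hy : z = (f • 𝟙 X) ≫ y)⟩ :=
    Triangle.yoneda_exact₂ _ (inv_rot_of_distTriang _ (cn_distinguished f X)) z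
    ((h.shift (-1)) E hE _)
  refine ⟨y, ?_⟩
  rw [hy, Linear.smul_comp, Category.id_comp]

theorem orth_iff_kos (fs : List A) {I : Ideal A} (hI : Ideal.span {x | x ∈ fs} = I) (X : Dual.D A) :
    Orth I X ↔ IsZero (kosObj fs X) := by
  constructor
  · intro h
    have : ∀ gs : List A, ∀ Y : Dual.D A, Orth I Y → Orth I (kosObj gs Y) := by
      intro gs
      induction gs with
      | nil => exact fun Y hY => hY
      | cons g gs ih => exact fun Y hY => ih _ (Orth.obj₃ (cn_distinguished g Y) hY hY)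
    rw [IsZero.iff_id_eq_zero]
    exact this fs X h _ (dc_kosObj fs hI X) _
  · have : ∀ gs : List A, (∀ g ∈ gs, g ∈ I) → ∀ Y : Dual.D A, IsZero (kosObj gs Y) → Orth I Y := by
      intro gs
      induction gs with
      | nil => exact fun _ Y hY => orth_of_isZero hY
      | cons g gs ih =>
        exact fun hg Y hY => orth_of_cn (hg g (List.mem_cons_self ..))
          (ih (fun x hx => hg x (List.mem_cons_of_mem _ hx)) _ hY)
    exact this fs (fun g hg => hI ▸ Ideal.subset_span hg) X

end Groth.Agent.DR40
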