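import Groth.Agent.DR39.Fibre2
import Groth.Agent.DR39.Patch

/-! Vanishing against modules of finite length, and tor amplitude from a quotient. -/

set_option autoImplicit false
set_option linter.style.haveILetI false
set_option linter.unusedSectionVars false

universe u

open CategoryTheory CategoryTheory.Limits MonoidalCategory HomologicalComplex
open scoped TensorProduct
attribute [local instance] HasDerivedCategory.standard

namespace Groth.Agent.DR40

open Groth.Agent.DR39

variable {R : Type u} [CommRing R]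

theorem exT_of_finiteLength [IsLocalRing R] (E : DRing.Cx R) (hE : ∀ j, Module.Flat R (E.X j)) (i : ℤ)
    (h : ExT E (resM (IsLocalRing.residue R) (ModuleCat.of (IsLocalRing.ResidueField R) (IsLocalRing.ResidueField R))) i)
    (M : Type u) [AddCommGroup M] [Module R M] (hM : IsFiniteLength R M) :
    ExT E (ModuleCat.of R M) i := by
  induction hM with
  | @of_subsingleton M _ _ _ => exact fun x _ => ⟨0, Subsingleton.elim (α := E.X i ⊗[R] M) _ _⟩
  | @of_simple_quotient M _ _ N hs _ ih =>
    refine exT_of_submodule E hE i N ih ?_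
    have hann : Module.annihilator R (M ⧸ N) = IsLocalRing.maximalIdeal R :=
      IsLocalRing.eq_maximalIdeal (IsSimpleModule.annihilator_isMaximal (R := R) (M := M ⧸ N))
    letI : Module (IsLocalRing.ResidueField R) (M ⧸ N) :=
      (show Module.IsTorsionBySet R (M ⧸ N) (IsLocalRing.maximalIdeal R : Set R) from fun m a =>
        Module.mem_annihilator.1 (hann.symm ▸ a.2) m).module
    haveI : IsScalarTower R (IsLocalRing.ResidueField R) (M ⧸ N) := ⟨fun r b m => by
      obtain ⟨s, rfl⟩ := IsLocalRing.residue_surjective b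
      show (IsLocalRing.residue R (r * s)) • m = r • (IsLocalRing.residue R s) • m
      exact (mul_smul r s m)⟩
    refine exT_of_flat (B := IsLocalRing.ResidueField R) E i (M ⧸ N) ?_
    exact exT_of_equiv E i
      ({ AddEquiv.refl (IsLocalRing.ResidueField R) with map_smul' := fun r b => (Algebra.smul_def (A := IsLocalRing.ResidueField R) r b).symm } :
        (resM (IsLocalRing.residue R) (ModuleCat.of (IsLocalRing.ResidueField R) (IsLocalRing.ResidueField R)))
          ≃ₗ[R] (ModuleCat.of R (IsLocalRing.ResidueField R))) h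

theorem subsingleton_LTensor_of_finiteLength [IsLocalRing R] [DRing.HasLBaseChange (IsLocalRing.residue R)]
    (P : Dual.D R) (N : Type u) [AddCommGroup N] [Module R N] [DRing.HasLTensor R (ModuleCat.of R N)]
    (hN : IsFiniteLength R N) (i : ℤ)
    (h : Subsingleton (Dual.HD (IsLocalRing.ResidueField R) ((DRing.LBaseChange (IsLocalRing.residue R)).obj P) i)) :
    Subsingleton (Dual.HD R ((DRing.LTensor R (ModuleCat.of R N)).obj P) i) := by
  obtain ⟨K0, ⟨e⟩⟩ := exists_complex_iso P
  haveI := (DerivedCategory.isIso_Q_map_iff_quasiIso (ModuleCat.{u} R) (SF.aug K0)).2 inferInstance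
  let eP : (QA R).obj (SF.res K0) ≅ P := asIso ((QA R).map (SF.aug K0)) ≪≫ e
  have hk : DRing.IsKFlat R (SF.res K0) := isKFlat_of_isKProjective
  have h1 := exT_of_fibre_zero (IsLocalRing.residue R) (SF.res K0) hk eP i h
  have h2 := exT_of_finiteLength (SF.res K0) (fun j => haveI := SF.free_res K0 j; Module.Flat.of_free) i h1 N hN
  exact (isZero_HF_iff _ i).1 (IsZero.of_iso ((isZero_HF_Q_iff _ i).2 ((isZero_tensorCx_iff _ _ i).2 h2))
    ((HF R i).mapIso ((DRing.LTensor R (ModuleCat.of R N)).mapIso eP.symm ≪≫ LTensorIso (ModuleCat.of R N) (SF.res K0) hk)))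

theorem ta_of_LBaseChange_jacobson (I : Ideal R) (hI : I ≤ Ideal.jacobson (⊥ : Ideal R))
    [DRing.HasLBaseChange (Ideal.Quotient.mk I)] (P : Dual.D R) (hP : DRing.IsPseudoCoherent' R P) (a b : ℤ)
    (h : DRing.HasTorAmplitudeIn (R ⧸ I) a b ((DRing.LBaseChange (Ideal.Quotient.mk I)).obj P)) :
    DRing.HasTorAmplitudeIn R a b P := by
  obtain ⟨E, d, hv, hE, ⟨e⟩⟩ := hP
  have hk : DRing.IsKFlat R E := isKFlat_of_flat d hv fun i => flat_of_PR (proj_of_FF (hE i))
  refine (perfect_of_fibres E d hv hE e a b fun m hm i hi => ?_).2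
  have hIm : I ≤ m := hI.trans (sInf_le ⟨bot_le, hm⟩)
  let q : R ⧸ I →+* R ⧸ m := Ideal.Quotient.factor hIm
  have h' := exT_out_of_TA (Ideal.Quotient.mk I) E hk (TA.of_iso h ((DRing.LBaseChange _).mapIso e.symm))
    (resM q (ModuleCat.of (R ⧸ m) (R ⧸ m))) i hi
  exact exT_of_equiv E i
    ({ AddEquiv.refl (R ⧸ m) with map_smul' := fun r x => (Algebra.smul_def (A := R ⧸ m) r x).symm } :
      (resM (Ideal.Quotient.mk I) (resM q (ModuleCat.of (R ⧸ m) (R ⧸ m)))) ≃ₗ[R] (ModuleCat.of R (R ⧸ m)))
    (exT_of_ext (Ideal.Quotient.mk I) E i _ h')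

end Groth.Agent.DR40
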