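import Groth.Agent.DR40.CompFinite
import Mathlib.RingTheory.Filtration

/-! Completion of `Y ⊗ N` for a complex `Y` of finite modules with torsion cohomology and flat `N`. -/

set_option autoImplicit false
set_option linter.style.haveILetI false
set_option linter.unusedSectionVars false

universe u

open CategoryTheory CategoryTheory.Limits
open scoped TensorProduct

attribute [local instance] HasDerivedCategory.standard

namespace Groth.Agent.DR40

open Groth.Agent.DR39

variable {A : Type u} [CommRing A] (I : Ideal A) (N : Type u) [AddCommGroup N] [Module A N]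

/-- The termwise completion. -/
noncomputable def cmplCx (Y : DRing.Cx A) : DRing.Cx A where
  X i := ModuleCat.of A (AdicCompletion I (Y.X i))
  d i j := ModuleCat.ofHom ((AdicCompletion.map I (Y.d i j).hom).restrictScalars A)
  shape i j h := by rw [Y.shape i j h, ModuleCat.hom_zero, AdicCompletion.map_zero]; rfl
  d_comp_d' i j k _ _ := ModuleCat.hom_ext (LinearMap.ext fun x => by
    show AdicCompletion.map I (Y.d j k).hom (AdicCompletion.map I (Y.d i j).hom x) = 0
    rw [← LinearMap.comp_apply, AdicCompletion.map_comp, ← ModuleCat.hom_comp, Y.d_comp_d,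
      ModuleCat.hom_zero, AdicCompletion.map_zero]
    rfl)

/-- The canonical map to the termwise completion. -/
noncomputable def cmplU (Y : DRing.Cx A) : Y ⟶ cmplCx I Y where
  f i := ModuleCat.ofHom (X := Y.X i) (Y := AdicCompletion I (Y.X i)) (AdicCompletion.of I (Y.X i))
  comm' i j _ := ModuleCat.hom_ext (LinearMap.ext fun x => AdicCompletion.map_of I (Y.d i j).hom x)

section TS

variable {M : Type u} [AddCommGroup M] [Module A M]

/-- The image of `S ⊗ N`. -/
noncomputable def tS (S : Submodule A M) : Submodule A (M ⊗[A] N) :=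
  LinearMap.range (S.subtype.rTensor N)

theorem tmul_mem_tS {S : Submodule A M} {m : M} (hm : m ∈ S) (x : N) : m ⊗ₜ[A] x ∈ tS N S :=
  ⟨(⟨m, hm⟩ : S) ⊗ₜ x, rfl⟩

theorem tS_le {S : Submodule A M} {P : Submodule A (M ⊗[A] N)} (h : ∀ m ∈ S, ∀ x : N, m ⊗ₜ[A] x ∈ P) :
    tS N S ≤ P := by
  rintro z ⟨w, rfl⟩
  induction w using TensorProduct.induction_on with
  | zero => rw [map_zero]; exact Submodule.zero_mem _
  | tmul s x => exact h _ s.2 x
  | add a b ha hb => rw [map_add]; exact Submodule.add_mem _ ha hb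

theorem smul_top_le_tS (J : Ideal A) : J • (⊤ : Submodule A (M ⊗[A] N)) ≤ tS N (J • (⊤ : Submodule A M)) := by
  refine Submodule.smul_le.2 fun r hr z hz => ?_
  clear hz
  induction z using TensorProduct.induction_on with
  | zero => rw [smul_zero]; exact Submodule.zero_mem _
  | tmul m x =>
    rw [TensorProduct.smul_tmul']
    exact tmul_mem_tS N (Submodule.smul_mem_smul hr (Submodule.mem_top : m ∈ (⊤ : Submodule A M))) x
  | add a b ha hb => rw [smul_add]; exact Submodule.add_mem _ ha hb

theorem tS_smul (J : Ideal A) (S : Submodule A M) : tS N (J • S) = J • tS N S := by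
  refine le_antisymm (tS_le N fun m hm x => ?_) (Submodule.smul_le.2 fun r hr z hz => ?_)
  · have : J • S ≤ (J • tS N S).comap ((TensorProduct.mk A M N).flip x) := Submodule.smul_le.2 fun r hr s hs => by
      show (r • s) ⊗ₜ[A] x ∈ J • tS N S
      rw [← TensorProduct.smul_tmul']
      exact Submodule.smul_mem_smul hr (tmul_mem_tS N hs x)
    exact this hm
  · have : tS N S ≤ (tS N (J • S)).comap (r • LinearMap.id) := tS_le N fun m hm x => by
      show r • (m ⊗ₜ[A] x) ∈ tS N (J • S)
      rw [TensorProduct.smul_tmul']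
      exact tmul_mem_tS N (Submodule.smul_mem_smul hr hm) x
    exact this hz

theorem tS_mono {S S' : Submodule A M} (h : S ≤ S') : tS N S ≤ tS N S' :=
  tS_le N fun _ hm x => tmul_mem_tS N (h hm) x

theorem tS_inf [Module.Flat A N] (S S' : Submodule A M) : tS N S ⊓ tS N S' ≤ tS N (S ⊓ S') := by
  rintro z ⟨⟨w, hw⟩, hz'⟩
  have h0 : S'.mkQ.rTensor N z = 0 := by
    have : tS N S' ≤ LinearMap.ker (S'.mkQ.rTensor N) := tS_le N fun m hm x => by
      rw [LinearMap.mem_ker, LinearMap.rTensor_tmul, Submodule.mkQ_apply,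
        (Submodule.Quotient.mk_eq_zero S').2 hm, TensorProduct.zero_tmul]
    exact this hz'
  let u : S →ₗ[A] M ⧸ S' := S'.mkQ ∘ₗ S.subtype
  have hex := Module.Flat.rTensor_exact N (LinearMap.exact_subtype_ker_map u)
  obtain ⟨w', hw'⟩ := (hex w).1 (by
    rw [show u = S'.mkQ ∘ₗ S.subtype from rfl, LinearMap.rTensor_comp, LinearMap.comp_apply, hw, h0])
  rw [← hw, ← hw']
  clear hw' hex
  induction w' using TensorProduct.induction_on with
  | zero => rw [map_zero, map_zero]; exact Submodule.zero_mem _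
  | tmul s x =>
    exact tmul_mem_tS N (Submodule.mem_inf.2 ⟨s.1.2, (Submodule.Quotient.mk_eq_zero S').1 s.2⟩) x
  | add a b ha hb => rw [map_add, map_add]; exact Submodule.add_mem _ ha hb

theorem ker_rTensor_eq [Module.Flat A N] {M' : Type u} [AddCommGroup M'] [Module A M'] (g : M →ₗ[A] M') :
    LinearMap.ker (g.rTensor N) = tS N (LinearMap.ker g) :=
  (Module.Flat.rTensor_exact N (LinearMap.exact_subtype_ker_map g)).linearMap_ker_eq

theorem range_rTensor_eq {M' : Type u} [AddCommGroup M'] [Module A M'] (g : M →ₗ[A] M') :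
    LinearMap.range (g.rTensor N) = tS N (LinearMap.range g) := by
  refine le_antisymm ?_ (tS_le N fun m hm x => ?_)
  · rintro z ⟨w, rfl⟩
    induction w using TensorProduct.induction_on with
    | zero => rw [map_zero]; exact Submodule.zero_mem _
    | tmul s x => exact tmul_mem_tS N (LinearMap.mem_range_self g s) x
    | add a b ha hb => rw [map_add]; exact Submodule.add_mem _ ha hb
  · obtain ⟨s, rfl⟩ := hm
    exact ⟨s ⊗ₜ x, rfl⟩

theorem exists_artinRees [IsNoetherianRing A] [Module.Finite A M] [Module.Flat A N] (S : Submodule A M) :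
    ∃ c : ℕ, ∀ n, I ^ n • (⊤ : Submodule A (M ⊗[A] N)) ⊓ tS N S ≤ I ^ (n - c) • tS N S := by
  obtain ⟨c, hc⟩ := Ideal.exists_pow_inf_eq_pow_smul I S
  refine ⟨c, fun n => ?_⟩
  rcases le_total c n with h | h
  · refine (inf_le_inf_right _ (smul_top_le_tS N _)).trans ((tS_inf N _ _).trans ?_)
    rw [← tS_smul]
    refine tS_mono N ?_
    rw [hc n h]
    exact Submodule.smul_mono le_rfl inf_le_right
  · rw [Nat.sub_eq_zero_of_le h, Submodule.pow_zero, Ideal.one_eq_top, Submodule.top_smul]
    exact inf_le_right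

end TS

section Key

variable {L' L L'' : Type u} [AddCommGroup L'] [Module A L'] [AddCommGroup L] [Module A L]
  [AddCommGroup L''] [Module A L''] (f : L' →ₗ[A] L) (g : L →ₗ[A] L'') {c₁ c₂ e : ℕ}
  (h₁ : ∀ n, I ^ n • ⊤ ⊓ LinearMap.range g ≤ I ^ (n - c₁) • LinearMap.range g)
  (h₂ : ∀ n, I ^ n • ⊤ ⊓ LinearMap.ker g ≤ I ^ (n - c₂) • LinearMap.ker g)
  (he : I ^ e • LinearMap.ker g ≤ LinearMap.range f)

include h₁ h₂ he in
theorem completion_exists_lift (z : AdicCompletion I L) (hz : AdicCompletion.map I g z = 0) :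
    ∃ (x : L) (y : AdicCompletion I L'), g x = 0 ∧
      AdicCompletion.map I f y = AdicCompletion.of I L x - z := by
  obtain ⟨b, rfl⟩ := AdicCompletion.mk_surjective I L z
  have hb : ∀ n, g (b n) ∈ I ^ n • (⊤ : Submodule A L'') := fun n => by
    simpa using congrArg (fun x => x.val n) hz
  have hd : ∀ n, ∃ d ∈ I ^ n • (⊤ : Submodule A L), g d = g (b (n + c₁)) := fun n => by
    have h := h₁ (n + c₁) ⟨hb (n + c₁), LinearMap.mem_range_self g _⟩
    rw [Nat.add_sub_cancel, ← Submodule.map_top, ← Submodule.map_smul''] at h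
    exact h
  choose d hd hgd using hd
  let k : ℕ → L := fun n => b (n + c₁) - d n
  have hk : ∀ n, g (k n) = 0 := fun n => by rw [map_sub, hgd, sub_self]
  have hkb : ∀ n m, n ≤ m → k m - b n ∈ I ^ n • (⊤ : Submodule A L) := fun n m hnm => by
    have h1 : b (m + c₁) - b n ∈ I ^ n • (⊤ : Submodule A L) :=
      SModEq.sub_mem.1 (b.2 (show n ≤ m + c₁ by omega)).symm
    have h2 : d m ∈ I ^ n • (⊤ : Submodule A L) := Submodule.smul_mono_left (Ideal.pow_le_pow_right hnm) (hd m)
    show b (m + c₁) - d m - b n ∈ _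
    rw [sub_right_comm]
    exact Submodule.sub_mem _ h1 h2
  let m := c₂ + e
  have hu : ∀ n, ∃ u ∈ I ^ n • (⊤ : Submodule A L'), f u = k (n + m + 1) - k (n + m) := fun n => by
    have h1 : k (n + m + 1) - k (n + m) ∈ I ^ (n + m) • (⊤ : Submodule A L) := by
      have := Submodule.sub_mem _ (hkb (n + m) (n + m + 1) (by omega)) (hkb (n + m) (n + m) le_rfl)
      rwa [sub_sub_sub_cancel_right] at this
    have h2 := h₂ (n + m) ⟨h1, by simp [LinearMap.mem_ker, hk]⟩
    rw [show n + m - c₂ = n + e by omega, pow_add, Submodule.mul_smul] at h2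
    have h3 := Submodule.smul_mono le_rfl he h2
    rw [← Submodule.map_top, ← Submodule.map_smul''] at h3
    exact h3
  choose u hu hfu using hu
  let S : ℕ → L' := fun n => ∑ j ∈ Finset.range n, u j
  have hS : ∀ n, S n ≡ S (n + 1) [SMOD (I ^ n • ⊤ : Submodule A L')] := fun n => by
    refine (SModEq.sub_mem.2 ?_).symm
    simp only [S, Finset.sum_range_succ, add_sub_cancel_left]
    exact hu n
  have hfS : ∀ n, f (S n) = k (n + m) - k m := fun n => by
    induction n with
    | zero => simp [S]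
    | succ n ih =>
      simp only [S, Finset.sum_range_succ, map_add] at ih ⊢
      rw [ih, hfu, show n + 1 + m = n + m + 1 by omega]
      abel
  refine ⟨k m, -(AdicCompletion.mk I L' (AdicCompletion.AdicCauchySequence.mk I L' S hS)), hk m,
    AdicCompletion.ext fun n => ?_⟩
  rw [map_neg, AdicCompletion.val_neg, Pi.neg_apply, AdicCompletion.map_val_apply,
    AdicCompletion.val_sub, Pi.sub_apply, AdicCompletion.mk_apply_coe, AdicCompletion.mk_apply_coe,
    AdicCompletion.of_apply]
  show -(Submodule.Quotient.mk (f (S n))) = (Submodule.Quotient.mk (k m) - Submodule.Quotient.mk (b n) :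
    L ⧸ (I ^ n • ⊤ : Submodule A L))
  rw [← Submodule.Quotient.mk_neg, ← Submodule.Quotient.mk_sub, Submodule.Quotient.eq, hfS]
  have := Submodule.neg_mem _ (hkb n (n + m) (by omega))
  convert this using 1
  abel

include h₂ he in
theorem completion_exists_preimage (hgf : g ∘ₗ f = 0) (x : L) (hx : g x = 0) (w : AdicCompletion I L')
    (hw : AdicCompletion.map I f w = AdicCompletion.of I L x) : x ∈ LinearMap.range f := by
  obtain ⟨a, rfl⟩ := AdicCompletion.mk_surjective I L' w
  have hn := congrArg (fun t => t.val (c₂ + e)) hw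
  simp only [AdicCompletion.map_val_apply, AdicCompletion.mk_apply_coe, AdicCompletion.of_apply,
    Submodule.mkQ_apply, LinearMap.reduceModIdeal_apply] at hn
  have h1 : x - f (a (c₂ + e)) ∈ I ^ (c₂ + e) • (⊤ : Submodule A L) := (Submodule.Quotient.eq _).1 hn.symm
  have h2 : g (x - f (a (c₂ + e))) = 0 := by
    rw [map_sub, hx, show g (f _) = 0 from LinearMap.congr_fun hgf _, sub_zero]
  have h3 := h₂ (c₂ + e) ⟨h1, h2⟩
  rw [Nat.add_sub_cancel_left] at h3
  have := Submodule.add_mem _ (he h3) (LinearMap.mem_range_self f (a (c₂ + e)))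
  rwa [sub_add_cancel] at this

end Key

theorem quasiIso_cmplU [IsNoetherianRing A] [Module.Flat A N] (Y₀ : DRing.Cx A) (hfin : ∀ i, Module.Finite A (Y₀.X i))
    (he : ∀ i, ∃ e : ℕ, I ^ e • LinearMap.ker (Y₀.d i (i + 1)).hom ≤ LinearMap.range (Y₀.d (i - 1) i).hom) :
    QuasiIso (cmplU I (DRing.tensorCx Y₀ (ModuleCat.of A N))) := by
  refine ⟨fun i => ?_⟩
  let Y := DRing.tensorCx Y₀ (ModuleCat.of A N)
  haveI := hfin i; haveI := hfin (i + 1)
  obtain ⟨e, he⟩ := he i
  have hd : ∀ a b, (Y.d a b).hom = (Y₀.d a b).hom.rTensor N := fun a b => rfl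
  have hker : LinearMap.ker (Y.d i (i + 1)).hom = tS N (LinearMap.ker (Y₀.d i (i + 1)).hom) :=
    ker_rTensor_eq N (Y₀.d i (i + 1)).hom
  have hran : ∀ a b, LinearMap.range (Y.d a b).hom = tS N (LinearMap.range (Y₀.d a b).hom) :=
    fun a b => range_rTensor_eq N (Y₀.d a b).hom
  obtain ⟨c₁, h₁⟩ := exists_artinRees I N (LinearMap.range (Y₀.d i (i + 1)).hom)
  obtain ⟨c₂, h₂⟩ := exists_artinRees I N (LinearMap.ker (Y₀.d i (i + 1)).hom)
  have h₁' : ∀ n, I ^ n • ⊤ ⊓ LinearMap.range (Y.d i (i + 1)).hom ≤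
      I ^ (n - c₁) • LinearMap.range (Y.d i (i + 1)).hom := fun n => by
    rw [hran]; exact h₁ n
  have h₂' : ∀ n, I ^ n • ⊤ ⊓ LinearMap.ker (Y.d i (i + 1)).hom ≤
      I ^ (n - c₂) • LinearMap.ker (Y.d i (i + 1)).hom := fun n => by
    rw [hker]; exact h₂ n
  have he' : I ^ e • LinearMap.ker (Y.d i (i + 1)).hom ≤ LinearMap.range (Y.d (i - 1) i).hom := by
    rw [hran, hker]
    exact (tS_smul N _ _).symm.le.trans (tS_mono N he)
  refine quasiIsoAt_of_elements _ i (fun x hx w hw => ?_) (fun z hz => ?_)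
  · exact completion_exists_preimage I (Y.d (i - 1) i).hom (Y.d i (i + 1)).hom h₂' he'
      (by rw [← ModuleCat.hom_comp, Y.d_comp_d]; rfl) x hx w hw
  · obtain ⟨x, y, hx, hy⟩ := completion_exists_lift I (Y.d (i - 1) i).hom (Y.d i (i + 1)).hom h₁' h₂' he' z hz
    exact ⟨x, hx, y, hy⟩

end Groth.Agent.DR40
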