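import Groth.Agent.DR40.KosCx
import Groth.Agent.DR40.FlatComplete
import Groth.Agent.DR40.CompModule

/-! Derived completion of `M ⊗ N` with `M` finite and `N` flat. -/

set_option autoImplicit false
set_option linter.style.haveILetI false
set_option linter.unusedSectionVars false

universe u

open CategoryTheory CategoryTheory.Limits CategoryTheory.Pretriangulated MonoidalCategory HomologicalComplex
open scoped TensorProduct

attribute [local instance] HasDerivedCategory.standard

namespace Groth.Agent.DR40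

open Groth.Agent.DR39

variable {A : Type u} [CommRing A] (I : Ideal A)

theorem adicMap_comp_apply {M N P : Type u} [AddCommGroup M] [Module A M] [AddCommGroup N] [Module A N]
    [AddCommGroup P] [Module A P] (f : M →ₗ[A] N) (g : N →ₗ[A] P) (z : AdicCompletion I M) :
    AdicCompletion.map I g (AdicCompletion.map I f z) = AdicCompletion.map I (g ∘ₗ f) z :=
  LinearMap.congr_fun (AdicCompletion.map_comp I f g) z

theorem adicMap_ext {M N : Type u} [AddCommGroup M] [Module A M] [AddCommGroup N] [Module A N]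
    {f g : M →ₗ[A] N} (h : ∀ x, f x = g x) (z : AdicCompletion I M) :
    AdicCompletion.map I f z = AdicCompletion.map I g z := by rw [LinearMap.ext h]

theorem adicMap_smul_id {M : Type u} [AddCommGroup M] [Module A M] (r : A) (z : AdicCompletion I M) :
    AdicCompletion.map I (r • LinearMap.id) z = r • z := by
  obtain ⟨a, rfl⟩ := AdicCompletion.mk_surjective I M z
  refine AdicCompletion.ext fun n => ?_
  simp
  rfl

theorem adicMap_smul {M N : Type u} [AddCommGroup M] [Module A M] [AddCommGroup N] [Module A N] (r : A)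
    (f : M →ₗ[A] N) (z : AdicCompletion I M) :
    AdicCompletion.map I (r • f) z = r • AdicCompletion.map I f z := by
  rw [← adicMap_smul_id I r, adicMap_comp_apply]
  exact adicMap_ext I (fun x => rfl) z

theorem adicMap_add {M N : Type u} [AddCommGroup M] [Module A M] [AddCommGroup N] [Module A N]
    (f g : M →ₗ[A] N) (z : AdicCompletion I M) :
    AdicCompletion.map I (f + g) z = AdicCompletion.map I f z + AdicCompletion.map I g z := by
  obtain ⟨a, rfl⟩ := AdicCompletion.mk_surjective I M z
  exact AdicCompletion.ext fun n => by simp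

theorem adicMap_sum {M N : Type u} [AddCommGroup M] [Module A M] [AddCommGroup N] [Module A N] {ι : Type*}
    (s : Finset ι) (f : ι → (M →ₗ[A] N)) (z : AdicCompletion I M) :
    AdicCompletion.map I (∑ i ∈ s, f i) z = ∑ i ∈ s, AdicCompletion.map I (f i) z := by
  classical
  induction s using Finset.induction_on with
  | empty => simp [AdicCompletion.map_zero]
  | insert a s ha ih => rw [Finset.sum_insert ha, Finset.sum_insert ha, adicMap_add, ih]

variable (L : Type u) [AddCommGroup L] [Module A L]

/-- `P ⊗ L^ → (P ⊗ L)^`. -/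
noncomputable def thetaL (P : Type u) [AddCommGroup P] [Module A P] :
    P ⊗[A] AdicCompletion I L →ₗ[A] AdicCompletion I (P ⊗[A] L) :=
  TensorProduct.lift
    { toFun := fun v => (AdicCompletion.map I (TensorProduct.mk A P L v)).restrictScalars A
      map_add' := fun v w => LinearMap.ext fun z => by
        show AdicCompletion.map I _ z = _
        rw [map_add, adicMap_add]
        rfl
      map_smul' := fun r v => LinearMap.ext fun z => by
        show AdicCompletion.map I _ z = _
        rw [map_smul, adicMap_smul]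
        rfl }

theorem thetaL_bijective (P : Type u) [AddCommGroup P] [Module A P] [Module.Finite A P] [Module.Free A P] :
    Function.Bijective (thetaL I L P) := by
  classical
  let b := Module.Free.chooseBasis A P
  let cf : Module.Free.ChooseBasisIndex A P → (P ⊗[A] L →ₗ[A] L) :=
    fun j => (TensorProduct.lid A L).toLinearMap ∘ₗ (b.coord j).rTensor L
  let inv : AdicCompletion I (P ⊗[A] L) → P ⊗[A] AdicCompletion I L :=
    fun z => ∑ j, b j ⊗ₜ[A] AdicCompletion.map I (cf j) z
  refine Function.bijective_iff_has_inverse.2 ⟨inv, fun w => ?_, fun z => ?_⟩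
  · induction w using TensorProduct.induction_on with
    | zero => simp [inv]
    | add x y hx hy =>
      rw [map_add]
      simp only [inv, map_add, TensorProduct.tmul_add, Finset.sum_add_distrib] at hx hy ⊢
      rw [hx, hy]
    | tmul v z =>
      have hj : ∀ j, AdicCompletion.map I (cf j) (thetaL I L P (v ⊗ₜ z)) = b.coord j v • z := fun j => by
        show AdicCompletion.map I (cf j) (AdicCompletion.map I (TensorProduct.mk A P L v) z) = _
        rw [adicMap_comp_apply, ← adicMap_smul_id I (b.coord j v)]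
        exact adicMap_ext I (fun x => by simp [cf]) z
      simp only [inv, hj, ← TensorProduct.smul_tmul]
      rw [← TensorProduct.sum_tmul]
      exact congrArg (· ⊗ₜ[A] z) (b.sum_repr v)
  · simp only [inv, map_sum]
    refine Eq.trans (b := ∑ j, AdicCompletion.map I ((TensorProduct.mk A P L (b j)) ∘ₗ cf j) z)
      (Finset.sum_congr rfl fun j _ => adicMap_comp_apply I (cf j) _ z) ?_
    rw [← adicMap_sum, show (∑ j, (TensorProduct.mk A P L (b j)) ∘ₗ cf j) = LinearMap.id from
      TensorProduct.ext' fun v x => by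
        simp only [LinearMap.sum_apply, LinearMap.comp_apply, cf, LinearEquiv.coe_coe,
          LinearMap.rTensor_tmul, TensorProduct.lid_tmul, TensorProduct.mk_apply, LinearMap.id_apply,
          ← TensorProduct.smul_tmul, ← TensorProduct.sum_tmul]
        exact congrArg (· ⊗ₜ[A] x) (b.sum_repr v), AdicCompletion.map_id]
    rfl

/-- The completion map of a map of complexes. -/
noncomputable def cmplMap {Y Y' : DRing.Cx A} (φ : Y ⟶ Y') : cmplCx I Y ⟶ cmplCx I Y' where
  f i := ModuleCat.ofHom ((AdicCompletion.map I (φ.f i).hom).restrictScalars A)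
  comm' i j _ := ModuleCat.hom_ext (LinearMap.ext fun z => by
    show AdicCompletion.map I (Y'.d i j).hom (AdicCompletion.map I (φ.f i).hom z) =
      AdicCompletion.map I (φ.f j).hom (AdicCompletion.map I (Y.d i j).hom z)
    rw [adicMap_comp_apply, adicMap_comp_apply]
    exact adicMap_ext I (fun x => (f_apply_d φ i j x).symm) z)

theorem quasiIso_cmplU_of_iso {Y Y' : DRing.Cx A} (a : Y ≅ Y') [QuasiIso (cmplU I Y)] : QuasiIso (cmplU I Y') := by
  haveI : IsIso (cmplMap I a.hom) := by
    refine ⟨cmplMap I a.inv, ?_, ?_⟩ <;>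
    · refine HomologicalComplex.hom_ext _ _ fun i => ModuleCat.hom_ext (LinearMap.ext fun z => ?_)
      refine (adicMap_comp_apply I _ _ z).trans ?_
      refine (adicMap_ext I (g := LinearMap.id) (fun x => ?_) z).trans ?_
      · first
          | exact congrArg (fun t : Y ⟶ Y => (t.f i).hom x) a.hom_inv_id
          | exact congrArg (fun t : Y' ⟶ Y' => (t.f i).hom x) a.inv_hom_id
      · rw [AdicCompletion.map_id]
        rfl
  have h : cmplU I Y ≫ cmplMap I a.hom = a.hom ≫ cmplU I Y' :=
    HomologicalComplex.hom_ext _ _ fun i => ModuleCat.hom_ext (LinearMap.ext fun x =>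
      AdicCompletion.map_of I (a.hom.f i).hom x)
  haveI : QuasiIso (a.hom ≫ cmplU I Y') := by rw [← h]; infer_instance
  exact quasiIso_of_comp_left a.hom _

theorem quasiIso_tmap_of (Kc : DRing.Cx A) (hKc : ∀ i, FFp (Kc.X i)) (L : ModuleCat.{u} A)
    [QuasiIso (cmplU I (DRing.tensorCx Kc L))] :
    QuasiIso (tmap Kc (ModuleCat.ofHom (X := L) (AdicCompletion.of I L))) := by
  let θ : DRing.tensorCx Kc (ModuleCat.of A (AdicCompletion I L)) ⟶ cmplCx I (DRing.tensorCx Kc L) :=
    { f := fun i => ModuleCat.ofHom (X := (Kc.X i : Type u) ⊗[A] AdicCompletion I L)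
        (Y := AdicCompletion I ((Kc.X i : Type u) ⊗[A] L)) (thetaL I L (Kc.X i))
      comm' := fun i j _ => ModuleCat.hom_ext (TensorProduct.ext' fun v z => by
        show AdicCompletion.map I ((Kc.d i j).hom.rTensor L) (AdicCompletion.map I (TensorProduct.mk A _ L v) z) =
          AdicCompletion.map I (TensorProduct.mk A _ L ((Kc.d i j).hom v)) z
        rw [adicMap_comp_apply]
        exact adicMap_ext I (fun x => rfl) z) }
  haveI : IsIso θ := by
    haveI : ∀ i, IsIso (θ.f i) := fun i => by
      haveI := (hKc i).1; haveI := (hKc i).2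
      rw [DR39.isIso_iff_bijective]
      exact thetaL_bijective I L (Kc.X i)
    exact HomologicalComplex.Hom.isIso_of_components _
  have h : tmap Kc (ModuleCat.ofHom (X := L) (AdicCompletion.of I L)) ≫ θ = cmplU I (DRing.tensorCx Kc L) :=
    HomologicalComplex.hom_ext _ _ fun i => ModuleCat.hom_ext (TensorProduct.ext' fun v x =>
      AdicCompletion.map_of I (TensorProduct.mk A _ L v) x)
  haveI : QuasiIso (tmap Kc (ModuleCat.ofHom (X := L) (AdicCompletion.of I L)) ≫ θ) := by rw [h]; infer_instance
  exact quasiIso_of_comp_right _ θ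

theorem finite_HD_inD (M : Type u) [AddCommGroup M] [Module A M] [Module.Finite A M] (n : ℤ) :
    Module.Finite A (Dual.HD A (Dual.inD A M) n) := by
  by_cases h : n = 0
  · subst h
    exact Module.Finite.equiv (inDH0 M).toLinearEquiv.symm
  · haveI : Subsingleton (Dual.HD A (Dual.inD A M) n) := by
      rcases lt_or_gt_of_ne h with h' | h'
      · exact (isZero_HF_iff _ n).1
          (((DerivedCategory.singleFunctor (ModuleCat.{u} A) 0).obj (ModuleCat.of A M)).isZero_of_isGE 0 n h')
      · exact (isZero_HF_iff _ n).1 ((acyc_inD M (m := 1) (by omega)) n (by omega))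
    infer_instance

variable [IsNoetherianRing A] (M N : Type u) [AddCommGroup M] [Module A M] [Module.Finite A M]
  [AddCommGroup N] [Module A N] [Module.Flat A N]

theorem isCompl_inD_tensor :
    IsCompl I ((DerivedCategory.singleFunctor (ModuleCat.{u} A) 0).map
      (ModuleCat.ofHom (AdicCompletion.of I (M ⊗[A] N)))) := by
  refine ⟨(isDerivedComplete_inD_iff I _).2 (comp_adicCompletion I _), ?_⟩
  obtain ⟨fs, hfs⟩ := exists_list_of_fg (IsNoetherian.noetherian I)
  obtain ⟨Kc, hF, hK, hkos⟩ := exists_kos_tensor (A := A) fs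
  let Y₀ := DRing.tensorCx Kc (ModuleCat.of A M)
  have hq : QuasiIso (cmplU I (DRing.tensorCx Y₀ (ModuleCat.of A N))) := by
    refine quasiIso_cmplU I N Y₀ (fun i => ?_) fun i => ?_
    · haveI := (hF i).1
      exact (inferInstance : Module.Finite A ((Kc.X i : Type u) ⊗[A] M))
    · obtain ⟨k⟩ := hkos (sgl (ModuleCat.of A M))
      let l : Y₀.homology i ≃ₗ[A] Dual.HD A (kosObj fs (Dual.inD A M)) i :=
        ((HomologicalComplex.homologyFunctor _ _ i).mapIso
            (@asIso _ _ _ _ (toSingleTensor Kc (ModuleCat.of A M)) (DR39.isIso_toSingleTensor _ _)) ≪≫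
          (HQIso _ i).symm ≪≫ (HF A i).mapIso (k.symm ≪≫ (kosObj_iso fs
            ((DerivedCategory.singleFunctorIsoCompQ (ModuleCat.{u} A) 0).app (ModuleCat.of A M)).symm).some)).toLinearEquiv
      have hle : I ≤ Ideal.radical (Module.annihilator A (Dual.HD A (kosObj fs (Dual.inD A M)) i)) := by
        refine hfs ▸ Ideal.span_le.2 fun f hf => ?_
        obtain ⟨m, hm⟩ := kos_killed fs (Dual.inD A M) f (Or.inl hf)
        exact ⟨m, Module.mem_annihilator.2 (hm i)⟩
      obtain ⟨e, he⟩ := Ideal.exists_pow_le_of_le_radical_of_fg hle (IsNoetherian.noetherian I)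
      refine ⟨e, Submodule.smul_le.2 fun r hr z hz => ?_⟩
      have := (hcls_eq_zero_iff Y₀ i (r • ⟨z, hz⟩)).1 (l.injective (by
        rw [map_smul, map_smul, map_zero]
        exact Module.mem_annihilator.1 (he hr) _))
      exact this
  haveI : QuasiIso (cmplU I (DRing.tensorCx Kc (ModuleCat.of A (M ⊗[A] N)))) := by
    haveI := hq
    let e : ∀ i, (DRing.tensorCx Y₀ (ModuleCat.of A N)).X i ≅ (DRing.tensorCx Kc (ModuleCat.of A (M ⊗[A] N))).X i :=
      fun i => (TensorProduct.assoc A (Kc.X i) M N).toModuleIso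
    refine quasiIso_cmplU_of_iso I (HomologicalComplex.Hom.isoOfComponents e fun i j _ => ?_)
    refine ModuleCat.hom_ext ?_
    exact TensorProduct.ext_threefold fun v m x => rfl
  haveI ht : QuasiIso (tmap Kc (ModuleCat.ofHom (X := M ⊗[A] N) (AdicCompletion.of I (M ⊗[A] N)))) :=
    quasiIso_tmap_of I Kc hF (ModuleCat.of A (M ⊗[A] N))
  let j := (single (ModuleCat.{u} A) (ComplexShape.up ℤ) 0).map
    (ModuleCat.ofHom (X := M ⊗[A] N) (AdicCompletion.of I (M ⊗[A] N)))
  haveI : QuasiIso (Kc ◁ j) := by
    haveI := DR39.isIso_toSingleTensor Kc (ModuleCat.of A (AdicCompletion I (M ⊗[A] N)))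
    haveI := DR39.isIso_toSingleTensor Kc (ModuleCat.of A (M ⊗[A] N))
    haveI : QuasiIso (toSingleTensor Kc (ModuleCat.of A (M ⊗[A] N)) ≫ (Kc ◁ j)) := by
      rw [show toSingleTensor Kc (ModuleCat.of A (M ⊗[A] N)) ≫ (Kc ◁ j) = _ from
        toSingleTensor_naturality_right Kc (ModuleCat.ofHom (X := M ⊗[A] N) (AdicCompletion.of I (M ⊗[A] N)))]
      exact quasiIso_comp (hφ := ht) (hφ' := inferInstanceAs (QuasiIso (toSingleTensor Kc (ModuleCat.of A (AdicCompletion I (M ⊗[A] N)))))) _ _
    exact quasiIso_of_comp_left (toSingleTensor Kc (ModuleCat.of A (M ⊗[A] N))) _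
  have hZ : Orth I ((QA A).obj (CochainComplex.mappingCone j)) := by
    rw [orth_iff_kos fs hfs]
    obtain ⟨k⟩ := hkos (CochainComplex.mappingCone j)
    obtain ⟨g', h', hd⟩ := (leftModel Kc hK).triangle (DerivedCategory.mappingCone_triangle_distinguished j)
    refine IsZero.of_iso ?_ (k ≪≫ ((leftFac Kc hK).app _).symm)
    refine (Triangle.isZero₃_iff_isIso₁ _ hd).2 ?_
    exact (NatIso.isIso_map_iff (leftFac Kc hK) j).2
      ((DerivedCategory.isIso_Q_map_iff_quasiIso (ModuleCat.{u} A) (Kc ◁ j)).2 inferInstance)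
  intro E hE
  have hb := bijective_of_orth (DerivedCategory.mappingCone_triangle_distinguished j) hZ E hE
  let τ := DerivedCategory.singleFunctorIsoCompQ (ModuleCat.{u} A) 0
  have hn := τ.hom.naturality (ModuleCat.ofHom (X := M ⊗[A] N) (AdicCompletion.of I (M ⊗[A] N)))
  have h2 : ∀ g, (DerivedCategory.singleFunctor (ModuleCat.{u} A) 0).map
      (ModuleCat.ofHom (AdicCompletion.of I (M ⊗[A] N))) ≫ g =
      τ.hom.app _ ≫ ((QA A).map j ≫ (τ.inv.app _ ≫ g : _ ⟶ E)) := fun g => by
    rw [← cancel_epi (τ.inv.app (ModuleCat.of A (M ⊗[A] N)))]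
    simp only [Iso.inv_hom_id_app_assoc]
    exact (Category.assoc _ _ _).symm.trans ((congrArg (· ≫ g) (τ.inv.naturality _).symm).trans (Category.assoc _ _ _))
  refine ⟨fun a b h => ?_, fun w => ?_⟩
  · simp only [h2, cancel_epi] at h
    exact (cancel_epi (τ.inv.app _)).1 (hb.1 h)
  · obtain ⟨g, hg⟩ := hb.2 (τ.inv.app _ ≫ w)
    refine ⟨τ.hom.app _ ≫ g, ?_⟩
    simp only [h2, Iso.inv_hom_id_app_assoc]
    exact (congrArg (τ.hom.app _ ≫ ·) hg).trans (Iso.hom_inv_id_app_assoc τ _ w)

theorem completion_inD_tensor [DRing.HasDerivedCompletion I] :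
    (∀ i : ℤ, i ≠ 0 → Subsingleton (Dual.HD A ((DRing.derivedCompletion I).obj (Dual.inD A (M ⊗[A] N))).obj i)) ∧
      ∃ e : Dual.HD A ((DRing.derivedCompletion I).obj (Dual.inD A (M ⊗[A] N))).obj 0 ≃ₗ[A]
          AdicCompletion I (M ⊗[A] N),
        ∀ x : M ⊗[A] N,
          e ((((DerivedCategory.singleFunctorCompHomologyFunctorIso (ModuleCat.{u} A) 0).inv.app
                (ModuleCat.of A (M ⊗[A] N))) ≫
              (DerivedCategory.homologyFunctor (ModuleCat.{u} A) 0).map
                (DRing.toDerivedCompletion I (Dual.inD A (M ⊗[A] N)))).hom x) =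
            AdicCompletion.of I (M ⊗[A] N) x := by
  obtain ⟨c, hc⟩ := (isCompl_unit I (Dual.inD A (M ⊗[A] N))).unique (isCompl_inD_tensor I M N)
  refine ⟨fun i hi => ?_, ?_⟩
  · refine (isZero_HF_iff _ i).1 (IsZero.of_iso ?_ ((HF A i).mapIso c))
    rcases lt_or_gt_of_ne hi with h' | h'
    · exact ((DerivedCategory.singleFunctor (ModuleCat.{u} A) 0).obj _).isZero_of_isGE 0 i h'
    · exact (acyc_inD (AdicCompletion I (M ⊗[A] N)) (m := 1) (by omega)) i (by omega)
  · let ρ := DerivedCategory.singleFunctorCompHomologyFunctorIso (ModuleCat.{u} A) 0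
    refine ⟨((HF A 0).mapIso c ≪≫ ρ.app (ModuleCat.of A (AdicCompletion I (M ⊗[A] N)))).toLinearEquiv, fun x => ?_⟩
    have key : (ρ.inv.app (ModuleCat.of A (M ⊗[A] N)) ≫ (HF A 0).map (DRing.toDerivedCompletion I (Dual.inD A (M ⊗[A] N)))) ≫
        ((HF A 0).map c.hom ≫ ρ.hom.app (ModuleCat.of A (AdicCompletion I (M ⊗[A] N)))) =
          ModuleCat.ofHom (AdicCompletion.of I (M ⊗[A] N)) := by
      rw [Category.assoc, ← Functor.map_comp_assoc, hc]
      exact (congrArg (ρ.inv.app _ ≫ ·) (ρ.hom.naturality _)).trans (Iso.inv_hom_id_app_assoc ρ _ _)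
    exact LinearMap.congr_fun (congrArg ModuleCat.Hom.hom key) x

end Groth.Agent.DR40
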