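import Groth.Agent.DR39.Patch
import Groth.Agent.DR39.Fibre2

/-! Flatness in degree zero from `R_f` and `R/f`. -/

set_option autoImplicit false
set_option linter.style.haveILetI false
set_option linter.unusedSectionVars false

universe u

open CategoryTheory CategoryTheory.Limits MonoidalCategory HomologicalComplex
open scoped TensorProduct
attribute [local instance] HasDerivedCategory.standard

namespace Groth.Agent.DR40

open Groth.Agent.DR39

variable {R : Type u} [CommRing R] (E : DRing.Cx R)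

theorem exT_sub (hE : ∀ j, Module.Flat R (E.X j)) {V : Type u} [AddCommGroup V] [Module R V] (S : Submodule R V)
    (i j : ℤ) (hj : j + 1 = i) (hV : ExT E (ModuleCat.of R V) i) (hQ : ExT E (ModuleCat.of R (V ⧸ S)) j) :
    ExT E (ModuleCat.of R S) i := by
  obtain rfl : j = i - 1 := by omega
  intro x hx
  change (E.X i : Type u) ⊗[R] S at x
  obtain ⟨y, hy⟩ := hV (S.subtype.lTensor (E.X i) x) (by
    show (E.d i (i + 1)).hom.rTensor V _ = 0
    rw [← LinearMap.comp_apply, LinearMap.rTensor_comp_lTensor, ← LinearMap.lTensor_comp_rTensor,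
      LinearMap.comp_apply]
    erw [hx, map_zero])
  change (E.X (i - 1) : Type u) ⊗[R] V at y
  have hex : Function.Exact S.subtype S.mkQ := LinearMap.exact_subtype_mkQ S
  have hqy : (E.d (i - 1) i).hom.rTensor (V ⧸ S) (S.mkQ.lTensor (E.X (i - 1)) y) = 0 := by
    rw [← LinearMap.comp_apply, LinearMap.rTensor_comp_lTensor, ← LinearMap.lTensor_comp_rTensor,
      LinearMap.comp_apply]
    refine (congrArg (S.mkQ.lTensor (E.X i)) hy).trans ?_
    exact ((lTensor_exact (E.X i) hex S.mkQ_surjective) _).2 ⟨x, rfl⟩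
  obtain ⟨w', hw'⟩ := hQ (S.mkQ.lTensor (E.X (i - 1)) y) (by
    have e : E.d (i - 1) (i - 1 + 1) = E.d (i - 1) i ≫ (E.XIsoOfEq (show i = i - 1 + 1 by omega)).hom := by
      rw [HomologicalComplex.d_comp_XIsoOfEq_hom]
    show (E.d (i - 1) (i - 1 + 1)).hom.rTensor (V ⧸ S) _ = 0
    rw [e, ModuleCat.hom_comp, LinearMap.rTensor_comp, LinearMap.comp_apply, hqy, map_zero])
  obtain ⟨w, rfl⟩ := LinearMap.lTensor_surjective (E.X (i - 1 - 1)) S.mkQ_surjective w'
  obtain ⟨z, hz⟩ := ((lTensor_exact (E.X (i - 1)) hex S.mkQ_surjective)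
    (y - (E.d (i - 1 - 1) (i - 1)).hom.rTensor V w)).1 (by
      rw [map_sub, sub_eq_zero, ← LinearMap.comp_apply (S.mkQ.lTensor _) _ w, LinearMap.lTensor_comp_rTensor,
        ← LinearMap.rTensor_comp_lTensor, LinearMap.comp_apply]
      exact hw'.symm)
  haveI := hE i
  refine ⟨z, Module.Flat.lTensor_preserves_injective_linearMap (M := E.X i) S.subtype Subtype.val_injective ?_⟩
  show S.subtype.lTensor (E.X i) ((E.d (i - 1) i).hom.rTensor S z) = S.subtype.lTensor (E.X i) x
  rw [← LinearMap.comp_apply, LinearMap.lTensor_comp_rTensor, ← LinearMap.rTensor_comp_lTensor,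
    LinearMap.comp_apply, hz, map_sub, ← LinearMap.comp_apply ((E.d (i - 1) i).hom.rTensor V) _ w,
    ← LinearMap.rTensor_comp, ← ModuleCat.hom_comp, E.d_comp_d]
  simpa using hy

theorem exT_pow_killed (hE : ∀ j, Module.Flat R (E.X j)) (f : R) (i : ℤ)
    (h : ∀ N : ModuleCat.{u} (R ⧸ Ideal.span ({f} : Set R)), ExT (extCx (Ideal.Quotient.mk _) E) N i) :
    ∀ (n : ℕ) (M : Type u) [AddCommGroup M] [Module R M], (∀ x : M, f ^ n • x = 0) →
      ExT E (ModuleCat.of R M) i := by
  intro n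
  induction n with
  | zero =>
    intro M _ _ hM
    haveI : Subsingleton M := subsingleton_of_forall_eq 0 fun x => by simpa using hM x
    exact fun x _ => ⟨0, Subsingleton.elim (α := E.X i ⊗[R] M) _ _⟩
  | succ n ih =>
    intro M _ _ hM
    let N : Submodule R M := LinearMap.range (LinearMap.lsmul R M f)
    refine exT_of_submodule E hE i N (ih N ?_) (exT_killed Ideal.Quotient.mk_surjective E i h _ ?_)
    · rintro ⟨_, x, rfl⟩
      refine Subtype.ext ?_
      show f ^ n • f • x = 0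
      rw [smul_smul, ← pow_succ]
      exact hM x
    · intro r hr q
      rw [Ideal.mk_ker, Ideal.mem_span_singleton'] at hr
      obtain ⟨c, rfl⟩ := hr
      obtain ⟨x, rfl⟩ := N.mkQ_surjective q
      rw [← map_smul, mul_comm, mul_smul]
      exact (Submodule.Quotient.mk_eq_zero N).2 ⟨c • x, rfl⟩

theorem exT_torsion (hE : ∀ j, Module.Flat R (E.X j)) (f : R) (i : ℤ)
    (h : ∀ N : ModuleCat.{u} (R ⧸ Ideal.span ({f} : Set R)), ExT (extCx (Ideal.Quotient.mk _) E) N i)
    (T : Type u) [AddCommGroup T] [Module R T] (hT : ∀ t : T, ∃ n : ℕ, f ^ n • t = 0) :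
    ExT E (ModuleCat.of R T) i := by
  classical
  intro x hx
  change (E.X i : Type u) ⊗[R] T at x
  obtain ⟨S, rfl⟩ := TensorProduct.exists_finset x
  choose n hn using hT
  let m := S.sup fun p => n p.2
  let K : Submodule R T := LinearMap.ker (LinearMap.lsmul R T (f ^ m))
  have hmem : ∀ p ∈ S, p.2 ∈ K := fun p hp => by
    show f ^ m • p.2 = 0
    obtain ⟨d, hd⟩ := Nat.le.dest (Finset.le_sup (f := fun p : E.X i × T => n p.2) hp)
    show f ^ (S.sup fun p => n p.2) • p.2 = 0
    rw [← hd, add_comm, pow_add, mul_smul, hn, smul_zero]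
  let x' : (E.X i : Type u) ⊗[R] K := ∑ p ∈ S.attach, p.1.1 ⊗ₜ[R] (⟨p.1.2, hmem p.1 p.2⟩ : K)
  have hx' : K.subtype.lTensor (E.X i) x' = ∑ p ∈ S, p.1 ⊗ₜ[R] p.2 := by
    simp only [x', map_sum, LinearMap.lTensor_tmul, Submodule.coe_subtype]
    exact Finset.sum_attach S fun p => p.1 ⊗ₜ[R] p.2
  haveI := hE (i + 1)
  obtain ⟨y, hy⟩ := exT_pow_killed E hE f i h m K (fun t => Subtype.ext t.2) x' (by
    show (E.d i (i + 1)).hom.rTensor K x' = 0
    apply Module.Flat.lTensor_preserves_injective_linearMap (M := E.X (i + 1)) K.subtype Subtype.val_injective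
    rw [map_zero, ← LinearMap.comp_apply, LinearMap.lTensor_comp_rTensor, ← LinearMap.rTensor_comp_lTensor,
      LinearMap.comp_apply, hx']
    exact hx)
  refine ⟨K.subtype.lTensor (E.X (i - 1)) y, ?_⟩
  show (E.d (i - 1) i).hom.rTensor T _ = _
  rw [← LinearMap.comp_apply, LinearMap.rTensor_comp_lTensor, ← LinearMap.lTensor_comp_rTensor,
    LinearMap.comp_apply]
  exact (congrArg (K.subtype.lTensor (E.X i)) hy).trans hx'

theorem exT_glue (hE : ∀ j, Module.Flat R (E.X j)) (f : R) (i : ℤ)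
    (hq : ∀ j, j ≤ i → ∀ N : ModuleCat.{u} (R ⧸ Ideal.span ({f} : Set R)), ExT (extCx (Ideal.Quotient.mk _) E) N j)
    (hl : ∀ N : ModuleCat.{u} (Localization.Away f), ExT (extCx (algebraMap R (Localization.Away f)) E) N i)
    (M : ModuleCat.{u} R) : ExT E M i := by
  let S := Submonoid.powers f
  let ι : (M : Type u) →ₗ[R] LocalizedModule S M := LocalizedModule.mkLinearMap S M
  refine exT_of_submodule E hE i (LinearMap.ker ι) ?_ (exT_of_equiv E i
    (M := ModuleCat.of R (LinearMap.range ι)) ι.quotKerEquivRange.symm ?_)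
  · refine exT_torsion E hE f i (hq i le_rfl) _ fun t => ?_
    obtain ⟨⟨_, n, rfl⟩, hn⟩ := (IsLocalizedModule.eq_iff_exists S ι).1
      (show ι t.1 = ι 0 by rw [map_zero]; exact t.2)
    exact ⟨n, Subtype.ext (by simpa [Submonoid.smul_def] using hn)⟩
  · refine exT_sub E hE (LinearMap.range ι) i (i - 1) (by omega) ?_ (exT_torsion E hE f (i - 1) (hq _ (by omega)) _ ?_)
    · exact exT_of_equiv E i
        ({ AddEquiv.refl (LocalizedModule S M) with
            map_smul' := fun r x => algebraMap_smul (Localization.Away f) r (show LocalizedModule S M from x) } :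
          (resM (algebraMap R (Localization.Away f)) (ModuleCat.of (Localization.Away f) (LocalizedModule S M)))
            ≃ₗ[R] (ModuleCat.of R (LocalizedModule S M)))
        (exT_of_ext (algebraMap R (Localization.Away f)) E i _ (hl _))
    · intro q
      obtain ⟨v, rfl⟩ := Submodule.mkQ_surjective _ q
      obtain ⟨⟨a, ⟨_, n, rfl⟩⟩, hv⟩ := IsLocalizedModule.surj S ι v
      refine ⟨n, ?_⟩
      rw [← map_smul]
      exact (Submodule.Quotient.mk_eq_zero _).2 ⟨a, hv.symm⟩

theorem exists_flat_inD (f : R) (M : Dual.D R)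
    [DRing.HasLBaseChange (algebraMap R (Localization.Away f))]
    [DRing.HasLBaseChange (Ideal.Quotient.mk (Ideal.span ({f} : Set R)))]
    (h1 : ∀ i : ℤ, 0 < i → Subsingleton (Dual.HD R M i))
    (h2 : TA 0 0 ((DRing.LBaseChange (algebraMap R (Localization.Away f))).obj M))
    (h3 : TA 0 0 ((DRing.LBaseChange (Ideal.Quotient.mk (Ideal.span ({f} : Set R)))).obj M)) :
    ∃ (N : Type u) (_ : AddCommGroup N) (_ : Module R N), Module.Flat R N ∧ Nonempty (M ≅ Dual.inD R N) := by
  obtain ⟨F, hv, hF, ⟨e⟩⟩ := rep_free_of_acyc (X := M) (b := 0) fun i hi => (isZero_HF_iff _ i).2 (h1 i (by omega))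
  have hF' : ∀ j, Module.Flat R (F.X j) := fun j => flat_of_FR (hF j)
  have hk : DRing.IsKFlat R F := isKFlat_of_rep (fun _ => flat_of_FR) hv hF
  have hlow : LowEx F 0 := fun N i hi => (isZero_tensorCx_iff F N i).2
    (exT_glue F hF' f i
      (fun j hj N' => exT_out_of_TA _ F hk (TA.of_iso h3 ((DRing.LBaseChange _).mapIso e.symm)) N' j (Or.inl (by omega)))
      (fun N' => exT_out_of_TA _ F hk (TA.of_iso h2 ((DRing.LBaseChange _).mapIso e.symm)) N' i (Or.inl hi)) N)
  obtain ⟨G, hGv, hG, ⟨g⟩⟩ := ta_of_lowEx F 0 0 ((vanishesAbove_iff F 0).2 hv) hF' e hlow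
  haveI : CochainComplex.IsStrictlyGE G 0 := (CochainComplex.isStrictlyGE_iff _ _).2 fun j hj => hGv j (Or.inl hj)
  haveI : CochainComplex.IsStrictlyLE G 0 := (CochainComplex.isStrictlyLE_iff _ _).2 fun j hj => hGv j (Or.inr hj)
  obtain ⟨N, ⟨k⟩⟩ := CochainComplex.exists_iso_single G 0
  refine ⟨N, inferInstance, inferInstance, ?_, ⟨g.symm ≪≫ (QA R).mapIso k ≪≫
    ((DerivedCategory.singleFunctorIsoCompQ (ModuleCat.{u} R) 0).app N).symm⟩⟩
  let k1 : G.X 0 ≅ ((single (ModuleCat.{u} R) (ComplexShape.up ℤ) 0).obj N).X 0 :=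
    (HomologicalComplex.eval _ _ 0).mapIso k
  let k0 : G.X 0 ≅ N := k1 ≪≫ HomologicalComplex.singleObjXSelf (ComplexShape.up ℤ) (0 : ℤ) N
  haveI : Module.Flat R (G.X 0) := hG 0
  exact Module.Flat.of_linearEquiv k0.toLinearEquiv.symm

end Groth.Agent.DR40
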