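import Groth.Agent.DR39.HomAssoc
import Groth.Agent.DR39.TensorDual
import Groth.Agent.DR39.Perf
import Groth.Agent.DTen43.Dual
import Groth.Agent.DTen43.Mix

/-! `Hom(P, K)` is K-flat for perfect `P` and K-flat `K`. -/

set_option autoImplicit false
set_option linter.style.haveILetI false
set_option linter.unusedSectionVars false

universe u

open CategoryTheory CategoryTheory.Limits MonoidalCategory HomologicalComplex CochainComplex.HomComplex
open scoped TensorProduct

attribute [local instance] HasDerivedCategory.standard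

namespace Groth.Agent.DR40

open Groth.Agent.DR39

variable {A : Type u} [CommRing A] {K L M : DRing.Cx A}

theorem δ_psi {n : ℤ} (z : Cochain K (DRing.homCx L M) n) :
    δ n (n + 1) (psi z) = psi (δ n (n + 1) z) := by
  refine cochain_ext fun p a m r hpa hr x y => ?_
  rw [δ_v n (n + 1) rfl _ m r hr (m + n) (m + 1) (by omega) rfl, psi_apply,
    bil_eq _ p (p + (n + 1)) a r rfl,
    δ_v n (n + 1) rfl z p (p + (n + 1)) rfl (p + n) (p + 1) (by omega) rfl]
  show ((psi z).v m (m + n) rfl ≫ M.d (m + n) r).hom _ +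
      (n + 1).negOnePow • ((psi z).v (m + 1) r _).hom (((K ⊗ L).d m (m + 1)).hom _) = _
  rw [d_ι_tmul, map_add, LinearMap.map_smul_of_tower, psi_apply, psi_apply, ModuleCat.hom_comp,
    LinearMap.comp_apply, psi_apply, bil_eq z (p + 1) (p + (n + 1)) a r (by omega),
    bil_eq z p (p + n) a (m + n) rfl, bil_eq z p (p + n) (a + 1) r rfl]
  show _ = ((δ (p + n) (p + (n + 1)) (cv (p + n) ((z.v p (p + n) rfl).hom x)) +
    (n + 1).negOnePow • cv (p + (n + 1)) ((z.v (p + 1) (p + (n + 1)) _).hom ((K.d p (p + 1)).hom x)) :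
      Cochain L M (p + (n + 1))).v a r _).hom y
  rw [Cochain.add_v, Cochain.units_smul_v,
    δ_v (p + n) (p + (n + 1)) (by omega) _ a r (by omega) (m + n) (a + 1) (by omega) rfl]
  simp only [ModuleCat.hom_add, ModuleCat.hom_comp, LinearMap.add_apply, LinearMap.comp_apply]
  rw [smul_add, smul_smul, ← Int.negOnePow_add, show n + 1 + p = p + (n + 1) by omega]
  exact (add_assoc _ _ _).symm.trans (by rw [add_right_comm]; rfl)

theorem psi_zero {n : ℤ} : psi (0 : Cochain K (DRing.homCx L M) n) = 0 :=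
  map_zero (psiL (K := K) (L := L) (M := M) n)

theorem psi_precomp {X Y : DRing.Cx A} (f : Y ⟶ X) (z : Cochain X (DRing.homCx L M) 0) :
    psi ((Cochain.ofHom f).comp z (zero_add 0)) = (Cochain.ofHom (f ▷ L)).comp (psi z) (zero_add 0) := by
  refine DR39.cochain_ext fun p a m r hpa hr x y => ?_
  rw [psi_apply, Cochain.comp_v _ _ (zero_add 0) m m r (add_zero m) hr, Cochain.ofHom_v, ModuleCat.hom_comp,
    LinearMap.comp_apply]
  have e := LinearMap.congr_fun (congrArg ModuleCat.Hom.hom (whiskerRight_ι (P := L) f p a hpa)) (x ⊗ₜ[A] y)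
  refine Eq.trans ?_ ((congrArg ((psi z).v m r hr).hom e).trans (psi_apply z p a m r hpa hr ((f.f p).hom x) y)).symm
  rw [bil_eq _ p (p + 0) a r rfl, bil_eq z p (p + 0) a r rfl,
    Cochain.comp_v _ _ (zero_add 0) p p (p + 0) (add_zero p) rfl, Cochain.ofHom_v]
  rfl

theorem δ_ofHom' {X Y : DRing.Cx A} (f : X ⟶ Y) (n : ℤ) : δ 0 n (Cochain.ofHom f) = 0 :=
  δ_ofHom f

/-- `X ⊗ L → M` attached to `X → Hom(L, M)`. -/
noncomputable def curryInv {X : DRing.Cx A} (g : X ⟶ DRing.homCx L M) : X ⊗ L ⟶ M :=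
  Cocycle.homOf (Cocycle.mk (psi (Cochain.ofHom g)) 1 rfl
    ((δ_psi (n := 0) (Cochain.ofHom g)).trans ((congrArg psi (δ_ofHom g)).trans psi_zero)))

theorem ofHom_curryInv {X : DRing.Cx A} (g : X ⟶ DRing.homCx L M) :
    Cochain.ofHom (curryInv g) = psi (Cochain.ofHom g) :=
  Cocycle.cochain_ofHom_homOf_eq_coe _

theorem curryInv_bijective (X : DRing.Cx A) :
    Function.Bijective (curryInv : (X ⟶ DRing.homCx L M) → (X ⊗ L ⟶ M)) := by
  refine ⟨fun g g' h => ?_, fun h => ?_⟩
  · exact Cochain.ofHom_injective ((psi_bijective 0).1 (((ofHom_curryInv g).symm.trans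
      (congrArg Cochain.ofHom h)).trans (ofHom_curryInv g')))
  · obtain ⟨z, hz⟩ := (psi_bijective (K := X) (L := L) (M := M) 0).2 (Cochain.ofHom h)
    have hz' : δ 0 1 z = 0 := (psi_bijective (K := X) (L := L) (M := M) 1).1
      ((δ_psi (n := 0) z).symm.trans ((congrArg (δ 0 1) hz).trans ((δ_ofHom h).trans (map_zero _).symm)))
    refine ⟨Cocycle.homOf (Cocycle.mk z 1 rfl hz'), Cochain.ofHom_injective ?_⟩
    rw [ofHom_curryInv, Cocycle.cochain_ofHom_homOf_eq_coe]
    exact hz

theorem curryInv_natural {X Y : DRing.Cx A} (f : Y ⟶ X) (g : X ⟶ DRing.homCx L M) :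
    curryInv (f ≫ g) = (f ▷ L) ≫ curryInv g := by
  refine Cochain.ofHom_injective ?_
  rw [Cochain.ofHom_comp, ofHom_curryInv, ofHom_curryInv, Cochain.ofHom_comp, psi_precomp]

/-- `Hom(P, M) ≅ M ⊗ P^∨` for dualisable `P`. -/
theorem nonempty_homCx_iso_tensor (P D M : DRing.Cx A) [ExactPairing P D] :
    Nonempty (DRing.homCx P M ≅ M ⊗ D) := by
  let adj := tensorRightAdjunction P D
  let c : ∀ X : DRing.Cx A, (X ⟶ DRing.homCx P M) ≃ (X ⊗ P ⟶ M) := fun X => Equiv.ofBijective _ (curryInv_bijective X)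
  refine ⟨Yoneda.ext _ _ (fun {Z} g => adj.homEquiv Z M (c Z g)) (fun {Z} h => (c Z).symm ((adj.homEquiv Z M).symm h))
    (fun g => by simp) (fun h => by simp) fun {Z Z'} f g => ?_⟩
  exact (congrArg (adj.homEquiv Z' M) (curryInv_natural f g)).trans
    (adj.homEquiv_naturality_left f (c Z g))

/-- Precomposition. -/
noncomputable def homCxPre {P P' : DRing.Cx A} (u : P ⟶ P') (M : DRing.Cx A) :
    DRing.homCx P' M ⟶ DRing.homCx P M where
  f i := ModuleCat.ofHom (X := Cochain P' M i) (Y := Cochain P M i)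
    { toFun := fun z => (Cochain.ofHom u).comp z (zero_add i)
      map_add' := fun _ _ => Cochain.comp_add _ _ _ _
      map_smul' := fun _ _ => Cochain.comp_smul _ _ _ _ }
  comm' i j _ := ModuleCat.hom_ext (LinearMap.ext fun (z : Cochain P' M i) => δ_ofHom_comp u z j)

theorem homCxPre_comp_map {P P' P'' : DRing.Cx A} (u : P ⟶ P') (v : P' ⟶ P'') (M : DRing.Cx A) :
    homCxPre (u ≫ v) M = homCxPre v M ≫ homCxPre u M :=
  HomologicalComplex.hom_ext _ _ fun i => ModuleCat.hom_ext (LinearMap.ext fun (z : Cochain P'' M i) => by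
    show (Cochain.ofHom (u ≫ v)).comp z (zero_add i) =
      (Cochain.ofHom u).comp ((Cochain.ofHom v).comp z (zero_add i)) (zero_add i)
    rw [Cochain.ofHom_comp, Cochain.comp_assoc_of_first_is_zero_cochain])

theorem homCxPre_id (P M : DRing.Cx A) : homCxPre (𝟙 P) M = 𝟙 (DRing.homCx P M) :=
  HomologicalComplex.hom_ext _ _ fun i => ModuleCat.hom_ext (LinearMap.ext fun (z : Cochain P M i) =>
    Cochain.id_comp z)

/-- The homotopy on `Hom(-, M)`. -/
noncomputable def preS {P P' : DRing.Cx A} (h : Cochain P P' (-1)) (M : DRing.Cx A) (i j : ℤ) :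
    (DRing.homCx P' M).X i ⟶ (DRing.homCx P M).X j :=
  if hj : -1 + i = j then
    ModuleCat.ofHom (X := Cochain P' M i) (Y := Cochain P M j)
      { toFun := fun z => i.negOnePow • h.comp z hj
        map_add' := fun z z' => by rw [Cochain.comp_add, smul_add]
        map_smul' := fun a z => by rw [Cochain.comp_smul, RingHom.id_apply, smul_comm] }
  else 0

theorem homCxPre_homotopy {P P' : DRing.Cx A} (u v : P ⟶ P') (H : Homotopy u v) (M : DRing.Cx A) :
    Nonempty (Homotopy (homCxPre u M) (homCxPre v M)) := by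
  obtain ⟨h, hh⟩ := Cochain.equivHomotopy u v H
  refine ⟨⟨preS h M, fun i j hij => dif_neg fun hc => hij (by simp at hc ⊢; omega), fun n => ?_⟩⟩
  rw [dNext_eq _ (show (ComplexShape.up ℤ).Rel n (n + 1) by simp),
    prevD_eq _ (show (ComplexShape.up ℤ).Rel (n - 1) n by simp)]
  refine ModuleCat.hom_ext (LinearMap.ext fun (z : Cochain P' M n) => ?_)
  simp only [preS, dif_pos (show -1 + (n + 1) = n by omega), dif_pos (show -1 + n = n - 1 by omega)]
  show (Cochain.ofHom u).comp z (zero_add n) =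
    (n + 1).negOnePow • h.comp (δ n (n + 1) z) _ + δ (n - 1) n (n.negOnePow • h.comp z _) +
      (Cochain.ofHom v).comp z (zero_add n)
  rw [δ_units_smul, δ_comp h z (show -1 + n = n - 1 by omega) 0 (n + 1) n (by omega) (by omega) rfl, hh,
    Cochain.add_comp, smul_add, smul_smul, ← Int.negOnePow_add, Int.negOnePow_succ, Units.neg_smul,
    show (n + n).negOnePow = 1 from Int.negOnePow_even _ ⟨n, rfl⟩, one_smul, neg_add_cancel_left]

/-- Tensoring a homotopy. -/
noncomputable def whiskerHomotopy (X : DRing.Cx A) {Y Z : DRing.Cx A} {u v : Y ⟶ Z} (h : Homotopy u v) :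
    Homotopy (X ◁ u) (X ◁ v) :=
  mapBifunctorMapHomotopy₂ (𝟙 X) h (curriedTensor (ModuleCat.{u} A)) (ComplexShape.up ℤ)

/-- K-flatness in the sense of the statement. -/
theorem kflat_homCx {P : DRing.Cx A} (b : ℤ) (hPb : DRing.VanishesAbove P b)
    (hPp : ∀ i : ℤ, Module.Projective A (P.X i)) (hperf : DRing.IsPerfect A (DRing.toD P))
    (hK : ∀ L : DRing.Cx A, (∀ i : ℤ, IsZero (L.homology i)) →
      ∀ i : ℤ, IsZero (((tensorRight K).obj L).homology i))
    (L : DRing.Cx A) (hL : ∀ i : ℤ, IsZero (L.homology i)) (i : ℤ) :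
    IsZero (((tensorRight (DRing.homCx P K)).obj L).homology i) := by
  obtain ⟨a', b', E, hEv, hE, ⟨e⟩⟩ := (perfect_iff_rep _).1 hperf
  haveI := isKProjective_of_bddAbove P b hPb hPp
  haveI := isKProjective_of_bddAbove E b' (fun i hi => hEv i fun h => absurd h.2 (by omega)) fun i => (hE i).2
  obtain ⟨f, hf⟩ := Q_map_surjective P E e.symm.hom
  obtain ⟨g, hg⟩ := Q_map_surjective E P e.symm.inv
  obtain ⟨H₁⟩ := (Q_map_eq_iff (g ≫ f) (𝟙 E)).1 (by rw [Functor.map_comp, hf, hg]; simp)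
  obtain ⟨H₂⟩ := (Q_map_eq_iff (f ≫ g) (𝟙 P)).1 (by rw [Functor.map_comp, hf, hg]; simp)
  obtain ⟨K₁⟩ := homCxPre_homotopy _ _ H₁ K
  obtain ⟨K₂⟩ := homCxPre_homotopy _ _ H₂ K
  rw [homCxPre_comp_map, homCxPre_id] at K₁ K₂
  let he : HomotopyEquiv (L ⊗ DRing.homCx P K) (L ⊗ DRing.homCx E K) :=
    { hom := L ◁ homCxPre g K
      inv := L ◁ homCxPre f K
      homotopyHomInvId := (Homotopy.ofEq (MonoidalCategory.whiskerLeft_comp _ _ _).symm).trans
        ((whiskerHomotopy L K₂).trans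
          (Homotopy.ofEq (MonoidalCategory.whiskerLeft_id _ _)))
      homotopyInvHomId := (Homotopy.ofEq (MonoidalCategory.whiskerLeft_comp _ _ _).symm).trans
        ((whiskerHomotopy L K₁).trans
          (Homotopy.ofEq (MonoidalCategory.whiskerLeft_id _ _))) }
  refine IsZero.of_iso ?_ (he.toHomologyIso i)
  haveI := fun i => (hE i).1
  haveI := fun i => (hE i).2
  let B : ∀ i, DTen43.DualBasis (E.X i) := fun i => (DTen43.nonempty_dualBasis (E.X i)).some
  let pair : ExactPairing E (DTen43.dual E) :=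
    DTen43.exactPairingCx E a' b' B fun i hi => hEv i fun h => hi (Finset.mem_Icc.2 h)
  obtain ⟨k⟩ := @nonempty_homCx_iso_tensor A _ E (DTen43.dual E) K pair
  have hD : DRing.IsKFlat A (DTen43.dual E) := by
    refine isKFlat_of_flat (-a') (fun j hj => ModuleCat.isZero_iff_subsingleton.2 ?_) fun j => ?_
    · haveI := ModuleCat.subsingleton_of_isZero (hEv (-j) fun h => absurd h.1 (by omega))
      exact inferInstanceAs (Subsingleton (Module.Dual A (E.X (-j))))
    · haveI := (DTen43.finite_projective_dual (E.X (-j))).2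
      exact inferInstanceAs (Module.Flat A (Module.Dual A (E.X (-j))))
  exact (hD (L ⊗ K) (hK L hL) i).of_iso
    ((HomologicalComplex.homologyFunctor _ _ i).mapIso (whiskerLeftIso L k ≪≫ (α_ L K (DTen43.dual E)).symm))

end Groth.Agent.DR40
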