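import Groth.Agent.DR39.TensorMap
import Mathlib.Algebra.Homology.BifunctorHomotopy
import Mathlib.Algebra.Homology.HomotopyCategory.DegreewiseSplit

/-! K-flatness and distinguished triangles of the homotopy category. -/

set_option autoImplicit false
set_option linter.style.haveILetI false
set_option linter.unusedSectionVars false

universe u

open CategoryTheory CategoryTheory.Limits CategoryTheory.Pretriangulated MonoidalCategory HomologicalComplex

namespace Groth.Agent.DR40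

variable {A : Type u} [CommRing A]

/-- `L ⊗ -` on a homotopy equivalence. -/
noncomputable def whiskerHEquiv (L : DRing.Cx A) {P Q : DRing.Cx A} (h : HomotopyEquiv P Q) :
    HomotopyEquiv (L ⊗ P) (L ⊗ Q) where
  hom := L ◁ h.hom
  inv := L ◁ h.inv
  homotopyHomInvId := (Homotopy.ofEq (MonoidalCategory.whiskerLeft_comp L h.hom h.inv).symm).trans
    ((HomologicalComplex.mapBifunctorMapHomotopy₂ (𝟙 L) h.homotopyHomInvId
      (curriedTensor (ModuleCat.{u} A)) (ComplexShape.up ℤ)).trans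
      (Homotopy.ofEq (MonoidalCategory.whiskerLeft_id L P)))
  homotopyInvHomId := (Homotopy.ofEq (MonoidalCategory.whiskerLeft_comp L h.inv h.hom).symm).trans
    ((HomologicalComplex.mapBifunctorMapHomotopy₂ (𝟙 L) h.homotopyInvHomId
      (curriedTensor (ModuleCat.{u} A)) (ComplexShape.up ℤ)).trans
      (Homotopy.ofEq (MonoidalCategory.whiskerLeft_id L Q)))

/-- Acyclicity of `L ⊗ P` only depends on the homotopy type of `P`. -/
theorem isZero_tensor_of_iso (L : DRing.Cx A) {P Q : DRing.Cx A}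
    (e : (HomotopyCategory.quotient (ModuleCat.{u} A) (ComplexShape.up ℤ)).obj P ≅
      (HomotopyCategory.quotient (ModuleCat.{u} A) (ComplexShape.up ℤ)).obj Q)
    {i : ℤ} (h : IsZero ((L ⊗ P).homology i)) : IsZero ((L ⊗ Q).homology i) :=
  h.of_iso ((whiskerHEquiv L (HomotopyCategory.homotopyEquivOfIso e)).toHomologyIso i).symm

/-- Tensoring a degreewise split sequence gives a short exact sequence. -/
theorem shortExact_tensorSeq_of_split (L : DRing.Cx A) (S : ShortComplex (DRing.Cx A))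
    (σ : ∀ n, (S.map (eval (ModuleCat.{u} A) (ComplexShape.up ℤ) n)).Splitting) :
    (DR39.tensorSeq L S).ShortExact := by
  refine shortExact_of_degreewise_shortExact _ fun n => ?_
  let r : ∀ q, S.X₂.X q ⟶ S.X₁.X q := fun q => (σ q).r
  let s : ∀ q, S.X₃.X q ⟶ S.X₂.X q := fun q => (σ q).s
  have hfr : ∀ q, S.f.f q ≫ r q = 𝟙 _ := fun q => (σ q).f_r
  have hsg : ∀ q, s q ≫ S.g.f q = 𝟙 _ := fun q => (σ q).s_g
  have hid : ∀ q, r q ≫ S.f.f q + S.g.f q ≫ s q = 𝟙 _ := fun q => (σ q).id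
  let R : (L ⊗ S.X₂).X n ⟶ (L ⊗ S.X₁).X n :=
    mapBifunctorDesc fun p q h => L.X p ◁ r q ≫ ιTensorObj L S.X₁ p q n h
  let S' : (L ⊗ S.X₃).X n ⟶ (L ⊗ S.X₂).X n :=
    mapBifunctorDesc fun p q h => L.X p ◁ s q ≫ ιTensorObj L S.X₂ p q n h
  have hR : ∀ p q h, ιTensorObj L S.X₂ p q n h ≫ R = L.X p ◁ r q ≫ ιTensorObj L S.X₁ p q n h :=
    fun p q h => ι_mapBifunctorDesc _ p q h
  have hS' : ∀ p q h, ιTensorObj L S.X₃ p q n h ≫ S' = L.X p ◁ s q ≫ ιTensorObj L S.X₂ p q n h :=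
    fun p q h => ι_mapBifunctorDesc _ p q h
  have hf : (L ◁ S.f).f n ≫ R = 𝟙 _ := by
    refine mapBifunctor.hom_ext fun p q h => ?_
    show ιTensorObj L S.X₁ p q n h ≫ (L ◁ S.f).f n ≫ R = ιTensorObj L S.X₁ p q n h ≫ 𝟙 _
    rw [← Category.assoc, DR39.whiskerLeft_ι, Category.assoc, hR, ← Category.assoc,
      ← MonoidalCategory.whiskerLeft_comp, hfr, MonoidalCategory.whiskerLeft_id]
    exact (Category.id_comp _).trans (Category.comp_id _).symm
  have hg : S' ≫ (L ◁ S.g).f n = 𝟙 _ := by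
    refine mapBifunctor.hom_ext fun p q h => ?_
    show ιTensorObj L S.X₃ p q n h ≫ S' ≫ (L ◁ S.g).f n = ιTensorObj L S.X₃ p q n h ≫ 𝟙 _
    rw [← Category.assoc, hS', Category.assoc, DR39.whiskerLeft_ι, ← Category.assoc,
      ← MonoidalCategory.whiskerLeft_comp, hsg, MonoidalCategory.whiskerLeft_id]
    exact (Category.id_comp _).trans (Category.comp_id _).symm
  have hi : R ≫ (L ◁ S.f).f n + (L ◁ S.g).f n ≫ S' = 𝟙 _ := by
    refine mapBifunctor.hom_ext fun p q h => ?_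
    show ιTensorObj L S.X₂ p q n h ≫ (R ≫ (L ◁ S.f).f n + (L ◁ S.g).f n ≫ S') =
      ιTensorObj L S.X₂ p q n h ≫ 𝟙 _
    rw [Preadditive.comp_add, ← Category.assoc, ← Category.assoc, DR39.whiskerLeft_ι, hR,
      Category.assoc, Category.assoc, DR39.whiskerLeft_ι, hS', ← Category.assoc, ← Category.assoc,
      ← MonoidalCategory.whiskerLeft_comp, ← MonoidalCategory.whiskerLeft_comp,
      ← Preadditive.add_comp, ← MonoidalPreadditive.whiskerLeft_add, hid,
      MonoidalCategory.whiskerLeft_id]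
    exact (Category.id_comp _).trans (Category.comp_id _).symm
  exact ShortComplex.Splitting.shortExact { r := R, s := S', f_r := hf, s_g := hg, id := hi }

theorem kflat_triangle (T : Triangle (HomotopyCategory (ModuleCat.{u} A) (ComplexShape.up ℤ)))
    (hT : T ∈ distinguishedTriangles) (L : DRing.Cx A) (i : ℤ) :
    (IsZero ((L ⊗ T.obj₁.as).homology (i + 1)) → IsZero ((L ⊗ T.obj₂.as).homology i) →
        IsZero ((L ⊗ T.obj₃.as).homology i)) ∧
    (IsZero ((L ⊗ T.obj₁.as).homology i) → IsZero ((L ⊗ T.obj₃.as).homology i) →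
        IsZero ((L ⊗ T.obj₂.as).homology i)) ∧
    (IsZero ((L ⊗ T.obj₂.as).homology i) → IsZero ((L ⊗ T.obj₃.as).homology (i - 1)) →
        IsZero ((L ⊗ T.obj₁.as).homology i)) := by
  obtain ⟨S, σ, ⟨e⟩⟩ := (HomotopyCategory.distinguished_iff_iso_trianglehOfDegreewiseSplit T).1 hT
  have hS := shortExact_tensorSeq_of_split L S σ
  have e1 := Triangle.π₁.mapIso e
  have e2 := Triangle.π₂.mapIso e
  have e3 := Triangle.π₃.mapIso e
  have a1 : ∀ j, IsZero ((L ⊗ T.obj₁.as).homology j) ↔ IsZero ((L ⊗ S.X₁).homology j) := fun j =>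
    ⟨isZero_tensor_of_iso (P := T.obj₁.as) L e1, isZero_tensor_of_iso (Q := T.obj₁.as) L e1.symm⟩
  have a2 : ∀ j, IsZero ((L ⊗ T.obj₂.as).homology j) ↔ IsZero ((L ⊗ S.X₂).homology j) := fun j =>
    ⟨isZero_tensor_of_iso (P := T.obj₂.as) L e2, isZero_tensor_of_iso (Q := T.obj₂.as) L e2.symm⟩
  have a3 : ∀ j, IsZero ((L ⊗ T.obj₃.as).homology j) ↔ IsZero ((L ⊗ S.X₃).homology j) := fun j =>
    ⟨isZero_tensor_of_iso (P := T.obj₃.as) L e3, isZero_tensor_of_iso (Q := T.obj₃.as) L e3.symm⟩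
  simp only [a1, a2, a3]
  refine ⟨fun h1 h2 => ?_, fun h1 h3 => ?_, fun h2 h3 => ?_⟩
  · exact (hS.homology_exact₃ i (i + 1) rfl).isZero_of_both_zeros (h2.eq_of_src _ _) (h1.eq_of_tgt _ _)
  · exact (hS.homology_exact₂ i).isZero_of_both_zeros (h1.eq_of_src _ _) (h3.eq_of_tgt _ _)
  · exact (hS.homology_exact₁ (i - 1) i (by simp)).isZero_of_both_zeros (h3.eq_of_src _ _)
      (h2.eq_of_tgt _ _)

end Groth.Agent.DR40
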