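import Groth.Agent.DR40.CompFinite

/-! Koszul objects as tensor products with a bounded complex of finite free modules. -/

set_option autoImplicit false
set_option linter.style.haveILetI false
set_option linter.unusedSectionVars false

universe u

open CategoryTheory CategoryTheory.Limits CategoryTheory.Pretriangulated MonoidalCategory HomologicalComplex

attribute [local instance] HasDerivedCategory.standard

namespace Groth.Agent.DR40

open Groth.Agent.DR39

variable {A : Type u} [CommRing A]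

theorem ffp_cone {X Y : DRing.Cx A} (f : X ⟶ Y) (hX : ∀ i, FFp (X.X i)) (hY : ∀ i, FFp (Y.X i)) (i : ℤ) :
    FFp ((CochainComplex.mappingCone f).X i) := by
  haveI := (hX (i + 1)).1; haveI := (hX (i + 1)).2
  haveI := (hY i).1; haveI := (hY i).2
  let e := (ModuleCat.biprodIsoProd _ _).symm ≪≫
    (HomologicalComplex.homotopyCofiber.XIsoBiprod f i (i + 1) rfl).symm
  exact ⟨Module.Finite.equiv e.toLinearEquiv, Module.Free.of_equiv e.toLinearEquiv⟩

theorem exists_kos_cx : ∀ (fs : List A) (C₀ : DRing.Cx A), (∀ i, FFp (C₀.X i)) → DRing.IsKFlat A C₀ →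
    ∃ Kc : DRing.Cx A, (∀ i, FFp (Kc.X i)) ∧ DRing.IsKFlat A Kc ∧
      Nonempty (kosObj fs ((QA A).obj C₀) ≅ (QA A).obj Kc)
  | [], C₀, hF, hK => ⟨C₀, hF, hK, ⟨Iso.refl _⟩⟩
  | f :: fs, C₀, hF, hK => by
    obtain ⟨Kc, h1, h2, ⟨e⟩⟩ := exists_kos_cx fs (CochainComplex.mappingCone (f • 𝟙 C₀)) (ffp_cone _ hF hF)
      fun M hM i => (kflat_triangle _ (HomotopyCategory.mappingCone_triangleh_distinguished _) M i).1
        (hK M hM (i + 1)) (hK M hM i)
    obtain ⟨c⟩ := cn_iso f (DerivedCategory.mappingCone_triangle_distinguished (f • 𝟙 C₀))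
      (Iso.refl ((QA A).obj C₀)) (Iso.refl ((QA A).obj C₀)) (by
        show (f • 𝟙 _) ≫ 𝟙 _ = 𝟙 _ ≫ (QA A).map (f • 𝟙 C₀)
        rw [Category.comp_id, Category.id_comp]
        show _ = DerivedCategory.Q.map _
        rw [Functor.map_smul, CategoryTheory.Functor.map_id])
    exact ⟨Kc, h1, h2, ⟨(kosObj_iso fs c).some ≪≫ e⟩⟩

theorem ffp_sgl (i : ℤ) : FFp ((sgl (ModuleCat.of A A)).X i) := by
  by_cases hi : i = 0
  · subst hi
    let e := (HomologicalComplex.singleObjXSelf (ComplexShape.up ℤ) 0 (ModuleCat.of A A)).symm.toLinearEquiv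
    exact ⟨Module.Finite.equiv e, Module.Free.of_equiv e⟩
  · haveI := ModuleCat.subsingleton_of_isZero
      (HomologicalComplex.isZero_single_obj_X (ComplexShape.up ℤ) 0 (ModuleCat.of A A) i hi)
    exact ⟨inferInstance, Module.Free.of_subsingleton A _⟩

/-- The Koszul object is `Kc ⊗ -`. -/
theorem exists_kos_tensor (fs : List A) : ∃ Kc : DRing.Cx A, (∀ i, FFp (Kc.X i)) ∧ DRing.IsKFlat A Kc ∧
    ∀ C : DRing.Cx A, Nonempty (kosObj fs ((QA A).obj C) ≅ (QA A).obj (Kc ⊗ C)) := by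
  haveI : Module.Flat A (ModuleCat.of A A) := inferInstanceAs (Module.Flat A A)
  obtain ⟨Kc, h1, h2, ⟨e⟩⟩ := exists_kos_cx fs (sgl (ModuleCat.of A A)) ffp_sgl (isKFlat_sgl _)
  refine ⟨Kc, h1, h2, fun C => ?_⟩
  haveI : (SF.res C).IsKProjective := SF.isKProjective_res C
  let P := SF.res C
  have hP : DRing.IsKFlat A P := isKFlat_of_isKProjective (P := SF.res C)
  let R := leftR P hP
  obtain ⟨k⟩ := (leftModel P hP).kosObj fs ((QA A).obj (sgl (ModuleCat.of A A)))
  haveI := (DerivedCategory.isIso_Q_map_iff_quasiIso (ModuleCat.{u} A) (SF.aug C)).2 inferInstance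
  haveI := quasiIso_whiskerLeft_of_kflat h2 (SF.aug C)
  haveI hw := (DerivedCategory.isIso_Q_map_iff_quasiIso (ModuleCat.{u} A) (Kc ◁ SF.aug C)).2 inferInstance
  let u : (QA A).obj C ≅ R.obj ((QA A).obj (sgl (ModuleCat.of A A))) :=
    (asIso ((QA A).map (SF.aug C))).symm ≪≫ (QA A).mapIso (tensorUnitIso P) ≪≫
      (QA A).mapIso (@asIso _ _ _ _ (toSingleTensor P (ModuleCat.of A A)) (DR39.isIso_toSingleTensor _ _)) ≪≫
      ((leftFac P hP).app _).symm
  exact ⟨(kosObj_iso fs u).some ≪≫ k ≪≫ R.mapIso e ≪≫ (leftFac P hP).app Kc ≪≫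
    (QA A).mapIso (@asIso _ _ _ _ (symm' P Kc) (DR39.isIso_symm' _ _)) ≪≫
    @asIso _ _ _ _ ((QA A).map (Kc ◁ SF.aug C)) hw⟩

end Groth.Agent.DR40
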