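import Groth.Agent.DR39.ResTensor
import Groth.Agent.DR39.BC

/-! Tor amplitude over the base is local on the source. -/

set_option autoImplicit false
set_option linter.style.haveILetI false
set_option linter.unusedSectionVars false

universe u

open CategoryTheory CategoryTheory.Limits MonoidalCategory HomologicalComplex
open scoped TensorProduct
attribute [local instance] HasDerivedCategory.standard

namespace Groth.Agent.DR40

open Groth.Agent.DR39

theorem isZero_of_maximal {B : Type u} [CommRing B] (H : ModuleCat.{u} B)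
    (h : ∀ (m : Ideal B) [m.IsMaximal], IsZero ((extA B (Localization.AtPrime m)).obj H)) : IsZero H := by
  refine ModuleCat.isZero_iff_subsingleton.2 ?_
  refine Module.subsingleton_of_localization_maximal
    (fun (P : Ideal B) [P.IsMaximal] => Localization.AtPrime P ⊗[B] (H : Type u))
    (fun (P : Ideal B) [P.IsMaximal] => TensorProduct.mk B (Localization.AtPrime P) H 1) fun P _ => ?_
  exact subsingleton_tensor_of_isZero_extA (Localization.AtPrime P) H (h P)

theorem free_extA {A B : Type u} [CommRing A] [CommRing B] [Algebra A B] (M : ModuleCat.{u} A)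
    (h : Module.Free A M) : Module.Free B ((extA A B).obj M) := by
  obtain ⟨e⟩ := ext_tensorIso B M
  exact Module.Free.of_equiv e.toLinearEquiv.symm

theorem isZero_res_homology_of_ta {A Ap : Type u} [CommRing A] [CommRing Ap] [Algebra A Ap] [Module.Flat A Ap]
    (Y : DRing.Cx Ap) {a b : ℤ} (h : TA a b ((QA Ap).obj Y)) (M : ModuleCat.{u} A) (F : DRing.Cx A)
    (hv : DRing.VanishesAbove F 0) (hF : ∀ i, Module.Free A (F.X i)) (eF : (QA A).obj F ≅ Dual.inD A M)
    (i : ℤ) (hi : i < a ∨ b < i) : IsZero ((resCx (algebraMap A Ap) Y ⊗ F).homology i) := by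
  rw [isZero_res_tensor_iff]
  exact (ta_iff_resolution Y a b).1 h ((extA A Ap).obj M) (extCx (algebraMap A Ap) F)
    (fun j hj => (extA A Ap).map_isZero (hv j hj)) (fun j => free_extA (F.X j) (hF j))
    ((DFQ (extA A Ap) F).symm ≪≫ (DF (extA A Ap)).mapIso eF ≪≫ DFinD (extA A Ap) M) i hi

theorem ta_restrict_of_maximal {A B : Type u} [CommRing A] [CommRing B] [Algebra A B] (K : DRing.Cx B) (a b : ℤ)
    (h : ∀ (m : Ideal B) [m.IsMaximal],
      DRing.HasTorAmplitudeIn (Localization.AtPrime (m.comap (algebraMap A B))) a b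
        (DRing.toD ((DRing.restrictCx (Localization.localRingHom (m.comap (algebraMap A B)) m (algebraMap A B) rfl)).obj
          (((ModuleCat.extendScalars (algebraMap B (Localization.AtPrime m))).mapHomologicalComplex
            (ComplexShape.up ℤ)).obj K)))) :
    DRing.HasTorAmplitudeIn A a b (DRing.toD ((DRing.restrictCx (algebraMap A B)).obj K)) := by
  refine (ta_iff_resolution (resCx (algebraMap A B) K) a b).2 fun M F hv hF eF i hi => ?_
  rw [isZero_res_tensor_iff]
  refine isZero_of_maximal _ fun m _ => ?_
  let Ap := Localization.AtPrime (m.comap (algebraMap A B))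
  let Bm := Localization.AtPrime m
  let ψ : Ap →+* Bm := Localization.localRingHom (m.comap (algebraMap A B)) m (algebraMap A B) rfl
  let G := extCx (algebraMap A B) F
  haveI : Module.Flat A Ap := inferInstance
  haveI := preservesFiniteLimits_extA (A := B) Bm
  refine IsZero.of_iso ?_ (((K ⊗ G).sc i).mapHomologyIso (extA B Bm)).symm
  have h1 := isZero_res_homology_of_ta (resCx ψ (extCx (algebraMap B Bm) K)) (h m) M F hv hF eF i hi
  obtain ⟨c1⟩ := resCx_comp (algebraMap A Ap) ψ ((algebraMap B Bm).comp (algebraMap A B))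
    (RingHom.ext fun r => Localization.localRingHom_to_map (m.comap (algebraMap A B)) m (algebraMap A B) rfl r) (extCx (algebraMap B Bm) K)
  obtain ⟨c2⟩ := resCx_comp (algebraMap A B) (algebraMap B Bm) _ rfl (extCx (algebraMap B Bm) K)
  have h2 : IsZero ((resCx (algebraMap A B) (resCx (algebraMap B Bm) (extCx (algebraMap B Bm) K)) ⊗ F).homology i) :=
    h1.of_iso ((HomologicalComplex.homologyFunctor _ _ i).mapIso (MonoidalCategory.whiskerRightIso (c2 ≪≫ c1.symm) F))
  rw [isZero_res_tensor_iff] at h2
  obtain ⟨c3⟩ := res_ext_tensor_iso (B := Bm) K G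
  exact (isZero_res_homology_iff (algebraMap B Bm) (extCx (algebraMap B Bm) (K ⊗ G)) i).1
    (h2.of_iso ((HomologicalComplex.homologyFunctor _ _ i).mapIso c3.symm))

end Groth.Agent.DR40
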