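import Groth.Agent.DR40.TensorComplete
import Groth.Agent.DR40.BCAdj
import Groth.Agent.RelPC41.TorIndep
import Groth.Prelude.Def_TrivBC
import Groth.Prelude.Def_DTen5

/-! Base change along a Tor independent pushout square. -/

set_option autoImplicit false
set_option linter.style.haveILetI false
set_option linter.unusedSectionVars false

universe u

open CategoryTheory CategoryTheory.Limits MonoidalCategory HomologicalComplex
open scoped TensorProduct
attribute [local instance] HasDerivedCategory.standard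

namespace Groth.Agent.DR40

open Groth.Agent.DR39

section Kflat

variable {A : Type u} [CommRing A]

theorem quasiIso_whiskerLeft' {L X Y : DRing.Cx A} (hL : DRing.IsKFlat A L) (f : X ⟶ Y) [QuasiIso f] :
    QuasiIso (L ◁ f) := by
  haveI := (DerivedCategory.isIso_Q_map_iff_quasiIso (ModuleCat.{u} A) f).2 inferInstance
  haveI : IsIso ((DerivedCategory.Q ⋙ leftR L hL).map f) :=
    inferInstanceAs (IsIso ((leftR L hL).map (DerivedCategory.Q.map f)))
  exact (DerivedCategory.isIso_Q_map_iff_quasiIso (ModuleCat.{u} A) (L ◁ f)).1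
    ((NatIso.isIso_map_iff (leftFac L hL) f).1 inferInstance)

theorem quasiIso_whiskerRight' {L X Y : DRing.Cx A} (hL : DRing.IsKFlat A L) (f : X ⟶ Y) [QuasiIso f] :
    QuasiIso (f ▷ L) := by
  haveI := quasiIso_whiskerLeft' hL f
  haveI : QuasiIso ((f ▷ L) ≫ symm' Y L) := by rw [symm'_naturality]; infer_instance
  exact quasiIso_of_comp_right (f ▷ L) (symm' Y L)

/-- An augmented resolution is a quasi-isomorphism. -/
theorem quasiIso_of_aug {H Y : DRing.Cx A} (f : H ⟶ Y) (hH : ∀ i, 0 < i → Subsingleton (H.X i))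
    (hY : ∀ i, i ≠ 0 → Subsingleton (Y.X i)) (hneg : ∀ i, i < 0 → IsZero (H.homology i))
    (hs : Function.Surjective (f.f 0).hom) (hex : Function.Exact (H.d (-1) 0).hom (f.f 0).hom) :
    QuasiIso f := by
  refine ⟨fun i => quasiIsoAt_of_elements f i (fun x hx y hy => ?_) fun z hz => ?_⟩
  · rcases lt_trichotomy i 0 with hi | rfl | hi
    · exact (isZero_homology_iff H i).1 (hneg i hi) x hx
    · haveI := hY (0 - 1) (by omega)
      rw [Subsingleton.elim y 0, map_zero] at hy
      exact (hex x).1 hy.symm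
    · haveI := hH i hi
      exact ⟨0, Subsingleton.elim _ _⟩
  · by_cases hi : i = 0
    · subst hi
      obtain ⟨x, rfl⟩ := hs z
      haveI := hH (0 + 1) (by omega)
      exact ⟨x, Subsingleton.elim _ _, 0, by rw [map_zero, sub_self]⟩
    · haveI := hY i hi
      exact ⟨0, map_zero _, 0, Subsingleton.elim _ _⟩

end Kflat

section Proj

variable {R A : Type u} [CommRing R] [CommRing A] (φ : R →+* A)

theorem pfCx_naturality (Y : DRing.Cx A) {K L : DRing.Cx R} (f : K ⟶ L) :
    ((DTen.resCx φ).obj Y ◁ f) ≫ DTen43.pfCx φ Y L =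
      DTen43.pfCx φ Y K ≫ (DTen.resCx φ).map (Y ◁ (DTen.extCx φ).map f) := by
  have h := DTen.resTenCx_naturality φ (𝟙 Y) ((DTen.extCx φ).map f)
  rw [CategoryTheory.Functor.map_id, MonoidalCategory.id_tensorHom, MonoidalCategory.id_tensorHom] at h
  simp only [DTen43.pfCx, Category.assoc]
  refine Eq.trans ?_ (congrArg (((DTen.resCx φ).obj Y ◁ (DTen.unitCx φ).app K) ≫ ·) h)
  refine (Category.assoc _ _ _).symm.trans (Eq.trans ?_ (Category.assoc _ _ _))
  refine congrArg (· ≫ _) ?_
  rw [← MonoidalCategory.whiskerLeft_comp, ← MonoidalCategory.whiskerLeft_comp]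
  exact congrArg (_ ◁ ·) ((DTen.unitCx φ).naturality f)

theorem quasiIso_resCx_iff {X Y : DRing.Cx A} (f : X ⟶ Y) : QuasiIso ((DTen.resCx φ).map f) ↔ QuasiIso f :=
  quasiIso_map_iff_of_preservesHomology _ (ModuleCat.restrictScalars φ)

theorem quasiIso_res_whisker_iff (Y : DRing.Cx A) {K L : DRing.Cx R} (f : K ⟶ L) :
    QuasiIso ((DTen.resCx φ).obj Y ◁ f) ↔ QuasiIso (Y ◁ (DTen.extCx φ).map f) := by
  rw [← quasiIso_resCx_iff φ, ← quasiIso_iff_comp_right _ (DTen43.pfCx φ Y L), pfCx_naturality,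
    quasiIso_iff_comp_left]

theorem quasiIso_extCx_iff {K L : DRing.Cx R} (f : K ⟶ L) :
    QuasiIso ((DTen.extCx φ).map f) ↔ QuasiIso ((DTen.resCx φ).obj (𝟙_ (DRing.Cx A)) ◁ f) := by
  rw [quasiIso_res_whisker_iff, ← quasiIso_iff_comp_right _ (λ_ ((DTen.extCx φ).obj L)).hom,
    MonoidalCategory.leftUnitor_naturality, quasiIso_iff_comp_left]

end Proj

section Tor

variable (R A R' : Type u) [CommRing R] [CommRing A] [CommRing R'] [Algebra R A] [Algebra R R']

theorem subsingleton_X_map {B : Type u} [CommRing B] (F : ModuleCat.{u} R ⥤ ModuleCat.{u} B) [F.Additive]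
    (X : DRing.Cx R) (i : ℤ) (h : Subsingleton (X.X i)) :
    Subsingleton (((F.mapHomologicalComplex (ComplexShape.up ℤ)).obj X).X i) :=
  ModuleCat.isZero_iff_subsingleton.1 (F.map_isZero (ModuleCat.isZero_iff_subsingleton.2 h))

theorem exists_tor_res (htor : ∀ p : ℕ, 1 ≤ p → Subsingleton (DRing.Tor R p A R')) :
    ∃ (H : DRing.Cx R) (q : H ⟶ (DTen.resCx (algebraMap R R')).obj (𝟙_ (DRing.Cx R'))),
      DRing.IsKFlat R H ∧ QuasiIso q ∧ QuasiIso ((DTen.extCx (algebraMap R A)).map q) := by
  obtain ⟨H, hb, hf, ⟨e⟩, ε, hεs, hεe⟩ := RelPC41.exists_res_aug (R := R) R'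
  let S : DRing.Cx R := sgl (ModuleCat.of R R')
  let q₀ : H ⟶ S := HomologicalComplex.mkHomToSingle (ModuleCat.ofHom ε) (fun i hi => by
    change i + 1 = 0 at hi
    obtain rfl : i = -1 := by omega
    exact ModuleCat.hom_ext (LinearMap.ext fun x => (hεe _).2 ⟨x, rfl⟩))
  have hH : ∀ i, 0 < i → Subsingleton (H.X i) := fun i hi => ModuleCat.subsingleton_of_isZero (hb i hi)
  have hS : ∀ i, i ≠ 0 → Subsingleton (S.X i) := fun i hi =>
    ModuleCat.subsingleton_of_isZero (HomologicalComplex.isZero_single_obj_X _ _ _ i hi)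
  let ι := (HomologicalComplex.singleObjXSelf (ComplexShape.up ℤ) (0 : ℤ) (ModuleCat.of R R')).toLinearEquiv
  have hq₀ : ∀ x, (q₀.f 0).hom x = ι.symm (ε x) := fun x => by
    simp only [q₀, ι, HomologicalComplex.mkHomToSingle_f]
    rfl
  have hs : Function.Surjective (q₀.f 0).hom := fun z => by
    obtain ⟨x, hx⟩ := hεs (ι z)
    exact ⟨x, by rw [hq₀, hx, LinearEquiv.symm_apply_apply]⟩
  have hex : Function.Exact (H.d (-1) 0).hom (q₀.f 0).hom := fun x => by
    rw [hq₀, LinearEquiv.map_eq_zero_iff]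
    exact hεe x
  have h0 : QuasiIso q₀ := quasiIso_of_aug q₀ hH hS
    (fun i hi => ((isZero_HF_Q_iff _ i).1 ((DerivedCategory.isZero_of_isGE (Dual.inD R R') 0 i hi).of_iso
      ((HF R i).mapIso e)))) hs hex
  let N := resB (algebraMap R A)
  let T := (tensorRight N).mapHomologicalComplex (ComplexShape.up ℤ)
  let eN : ModuleCat.of R A ≅ N :=
    ({ AddEquiv.refl A with map_smul' := fun r a => Algebra.smul_def r a } :
      (ModuleCat.of R A) ≃ₗ[R] N).toModuleIso
  have hN : RelPC41.Acy H N :=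
    RelPC41.Acy.of_iso (fun i hi => RelPC41.exT_of_tor hb hf A R' e htor i hi) eN
  have h1 : QuasiIso (T.map q₀) := quasiIso_of_aug _
    (fun i hi => subsingleton_X_map R _ H i (hH i hi)) (fun i hi => subsingleton_X_map R _ S i (hS i hi))
    (fun i hi => (isZero_tensorCx_iff H N i).2 (hN i hi))
    (LinearMap.rTensor_surjective _ hs) (rTensor_exact _ hex hs)
  let k : S ≅ (DTen.resCx (algebraMap R R')).obj (𝟙_ (DRing.Cx R')) :=
    ((single (ModuleCat.{u} R) (ComplexShape.up ℤ) 0).mapIso
      (({ AddEquiv.refl R' with map_smul' := fun r a => Algebra.smul_def r a } :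
        (ModuleCat.of R R') ≃ₗ[R] ((ModuleCat.restrictScalars (algebraMap R R')).obj (ModuleCat.of R' R'))).toModuleIso)) ≪≫
      ((HomologicalComplex.singleMapHomologicalComplex (ModuleCat.restrictScalars (algebraMap R R'))
        (ComplexShape.up ℤ) 0).symm.app (ModuleCat.of R' R'))
  haveI := h0
  refine ⟨H, q₀ ≫ k.hom, isKFlat_of_flat 0 hb (fun i => flat_of_FR (hf i)), inferInstance, ?_⟩
  rw [← quasiIso_resCx_iff (algebraMap R A)]
  let τ := NatIso.mapHomologicalComplex (extendRestrictIso (algebraMap R A)) (ComplexShape.up ℤ)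
  haveI : QuasiIso (T.map (q₀ ≫ k.hom)) := by
    haveI := h1
    exact quasiIso_of_arrow_mk_iso (T.map q₀) _ (T.mapArrow.mapIso
      (Arrow.isoMk (Iso.refl _) k (Category.id_comp _) : Arrow.mk q₀ ≅ Arrow.mk (q₀ ≫ k.hom)))
  exact quasiIso_of_arrow_mk_iso (T.map (q₀ ≫ k.hom)) _
    (Arrow.isoMk (τ.app _).symm (τ.app _).symm (τ.inv.naturality (q₀ ≫ k.hom)).symm)

variable {R A R'}

theorem quasiIso_extCx_of_res (htor : ∀ p : ℕ, 1 ≤ p → Subsingleton (DRing.Tor R p A R'))
    {P : DRing.Cx R} (hP : DRing.IsKFlat R P) {E : DRing.Cx A} (hE : DRing.IsKFlat A E)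
    (p : P ⟶ (DTen.resCx (algebraMap R A)).obj E) [QuasiIso p] :
    QuasiIso ((DTen.extCx (algebraMap R R')).map p) := by
  obtain ⟨H, q, hH, hq, hqA⟩ := exists_tor_res R A R' htor
  rw [quasiIso_extCx_iff]
  haveI := hq
  haveI := quasiIso_whiskerLeft' hH p
  haveI := quasiIso_whiskerRight' hP q
  haveI : QuasiIso (q ▷ (DTen.resCx (algebraMap R A)).obj E) := by
    haveI : QuasiIso ((DTen.resCx (algebraMap R A)).obj E ◁ q) := by
      rw [quasiIso_res_whisker_iff]
      haveI := hqA
      exact quasiIso_whiskerLeft' hE _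
    haveI : QuasiIso ((q ▷ (DTen.resCx (algebraMap R A)).obj E) ≫ symm' _ _) := by
      rw [symm'_naturality]; infer_instance
    exact quasiIso_of_comp_right (q ▷ (DTen.resCx (algebraMap R A)).obj E) (symm' _ _)
  haveI : QuasiIso ((q ▷ P) ≫ ((DTen.resCx (algebraMap R R')).obj (𝟙_ (DRing.Cx R')) ◁ p)) := by
    rw [← MonoidalCategory.whisker_exchange]; infer_instance
  exact quasiIso_of_comp_left (q ▷ P) _

end Tor

section Square

variable {R A R' A' : Type u} [CommRing R] [CommRing A] [CommRing R'] [CommRing A']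
  [Algebra R A] [Algebra R R'] [Algebra A A'] [Algebra R' A'] [Algebra R A']
  [IsScalarTower R A A'] [IsScalarTower R R' A'] [Algebra.IsPushout R A R' A']
  (h : (algebraMap A A').comp (algebraMap R A) = (algebraMap R' A').comp (algebraMap R R'))

theorem bijective_of_tmul (M : Type u) [AddCommGroup M] [Module R M] [Module A M] [IsScalarTower R A M]
    (f : R' ⊗[R] M →+ A' ⊗[A] M) (hf : ∀ s m, f (s ⊗ₜ m) = algebraMap R' A' s ⊗ₜ m) :
    Function.Bijective f := by
  haveI : Algebra.IsPushout R R' A A' := Algebra.IsPushout.symm inferInstance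
  let e := (Algebra.IsPushout.cancelBaseChangeAux R R' A A' M).symm
  have he : ∀ x, f x = e x := fun x => by
    induction x using TensorProduct.induction_on with
    | zero => simp
    | tmul s m => simp [hf, e]
    | add x y hx hy => simp [hx, hy]
  exact (funext he : ⇑f = ⇑e) ▸ e.bijective

end Square

section SquareHom

variable {R A R' A' : Type u} [CommRing R] [CommRing A] [CommRing R'] [CommRing A']

theorem isIso_sqτ₀ (φ : R →+* A) (ρ : R →+* R') (φ' : R' →+* A') (α : A →+* A') (h : α.comp φ = φ'.comp ρ)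
    (hp : letI := φ.toAlgebra; letI := ρ.toAlgebra; letI := α.toAlgebra; letI := φ'.toAlgebra
      letI := (α.comp φ).toAlgebra
      haveI : IsScalarTower R A A' := IsScalarTower.of_algebraMap_eq' rfl
      haveI : IsScalarTower R R' A' := IsScalarTower.of_algebraMap_eq' h
      Algebra.IsPushout R A R' A') (E : DRing.Cx A) :
    IsIso ((DTen.sqτ φ ρ φ' α h).app E) := by
  letI := φ.toAlgebra; letI := ρ.toAlgebra; letI := α.toAlgebra; letI := φ'.toAlgebra
  letI := (α.comp φ).toAlgebra
  haveI : IsScalarTower R A A' := IsScalarTower.of_algebraMap_eq' rfl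
  haveI : IsScalarTower R R' A' := IsScalarTower.of_algebraMap_eq' h
  haveI : Algebra.IsPushout R A R' A' := hp
  haveI : ∀ i, IsIso (((DTen.sqτ φ ρ φ' α h).app E).f i) := by
    intro i
    rw [ConcreteCategory.isIso_iff_bijective]
    letI : Module R (E.X i) := Module.compHom (E.X i) φ
    haveI : IsScalarTower R A (E.X i) := ⟨fun r a m => by
      show (φ r * a) • m = φ r • a • m
      rw [mul_smul]⟩
    let f : R' ⊗[R] (E.X i : Type u) →+ A' ⊗[A] (E.X i : Type u) :=
      (((DTen.sqτ φ ρ φ' α h).app E).f i).hom.toAddMonoidHom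
    exact bijective_of_tmul (R := R) (A := A) (R' := R') (A' := A') (E.X i : Type u) f
      (fun s m => congrArg (· ⊗ₜ[A] m) (mul_one (φ' s)))
  exact HomologicalComplex.Hom.isIso_of_components _

theorem unit_sqτ (φ : R →+* A) (ρ : R →+* R') (φ' : R' →+* A') (α : A →+* A') (h : α.comp φ = φ'.comp ρ)
    (E : DRing.Cx A) :
    (DTen.unitCx ρ).app ((DTen.resCx φ).obj E) ≫ (DTen.resCx ρ).map ((DTen.sqτ φ ρ φ' α h).app E) =
      (DTen.resCx φ).map ((DTen.unitCx α).app E) ≫
        (Functor.mapHomologicalComplexCompIso (TrivBC.resCommMod h) (ComplexShape.up ℤ) ≪≫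
          (Functor.mapHomologicalComplexCompIso
            (Iso.refl (ModuleCat.restrictScalars.{u} φ' ⋙ ModuleCat.restrictScalars.{u} ρ)) (ComplexShape.up ℤ)).symm).hom.app
          ((DTen.extCx α).obj E) := by
  refine HomologicalComplex.hom_ext _ _ fun i => ModuleCat.hom_ext (LinearMap.ext fun x => ?_)
  letI := α.toAlgebra
  exact congrArg (fun a : A' => a ⊗ₜ[A] (show (E.X i : Type u) from x)) ((mul_one (φ' 1)).trans (map_one φ'))

end SquareHom

section Square

variable {R A R' A' : Type u} [CommRing R] [CommRing A] [CommRing R'] [CommRing A']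
  [Algebra R A] [Algebra R R'] [Algebra A A'] [Algebra R' A'] [Algebra R A']
  [IsScalarTower R A A'] [IsScalarTower R R' A'] [Algebra.IsPushout R A R' A']
  (h : (algebraMap A A').comp (algebraMap R A) = (algebraMap R' A').comp (algebraMap R R'))

theorem isIso_sqτ (E : DRing.Cx A) :
    IsIso ((DTen.sqτ (algebraMap R A) (algebraMap R R') (algebraMap R' A') (algebraMap A A') h).app E) := by
  refine isIso_sqτ₀ _ _ _ _ h ?_ E
  convert (inferInstance : Algebra.IsPushout R A R' A') using 2
  all_goals exact Algebra.algebra_ext _ _ fun r =>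
    (by first | rfl | exact (IsScalarTower.algebraMap_apply R A A' r) | exact (IsScalarTower.algebraMap_apply R A A' r).symm)

variable [DRing.HasLBaseChange (algebraMap R R')] [DRing.HasLBaseChange (algebraMap A A')]

/-- The universal arrow `Q P → (P ⊗ B)|`. -/
noncomputable abbrev uArr {R B : Type u} [CommRing R] [CommRing B] (φ : R →+* B) (P : DRing.Cx R) :
    DerivedCategory.Q.obj P ⟶ (DRing.restrictD φ).obj (DerivedCategory.Q.obj ((DTen.extCx φ).obj P)) :=
  DerivedCategory.Q.map ((DTen.unitCx φ).app P) ≫ (DTen.resFactors φ).inv.app ((DTen.extCx φ).obj P)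

theorem exists_theta {R B : Type u} [CommRing R] [CommRing B] (φ : R →+* B) [DRing.HasLBaseChange φ]
    (adj : DRing.LBaseChange φ ⊣ DRing.restrictD φ) (P : DRing.Cx R) [P.IsKProjective] :
    ∃ θ : DerivedCategory.Q.obj ((DTen.extCx φ).obj P) ⟶ (DRing.LBaseChange φ).obj (DerivedCategory.Q.obj P),
      IsIso θ ∧ uArr φ P ≫ (DRing.restrictD φ).map θ = adj.unit.app (DerivedCategory.Q.obj P) := by
  obtain ⟨θ, hθ⟩ := (DTen43.baseCmp_bijective φ P _).2 (adj.unit.app (DerivedCategory.Q.obj P))
  dsimp only at hθ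
  let η := (adj.homEquiv _ _).symm (uArr φ P)
  have hη : adj.unit.app (DerivedCategory.Q.obj P) ≫ (DRing.restrictD φ).map η = uArr φ P := by
    exact (adj.homEquiv_unit (f := η)).symm.trans (Equiv.apply_symm_apply _ _)
  refine ⟨θ, ⟨η, (DTen43.baseCmp_bijective φ P _).1 ?_, (adj.homEquiv _ _).injective ?_⟩, hθ⟩
  · dsimp only
    rw [Functor.map_comp, ← Category.assoc, hθ, hη, CategoryTheory.Functor.map_id]
    exact (Category.comp_id _).symm
  · rw [adj.homEquiv_unit, adj.homEquiv_unit, Functor.map_comp, ← Category.assoc, hη, hθ,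
      CategoryTheory.Functor.map_id]
    exact (Category.comp_id _).symm

variable (adjρ : DRing.LBaseChange (algebraMap R R') ⊣ DRing.restrictD (algebraMap R R'))
  (adjα : DRing.LBaseChange (algebraMap A A') ⊣ DRing.restrictD (algebraMap A A'))

theorem cmp_natural {K K' : Dual.D A} (f : K ⟶ K') :
    (DRing.LBaseChange (algebraMap R R')).map ((DRing.restrictD (algebraMap R A)).map f) ≫ TrivBC.cmp adjρ adjα h K' =
      TrivBC.cmp adjρ adjα h K ≫ (DRing.restrictD (algebraMap R' A')).map ((DRing.LBaseChange (algebraMap A A')).map f) := by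
  simp only [TrivBC.cmp]
  rw [← adjρ.homEquiv_naturality_left_symm, ← adjρ.homEquiv_naturality_right_symm]
  refine congrArg _ ?_
  rw [← Functor.map_comp_assoc, Category.assoc]
  erw [← (TrivBC.resComm h).hom.naturality ((DRing.LBaseChange (algebraMap A A')).map f)]
  rw [Functor.comp_map, ← Functor.map_comp_assoc]
  exact congrArg (fun t => (DRing.restrictD (algebraMap R A)).map t ≫ _) (adjα.unit.naturality f)

theorem resComm_app (Z : DRing.Cx A') :
    (TrivBC.resComm h).hom.app (DerivedCategory.Q.obj Z) =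
      ((DRing.restrictD (algebraMap R A)).map ((DTen.resFactors (algebraMap A A')).hom.app Z) ≫
        (DTen.resFactors (algebraMap R A)).hom.app ((DTen.resCx (algebraMap A A')).obj Z)) ≫
      (TrivBC.resCommCx h).hom.app Z ≫
      ((DTen.resFactors (algebraMap R R')).inv.app ((DTen.resCx (algebraMap R' A')).obj Z) ≫
        (DRing.restrictD (algebraMap R R')).map ((DTen.resFactors (algebraMap R' A')).inv.app Z)) := by
  letI i₁ := TrivBC.liftingRes₂ (algebraMap A A') (algebraMap R A)
  letI i₂ := TrivBC.liftingRes₂ (algebraMap R' A') (algebraMap R R')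
  simp only [TrivBC.resComm, Localization.liftNatIso_hom]
  refine (Localization.liftNatTrans_app _ _ _ _ _ _ _ Z).trans ?_
  have e : ∀ {B C D : Type u} [CommRing B] [CommRing C] [CommRing D] (g : C →+* D) (f : B →+* C),
      (TrivBC.liftingRes₂ g f).1 = (Functor.associator _ _ _).symm ≪≫
        Functor.isoWhiskerRight (ModuleCat.restrictScalars.{u} g).mapDerivedCategoryFactors _ ≪≫
          Functor.associator _ _ _ ≪≫
            Functor.isoWhiskerLeft _ (ModuleCat.restrictScalars.{u} f).mapDerivedCategoryFactors := fun g f => rfl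
  erw [e, e]
  simp

theorem isIso_cmp (htor : ∀ p : ℕ, 1 ≤ p → Subsingleton (DRing.Tor R p A R')) (K : Dual.D A) :
    IsIso (TrivBC.cmp adjρ adjα h K) := by
  obtain ⟨E, hE, hEf, ⟨eK⟩⟩ := DTen43.exists_kproj K
  haveI := hE
  suffices hc : IsIso (TrivBC.cmp adjρ adjα h (DerivedCategory.Q.obj E)) by
    haveI : IsIso ((DRing.LBaseChange (algebraMap R R')).map ((DRing.restrictD (algebraMap R A)).map eK.hom) ≫
        TrivBC.cmp adjρ adjα h K) := by
      rw [cmp_natural]; infer_instance
    exact IsIso.of_isIso_comp_left ((DRing.LBaseChange (algebraMap R R')).map ((DRing.restrictD (algebraMap R A)).map eK.hom)) _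
  let φ := algebraMap R A
  let ρ := algebraMap R R'
  let α := algebraMap A A'
  let φ' := algebraMap R' A'
  let P := SF.res ((DTen.resCx φ).obj E)
  let p : P ⟶ (DTen.resCx φ).obj E := SF.aug _
  obtain ⟨θα, hθα, hα⟩ := exists_theta α adjα E
  obtain ⟨θρ, hθρ, hρ⟩ := exists_theta ρ adjρ P
  let e : DerivedCategory.Q.obj P ⟶ (DRing.restrictD φ).obj (DerivedCategory.Q.obj E) :=
    DerivedCategory.Q.map p ≫ (DTen.resFactors φ).inv.app E
  haveI : IsIso (DerivedCategory.Q.map p) := DTen43.isIso_Q_map p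
  haveI : IsIso e := IsIso.comp_isIso' inferInstance inferInstance
  let g := (DTen.extCx ρ).map p ≫ (DTen.sqτ φ ρ φ' α h).app E
  haveI : QuasiIso g := by
    haveI := quasiIso_extCx_of_res htor (DTen43.kflat_res _) (isKFlat_of_isKProjective (P := E)) p (R' := R')
    haveI := isIso_sqτ h E
    exact quasiIso_comp (φ := (DTen.extCx ρ).map p) (φ' := (DTen.sqτ φ ρ φ' α h).app E)
  let w₀ : DerivedCategory.Q.obj ((DTen.extCx ρ).obj P) ⟶
      (DRing.restrictD φ').obj (DerivedCategory.Q.obj ((DTen.extCx α).obj E)) :=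
    DerivedCategory.Q.map g ≫ (DTen.resFactors φ').inv.app ((DTen.extCx α).obj E)
  haveI : IsIso w₀ := IsIso.comp_isIso' (DTen43.isIso_Q_map g) inferInstance
  have key : uArr ρ P ≫ (DRing.restrictD ρ).map w₀ =
      e ≫ (DRing.restrictD φ).map (uArr α E) ≫ (TrivBC.resComm h).hom.app (DerivedCategory.Q.obj ((DTen.extCx α).obj E)) := by
    rw [resComm_app]
    have hg : (DTen.unitCx ρ).app P ≫ (DTen.resCx ρ).map g =
        p ≫ (DTen.resCx φ).map ((DTen.unitCx α).app E) ≫
          (Functor.mapHomologicalComplexCompIso (TrivBC.resCommMod h) (ComplexShape.up ℤ) ≪≫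
            (Functor.mapHomologicalComplexCompIso
              (Iso.refl (ModuleCat.restrictScalars.{u} φ' ⋙ ModuleCat.restrictScalars.{u} ρ)) (ComplexShape.up ℤ)).symm).hom.app
            ((DTen.extCx α).obj E) := by
      simp only [g, Functor.map_comp]
      erw [← (DTen.unitCx ρ).naturality_assoc p]
      exact congrArg (p ≫ ·) (unit_sqτ φ ρ φ' α h E)
    have n1 := (DTen.resFactors φ).inv.naturality ((DTen.unitCx α).app E)
    have n2 := (DTen.resFactors ρ).inv.naturality g
    simp only [Functor.comp_map] at n1 n2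
    simp only [uArr, w₀, e, Functor.map_comp, Category.assoc]
    rw [← reassoc_of% n2, ← Functor.map_comp_assoc, hg, Functor.map_comp_assoc]
    have n3 : ∀ {X : Dual.D R} (t : (DRing.restrictD φ).obj (DerivedCategory.Q.obj
        ((DTen.resCx α).obj ((DTen.extCx α).obj E))) ⟶ X),
        (DRing.restrictD φ).map ((DTen.resFactors α).inv.app ((DTen.extCx α).obj E)) ≫
          (DRing.restrictD φ).map ((DTen.resFactors α).hom.app ((DTen.extCx α).obj E)) ≫ t = t := fun t => by
      rw [← Functor.map_comp_assoc, Iso.inv_hom_id_app, CategoryTheory.Functor.map_id]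
      exact Category.id_comp t
    erw [n3]
    rw [← reassoc_of% n1, Iso.inv_hom_id_app_assoc, Functor.map_comp_assoc]
    rfl
  have hw : θρ ≫ (DRing.LBaseChange ρ).map e ≫ TrivBC.cmp adjρ adjα h (DerivedCategory.Q.obj E) =
      w₀ ≫ (DRing.restrictD φ').map θα := by
    refine (DTen43.baseCmp_bijective ρ P _).1 (Eq.symm ?_)
    let C := (TrivBC.resComm h).hom
    calc uArr ρ P ≫ (DRing.restrictD ρ).map (w₀ ≫ (DRing.restrictD φ').map θα)
        = (uArr ρ P ≫ (DRing.restrictD ρ).map w₀) ≫ (DRing.restrictD ρ).map ((DRing.restrictD φ').map θα) :=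
          (congrArg (uArr ρ P ≫ ·) (Functor.map_comp _ _ _)).trans (Category.assoc _ _ _).symm
      _ = (e ≫ (DRing.restrictD φ).map (uArr α E) ≫ C.app _) ≫
          (DRing.restrictD ρ).map ((DRing.restrictD φ').map θα) := congrArg (· ≫ _) key
      _ = e ≫ (DRing.restrictD φ).map (uArr α E) ≫ (DRing.restrictD φ).map ((DRing.restrictD α).map θα) ≫ C.app _ :=
          (Category.assoc _ _ _).trans (congrArg (e ≫ ·) ((Category.assoc _ _ _).trans
            (congrArg ((DRing.restrictD φ).map (uArr α E) ≫ ·) (C.naturality θα).symm)))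
      _ = e ≫ (DRing.restrictD φ).map (adjα.unit.app (DerivedCategory.Q.obj E)) ≫ C.app _ := by
          rw [← Functor.map_comp_assoc, hα]
      _ = e ≫ adjρ.unit.app _ ≫ (DRing.restrictD ρ).map (TrivBC.cmp adjρ adjα h (DerivedCategory.Q.obj E)) :=
          congrArg (e ≫ ·) (((adjρ.homEquiv _ _).apply_symm_apply _).symm.trans (adjρ.homEquiv_unit _ _ _))
      _ = adjρ.unit.app (DerivedCategory.Q.obj P) ≫ (DRing.restrictD ρ).map ((DRing.LBaseChange ρ).map e) ≫
          (DRing.restrictD ρ).map (TrivBC.cmp adjρ adjα h (DerivedCategory.Q.obj E)) :=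
          adjρ.unit.naturality_assoc e _
      _ = uArr ρ P ≫ (DRing.restrictD ρ).map (θρ ≫ (DRing.LBaseChange ρ).map e ≫
          TrivBC.cmp adjρ adjα h (DerivedCategory.Q.obj E)) := by
          refine (congrArg (· ≫ ((DRing.restrictD ρ).map ((DRing.LBaseChange ρ).map e) ≫
            (DRing.restrictD ρ).map (TrivBC.cmp adjρ adjα h (DerivedCategory.Q.obj E)))) hρ.symm).trans ?_
          exact (Category.assoc _ _ _).trans (congrArg (uArr ρ P ≫ ·)
            ((Functor.map_comp (DRing.restrictD ρ) θρ _).trans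
              (congrArg (fun t => (DRing.restrictD ρ).map θρ ≫ t) (Functor.map_comp (DRing.restrictD ρ) _ _))).symm)
  haveI := hθα
  haveI := hθρ
  haveI : IsIso (θρ ≫ (DRing.LBaseChange ρ).map e ≫ TrivBC.cmp adjρ adjα h (DerivedCategory.Q.obj E)) := by
    rw [hw]; infer_instance
  haveI : IsIso ((DRing.LBaseChange ρ).map e ≫ TrivBC.cmp adjρ adjα h (DerivedCategory.Q.obj E)) :=
    IsIso.of_isIso_comp_left θρ _
  exact IsIso.of_isIso_comp_left ((DRing.LBaseChange ρ).map e) _

end Square

end Groth.Agent.DR40
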