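import Groth.Agent.DR40.TriFun

/-! `RHom(K, -)` is exact and preserves completeness. -/

set_option autoImplicit false
set_option linter.style.haveILetI false
set_option linter.unusedSectionVars false

universe u

open CategoryTheory CategoryTheory.Limits CategoryTheory.Pretriangulated CochainComplex.HomComplex

attribute [local instance] HasDerivedCategory.standard

namespace Groth.Agent.DR40

open Groth.Agent.DR39

variable {A : Type u} [CommRing A]

theorem isKInjective_cone {X Y : DRing.Cx A} (f : X ⟶ Y) [X.IsKInjective] [Y.IsKInjective] :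
    (CochainComplex.mappingCone f).IsKInjective := by
  rw [CochainComplex.isKInjective_iff_rightOrthogonal]
  exact ObjectProperty.ext_of_isTriangulatedClosed₃ _ _
    (HomotopyCategory.mappingCone_triangleh_distinguished f)
    (CochainComplex.IsKInjective.rightOrthogonal X) (CochainComplex.IsKInjective.rightOrthogonal Y)

/-- The unit of `RHom(K, -)`. -/
noncomputable abbrev homCxUnit (K : DRing.Cx A) [DRing.HasRHomCx K] :
    DRing.homCxQ K ⟶ DerivedCategory.Q ⋙ DRing.RHomCx K :=
  (DRing.homCxQ K).totalRightDerivedUnit DerivedCategory.Q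
    (HomologicalComplex.quasiIso (ModuleCat.{u} A) (ComplexShape.up ℤ))

theorem isIso_homCxUnit (K : DRing.Cx A) [DRing.HasRHomCx K] (P : DRing.Cx A) (h : P.IsKInjective) :
    IsIso ((homCxUnit K).app P) :=
  (homCxDeformation K).isIso_unit (HomologicalComplex.quasiIso _ _) (homCxUnit K) (X := P) h

theorem exists_kinj_rep (X : Dual.D A) :
    ∃ P : DRing.Cx A, P.IsKInjective ∧ Nonempty ((QA A).obj P ≅ X) := by
  obtain ⟨L, ⟨e⟩⟩ := exists_complex_iso X
  obtain ⟨I, i, hI, hi, -⟩ := CohDer42.exists_kinjective_resolution L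
  haveI := hi
  haveI := (DerivedCategory.isIso_Q_map_iff_quasiIso (ModuleCat.{u} A) i).2 inferInstance
  exact ⟨I, hI, ⟨(asIso (DerivedCategory.Q.map i)).symm ≪≫ e⟩⟩

theorem homCxMap_smul (K : DRing.Cx A) (f : A) (L : DRing.Cx A) :
    DRing.homCxMap K (f • 𝟙 L) = f • 𝟙 (DRing.homCx K L) := by
  refine HomologicalComplex.hom_ext _ _ fun i => ModuleCat.hom_ext (LinearMap.ext fun (z : Cochain K L i) => ?_)
  show z.comp (Cochain.ofHom (f • 𝟙 L)) (add_zero i) = f • z
  ext p q hpq
  simp [Linear.comp_smul]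

theorem homCxMap_comp_zero (K : DRing.Cx A) (S : ShortComplex (DRing.Cx A)) :
    (DRing.homCxFunctor K).map S.f ≫ (DRing.homCxFunctor K).map S.g = 0 := by
  rw [← Functor.map_comp, S.zero]
  refine HomologicalComplex.hom_ext _ _ fun i => ModuleCat.hom_ext (LinearMap.ext fun (z : Cochain K S.X₁ i) => ?_)
  show z.comp (Cochain.ofHom (0 : S.X₁ ⟶ S.X₃)) (add_zero i) = 0
  simp

theorem shortExact_homCx (K : DRing.Cx A) (S : ShortComplex (DRing.Cx A))
    (σ : ∀ i, (S.map (HomologicalComplex.eval (ModuleCat.{u} A) (ComplexShape.up ℤ) i)).Splitting) :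
    (ShortComplex.mk ((DRing.homCxFunctor K).map S.f) ((DRing.homCxFunctor K).map S.g)
      (homCxMap_comp_zero K S)).ShortExact := by
  refine HomologicalComplex.shortExact_of_degreewise_shortExact _ fun n => ?_
  let r : Cochain S.X₂ S.X₁ 0 := Cochain.ofHoms fun i => (σ i).r
  let s : Cochain S.X₃ S.X₂ 0 := Cochain.ofHoms fun i => (σ i).s
  have hfr : (Cochain.ofHom S.f).comp r (zero_add 0) = Cochain.ofHom (𝟙 S.X₁) := by
    ext p x
    simp [r]
    exact congrArg (fun t : S.X₁.X p ⟶ S.X₁.X p => t.hom x) (σ p).f_r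
  have hsg : s.comp (Cochain.ofHom S.g) (add_zero 0) = Cochain.ofHom (𝟙 S.X₃) := by
    ext p x
    simp [s]
    exact congrArg (fun t : S.X₃.X p ⟶ S.X₃.X p => t.hom x) (σ p).s_g
  have hid : r.comp (Cochain.ofHom S.f) (add_zero 0) + (Cochain.ofHom S.g).comp s (zero_add 0) =
      Cochain.ofHom (𝟙 S.X₂) := by
    ext p x
    simp [r, s]
    exact congrArg (fun t : S.X₂.X p ⟶ S.X₂.X p => t.hom x) (σ p).id
  refine ShortComplex.Splitting.shortExact
    { r := ModuleCat.ofHom (X := Cochain K S.X₂ n) (Y := Cochain K S.X₁ n)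
        { toFun := fun z => z.comp r (add_zero n)
          map_add' := fun z z' => by simp
          map_smul' := fun a z => by simp }
      s := ModuleCat.ofHom (X := Cochain K S.X₃ n) (Y := Cochain K S.X₂ n)
        { toFun := fun z => z.comp s (add_zero n)
          map_add' := fun z z' => by simp
          map_smul' := fun a z => by simp }
      f_r := ?_, s_g := ?_, id := ?_ }
  · refine ModuleCat.hom_ext (LinearMap.ext fun (z : Cochain K S.X₁ n) => ?_)
    show (z.comp (Cochain.ofHom S.f) (add_zero n)).comp r (add_zero n) = z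
    rw [Cochain.comp_assoc_of_third_is_zero_cochain, hfr, Cochain.comp_id]
  · refine ModuleCat.hom_ext (LinearMap.ext fun (z : Cochain K S.X₃ n) => ?_)
    show (z.comp s (add_zero n)).comp (Cochain.ofHom S.g) (add_zero n) = z
    rw [Cochain.comp_assoc_of_third_is_zero_cochain, hsg, Cochain.comp_id]
  · refine ModuleCat.hom_ext (LinearMap.ext fun (z : Cochain K S.X₂ n) => ?_)
    show (z.comp r (add_zero n)).comp (Cochain.ofHom S.f) (add_zero n) +
      (z.comp (Cochain.ofHom S.g) (add_zero n)).comp s (add_zero n) = z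
    rw [Cochain.comp_assoc_of_third_is_zero_cochain, Cochain.comp_assoc_of_third_is_zero_cochain,
      ← Cochain.comp_add, hid, Cochain.comp_id]

/-- `RHom(K, -)` is computed on K-injective complexes. -/
noncomputable def rhomModel (K : DRing.Cx A) [DRing.HasRHomCx K] :
    Model (DRing.homCxFunctor K) (DRing.RHomCx K) where
  cls P := P.IsKInjective
  cls_equiv h hX := by
    haveI := hX
    exact h.isKInjective
  res := exists_kinj_rep
  surj P P' _ hP' := by
    haveI := hP'
    exact Q_map_surjective_of_kinj P P'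
  cone f hX hY := by
    haveI := hX
    haveI := hY
    exact isKInjective_cone f
  app P hP := @asIso _ _ _ _ ((homCxUnit K).app P) (isIso_homCxUnit K P hP)
  nat _ _ f := (homCxUnit K).naturality f
  zero := homCxMap_comp_zero K
  split := shortExact_homCx K
  smul f P := homCxMap_smul K f P

theorem equivHomShift_symm_smul (K I : DRing.Cx A) (n : ℤ) (a : A) (z w : Cocycle K I n)
    (h : w.1 = a • z.1) : Cocycle.equivHomShift.symm w = a • Cocycle.equivHomShift.symm z := by
  obtain ⟨g, rfl⟩ := Cocycle.equivHomShift.surjective z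
  rw [AddEquiv.symm_apply_apply, AddEquiv.symm_apply_eq]
  refine Subtype.ext (h.trans ?_)
  ext p q hpq
  simp [Cocycle.equivHomShift_apply, Cochain.rightUnshift_v _ _ _ _ _ _ _ (add_zero p),
    ModuleCat.hom_smul]
  exact (map_smul (HomologicalComplex.XIsoOfEq I _).hom.hom a _).symm

theorem nonempty_homology_homCx_equiv (K I : DRing.Cx A) [I.IsKInjective] (n : ℤ) :
    Nonempty ((DRing.homCx K I).homology n ≃ₗ[A] ((QA A).obj K ⟶ (QA A).obj (I⟦n⟧))) := by
  let φ : Zd (DRing.homCx K I) n →ₗ[A] ((QA A).obj K ⟶ (QA A).obj (I⟦n⟧)) :=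
    { toFun := fun x => (QA A).map (Cocycle.equivHomShift.symm
        (⟨x.1, (Cocycle.mem_iff n (n + 1) rfl _).2 x.2⟩ : Cocycle K I n))
      map_add' := fun x y => by
        show DerivedCategory.Q.map _ = DerivedCategory.Q.map _ + DerivedCategory.Q.map _
        rw [← Functor.map_add, ← map_add]
        rfl
      map_smul' := fun a x => by
        show DerivedCategory.Q.map _ = a • DerivedCategory.Q.map _
        rw [← Functor.map_smul]
        exact congrArg _ (equivHomShift_symm_smul K I n a _ _ rfl) }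
  have hφ : Function.Surjective φ := fun u => by
    obtain ⟨g, rfl⟩ := Q_map_surjective_of_kinj K (I⟦n⟧) u
    refine ⟨⟨(Cocycle.equivHomShift g).1, Cocycle.δ_eq_zero _ (n + 1)⟩, ?_⟩
    show DerivedCategory.Q.map (Cocycle.equivHomShift.symm (Cocycle.equivHomShift g)) = _
    rw [AddEquiv.symm_apply_apply]
  have hk : LinearMap.ker (hcls (DRing.homCx K I) n) = LinearMap.ker φ := by
    ext x
    rw [LinearMap.mem_ker, LinearMap.mem_ker, hcls_eq_zero_iff]
    let z : Cocycle K I n := ⟨x.1, (Cocycle.mem_iff n (n + 1) rfl _).2 x.2⟩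
    show _ ↔ DerivedCategory.Q.map (Cocycle.equivHomShift.symm z) = 0
    rw [← Functor.map_zero (DerivedCategory.Q (C := ModuleCat.{u} A)), Q_map_eq_iff_of_kinj,
      ← HomotopyCategory.quotient_map_eq_zero_iff, ← CohomologyClass.toHom_mk,
      CohomologyClass.toHom_mk_eq_zero_iff, mem_coboundaries_iff _ (n - 1) (by omega)]
    exact Iff.rfl
  exact ⟨((LinearMap.quotKerEquivOfSurjective _ (hcls_surjective (DRing.homCx K I) n)).symm.trans
    (Submodule.quotEquivOfEq _ _ hk)).trans (LinearMap.quotKerEquivOfSurjective φ hφ)⟩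

theorem compD_RHomCx (K : DRing.Cx A) [DRing.HasRHomCx K] (g : A) (X : Dual.D A) (h : CompD g X) :
    CompD g ((DRing.RHomCx K).obj X) := by
  obtain ⟨P, hP, ⟨e⟩⟩ := exists_kinj_rep X
  haveI := hP
  haveI := isIso_homCxUnit K P hP
  refine CompD.of_iso (fun n => ?_)
    (asIso ((homCxUnit K).app P) ≪≫ (DRing.RHomCx K).mapIso e)
  obtain ⟨l⟩ := nonempty_homology_homCx_equiv K P n
  refine DCM.comp_equiv ((HQIso (DRing.homCx K P) n).toLinearEquiv.trans l).symm ?_
  exact comp_hom g _ _ (((h.of_iso e.symm).shift n).of_iso (((QA A).commShiftIso n).symm.app P))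

theorem dc_RHomCx (K : DRing.Cx A) [DRing.HasRHomCx K] {I : Ideal A} {X : Dual.D A}
    (h : DRing.IsDerivedComplete I X) : DRing.IsDerivedComplete I ((DRing.RHomCx K).obj X) :=
  (dc_iff I _).2 fun g hg => compD_RHomCx K g X ((dc_iff I X).1 h g hg)

end Groth.Agent.DR40
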