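import Groth.Agent.DR39.EvalZero
import Groth.Agent.DR39.Perf
import Groth.Agent.DR39.BC
import Groth.Agent.FCx40.Acyclic
import Mathlib.RingTheory.Spectrum.Prime.FreeLocus
import Mathlib.RingTheory.Localization.Free
import Mathlib.Data.Int.Interval

/-! Complexes that agree in the derived category agree up to trivial summands. -/

set_option autoImplicit false
set_option linter.style.haveILetI false
set_option linter.unusedSectionVars false

universe u

open CategoryTheory CategoryTheory.Limits HomologicalComplex CochainComplex CochainComplex.HomComplex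
open scoped TensorProduct
attribute [local instance] HasDerivedCategory.standard

namespace Groth.Agent.DR40

open Groth.Agent.DR39

variable {R : Type u} [CommRing R]

theorem cone_finiteProjective {M N : DRing.Cx R} (g : M ⟶ N) (hM : DRing.TermwiseFiniteProjective M)
    (hN : DRing.TermwiseFiniteProjective N) : DRing.TermwiseFiniteProjective (mappingCone g) := by
  intro i
  haveI := (hM (i + 1)).1; haveI := (hM (i + 1)).2; haveI := (hN i).1; haveI := (hN i).2
  let e : (mappingCone g).X i ≅ ModuleCat.of R ((M.X (i + 1) : Type u) × (N.X i : Type u)) :=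
    (HomologicalComplex.homotopyCofiber.XIsoBiprod g i (i + 1) rfl) ≪≫ ModuleCat.biprodIsoProd _ _
  exact ⟨Module.Finite.equiv e.toLinearEquiv.symm, Module.Projective.of_equiv e.toLinearEquiv.symm⟩

theorem cone_vanishesOutside {M N : DRing.Cx R} (g : M ⟶ N) {a b : ℤ} (hM : DRing.VanishesOutside M a b)
    (hN : DRing.VanishesOutside N a b) : DRing.VanishesOutside (mappingCone g) (a - 1) b := fun i hi =>
  (mappingCone.isZero_X_iff g i).2 ⟨hM (i + 1) (by omega), hN i (by omega)⟩

theorem cone_contractible {M N : DRing.Cx R} (g : M ⟶ N) [M.IsKProjective] [N.IsKProjective] [QuasiIso g] :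
    Nonempty (Homotopy (𝟙 (mappingCone g)) 0) := by
  haveI := isKProjective_cone g
  refine CochainComplex.IsKProjective.nonempty_homotopy_zero (𝟙 (mappingCone g)) fun i => ?_
  exact (HomologicalComplex.exactAt_iff_isZero_homology _ _).2 ((FCx40.quasiIso_iff_cone g).1 inferInstance i)

/-- `M ⊕ C(g) ≅ N ⊕ C(id)`. -/
theorem biprod_cone_iso {M N : DRing.Cx R} (g : M ⟶ N) (g' : N ⟶ M) (H : Homotopy (g ≫ g') (𝟙 M)) :
    Nonempty (M ⊞ mappingCone g ≅ N ⊞ mappingCone (𝟙 M)) := by
  let u : mappingCone (𝟙 M) ⟶ mappingCone g :=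
    mappingCone.desc (𝟙 M) (mappingCone.inl g) (g ≫ mappingCone.inr g) (by simp)
  obtain ⟨α, hα⟩ := Cochain.equivHomotopy _ _ H
  let r₂ : mappingCone (𝟙 M) ⟶ M := mappingCone.desc (𝟙 M) (-α) (𝟙 M - g ≫ g') (by
    rw [δ_neg, Category.id_comp, Cochain.ofHom_sub, hα]
    abel)
  let f : M ⟶ N ⊞ mappingCone (𝟙 M) := biprod.lift g (mappingCone.inr (𝟙 M))
  let j : N ⊞ mappingCone (𝟙 M) ⟶ mappingCone g := biprod.desc (mappingCone.inr g) (-u)
  have hu : mappingCone.inr (𝟙 M) ≫ u = g ≫ mappingCone.inr g := mappingCone.inr_desc _ _ _ _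
  have hfj : f ≫ j = 0 := by
    simp [f, j, hu]
  let S : ShortComplex (DRing.Cx R) := ShortComplex.mk f j hfj
  let r : N ⊞ mappingCone (𝟙 M) ⟶ M := biprod.desc g' r₂
  have hfr : S.f ≫ r = 𝟙 M := by
    show biprod.lift g (mappingCone.inr (𝟙 M)) ≫ biprod.desc g' r₂ = 𝟙 M
    rw [biprod.lift_desc, mappingCone.inr_desc]
    abel
  let rn : ∀ n, (N ⊞ mappingCone (𝟙 M)).X n ⟶ M.X n := fun n =>
    (biprod.snd : N ⊞ mappingCone (𝟙 M) ⟶ _).f n ≫ (mappingCone.snd (𝟙 M)).v n n (add_zero n)
  let sn : ∀ n, (mappingCone g).X n ⟶ (N ⊞ mappingCone (𝟙 M)).X n := fun n =>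
    (mappingCone.snd g).v n n (add_zero n) ≫ (biprod.inl : N ⟶ N ⊞ mappingCone (𝟙 M)).f n -
      (mappingCone.fst g).1.v n (n + 1) rfl ≫ (mappingCone.inl (𝟙 M)).v (n + 1) n (by omega) ≫
        (biprod.inr : mappingCone (𝟙 M) ⟶ N ⊞ mappingCone (𝟙 M)).f n
  have h1 : ∀ n, f.f n ≫ rn n = 𝟙 _ := fun n => by
    simp only [rn]
    rw [← HomologicalComplex.comp_f_assoc, biprod.lift_snd, mappingCone.inr_f_snd_v]
  have h2 : ∀ n, sn n ≫ j.f n = 𝟙 _ := fun n => by
    simp only [sn, Preadditive.sub_comp, Category.assoc, j]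
    rw [← HomologicalComplex.comp_f, ← HomologicalComplex.comp_f, biprod.inl_desc, biprod.inr_desc,
      HomologicalComplex.neg_f_apply, Preadditive.comp_neg, Preadditive.comp_neg, sub_neg_eq_add]
    erw [mappingCone.inl_v_desc_f]
    rw [add_comm]
    exact mappingCone.id_X g n (n + 1) rfl
  have h3 : ∀ n, rn n ≫ f.f n + j.f n ≫ sn n = 𝟙 _ := fun n => by
    have e3 : u.f n ≫ (mappingCone.fst g).1.v n (n + 1) rfl = (mappingCone.fst (𝟙 M)).1.v n (n + 1) rfl := by
      simp [u, mappingCone.ext_from_iff (𝟙 M) (n + 1) n rfl]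
    have e4 : u.f n ≫ (mappingCone.snd g).v n n (add_zero n) = (mappingCone.snd (𝟙 M)).v n n (add_zero n) ≫ g.f n := by
      simp [u, mappingCone.ext_from_iff (𝟙 M) (n + 1) n rfl]
    have fl : f = g ≫ biprod.inl + mappingCone.inr (𝟙 M) ≫ biprod.inr := biprod.lift_eq
    have jd : j = biprod.fst ≫ mappingCone.inr g + biprod.snd ≫ (-u) := biprod.desc_eq
    have e1 : (biprod.fst : N ⊞ mappingCone (𝟙 M) ⟶ N).f n ≫ (biprod.inl : N ⟶ N ⊞ mappingCone (𝟙 M)).f n +
        (biprod.snd : N ⊞ mappingCone (𝟙 M) ⟶ _).f n ≫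
          ((mappingCone.fst (𝟙 M)).1.v n (n + 1) rfl ≫ (mappingCone.inl (𝟙 M)).v (n + 1) n (by omega) +
            (mappingCone.snd (𝟙 M)).v n n (add_zero n) ≫ (mappingCone.inr (𝟙 M)).f n) ≫
          (biprod.inr : mappingCone (𝟙 M) ⟶ N ⊞ mappingCone (𝟙 M)).f n = 𝟙 _ := by
      rw [mappingCone.id_X, Category.id_comp, ← HomologicalComplex.comp_f, ← HomologicalComplex.comp_f,
        ← HomologicalComplex.add_f_apply, biprod.total, HomologicalComplex.id_f]
    refine Eq.trans ?_ e1
    simp only [rn, sn, fl, jd, HomologicalComplex.add_f_apply, HomologicalComplex.comp_f, HomologicalComplex.neg_f_apply,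
      Preadditive.add_comp, Preadditive.comp_add, Preadditive.comp_sub, Preadditive.neg_comp,
      Preadditive.comp_neg, Category.assoc, reassoc_of% e3, reassoc_of% e4, mappingCone.inr_f_snd_v_assoc,
      mappingCone.inr_f_fst_v_assoc, zero_comp, comp_zero]
    abel
  have hdeg : ∀ n, (S.map (eval (ModuleCat.{u} R) (ComplexShape.up ℤ) n)).Splitting := fun n =>
    { r := rn n, s := sn n, f_r := h1 n, s_g := h2 n, id := h3 n }
  have hS : S.ShortExact := HomologicalComplex.shortExact_of_degreewise_shortExact S fun n => (hdeg n).shortExact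
  haveI := hS.epi_g
  exact ⟨((ShortComplex.Splitting.ofExactOfRetraction S hS.exact r hfr inferInstance).isoBinaryBiproduct).symm⟩

theorem finite_projective_range {D : DRing.Cx R} (hD : DRing.TermwiseFiniteProjective D)
    (H : Homotopy (𝟙 D) 0) (i : ℤ) :
    Module.Finite R (LinearMap.range (D.d i (i + 1)).hom) ∧ Module.Projective R (LinearMap.range (D.d i (i + 1)).hom) ∧
      ∃ ρ : D.X (i + 1) →ₗ[R] LinearMap.range (D.d i (i + 1)).hom,
        ρ ∘ₗ (LinearMap.range (D.d i (i + 1)).hom).subtype = LinearMap.id := by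
  haveI := (hD i).1; haveI := (hD (i + 1)).2
  let ρ : D.X (i + 1) →ₗ[R] LinearMap.range (D.d i (i + 1)).hom := (D.d i (i + 1)).hom.rangeRestrict ∘ₗ (H.hom (i + 1) i).hom
  have hρ : ρ ∘ₗ (LinearMap.range (D.d i (i + 1)).hom).subtype = LinearMap.id := by
    refine LinearMap.ext fun z => Subtype.ext ?_
    obtain ⟨x, hx⟩ := z.2
    show (D.d i (i + 1)).hom ((H.hom (i + 1) i).hom z.1) = z.1
    have e := H.comm (i + 1)
    rw [dNext_eq _ (show (ComplexShape.up ℤ).Rel (i + 1) (i + 1 + 1) by simp),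
      prevD_eq _ (show (ComplexShape.up ℤ).Rel i (i + 1) by simp)] at e
    have e' := LinearMap.congr_fun (congrArg ModuleCat.Hom.hom e) z.1
    simp only [HomologicalComplex.id_f, HomologicalComplex.zero_f, ModuleCat.hom_add, LinearMap.add_apply,
      ModuleCat.hom_comp, LinearMap.comp_apply, ModuleCat.hom_id, LinearMap.id_apply,
      add_zero] at e'
    rw [← hx, d_apply_d, map_zero, zero_add, hx] at e'
    exact e'.symm
  exact ⟨inferInstance, Module.Projective.of_split _ ρ hρ, ρ, hρ⟩

theorem exists_free_away (p : Ideal R) [p.IsPrime] (M : Type u) [AddCommGroup M] [Module R M]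
    [Module.Finite R M] [Module.Projective R M] :
    ∃ r : R, r ∉ p ∧ Module.Free (Localization.Away r) (Localization.Away r ⊗[R] M) := by
  haveI : Module.FinitePresentation R M := Module.finitePresentation_of_projective R M
  haveI : Module.Free (Localization.AtPrime p) (LocalizedModule p.primeCompl M) := by
    have := Module.freeLocus_eq_univ (R := R) (M := M)
    exact (Set.eq_univ_iff_forall.1 this ⟨p, inferInstance⟩ :)
  obtain ⟨r, hr, hfree, -⟩ := Module.FinitePresentation.exists_free_localizedModule_powers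
    p.primeCompl (LocalizedModule.mkLinearMap p.primeCompl M) (Localization.AtPrime p)
  exact ⟨r, hr, Module.Free.of_equiv (LocalizedModule.equivTensorProduct (Submonoid.powers r) M)⟩

theorem free_away_of_dvd {r f : R} (hrf : r ∣ f) (M : Type u) [AddCommGroup M] [Module R M]
    (h : Module.Free (Localization.Away r) (Localization.Away r ⊗[R] M)) :
    Module.Free (Localization.Away f) (Localization.Away f ⊗[R] M) := by
  obtain ⟨c, rfl⟩ := hrf
  let φ : Localization.Away r →+* Localization.Away (r * c) := IsLocalization.Away.awayToAwayRight r c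
  letI := φ.toAlgebra
  haveI : IsScalarTower R (Localization.Away r) (Localization.Away (r * c)) :=
    IsScalarTower.of_algebraMap_eq fun a => (IsLocalization.Away.awayToAwayRight_eq r c a).symm
  haveI := h
  exact Module.Free.of_equiv (TensorProduct.AlgebraTensorModule.cancelBaseChange R (Localization.Away r)
    (Localization.Away (r * c)) (Localization.Away (r * c)) M)

theorem free_extA_of_free {B : Type u} [CommRing B] [Algebra R B] (M : ModuleCat.{u} R)
    (h : Module.Free B (B ⊗[R] M)) : Module.Free B ((extA R B).obj M) := by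
  obtain ⟨e⟩ := ext_tensorIso B M
  haveI := h
  exact Module.Free.of_equiv e.toLinearEquiv.symm

theorem finite_extA {B : Type u} [CommRing B] [Algebra R B] (M : ModuleCat.{u} R)
    (h : Module.Finite R M) : Module.Finite B ((extA R B).obj M) := by
  obtain ⟨e⟩ := ext_tensorIso B M
  haveI := h
  exact Module.Finite.equiv e.toLinearEquiv.symm

theorem trivial_ext {B : Type u} [CommRing B] [Algebra R B] {D : DRing.Cx R} {a b : ℤ}
    (hv : DRing.VanishesOutside D a b) (hD : DRing.TermwiseFiniteProjective D) (H : Homotopy (𝟙 D) 0)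
    (hfree : ∀ i, Module.Free B (B ⊗[R] (D.X i : Type u)))
    (hB : ∀ i, Module.Free B (B ⊗[R] LinearMap.range (D.d i (i + 1)).hom)) :
    (∃ a' b' : ℤ, DRing.VanishesOutside (((extA R B).mapHomologicalComplex (ComplexShape.up ℤ)).obj D) a' b') ∧
      DRing.TermwiseFiniteFree (((extA R B).mapHomologicalComplex (ComplexShape.up ℤ)).obj D) ∧
      (∀ i : ℤ, Module.Free B (LinearMap.range ((((extA R B).mapHomologicalComplex (ComplexShape.up ℤ)).obj D).d i (i + 1)).hom)) ∧
      Nonempty (Homotopy (𝟙 (((extA R B).mapHomologicalComplex (ComplexShape.up ℤ)).obj D)) 0) := by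
  let F := extA R B
  let G := F.mapHomologicalComplex (ComplexShape.up ℤ)
  refine ⟨⟨a, b, fun i hi => F.map_isZero (hv i hi)⟩,
    fun i => ⟨finite_extA _ (hD i).1, free_extA_of_free _ (hfree i)⟩, fun i => ?_,
    ⟨(Homotopy.ofEq (G.map_id D).symm).trans ((F.mapHomotopy H).trans (Homotopy.ofEq (G.map_zero _ _)))⟩⟩
  obtain ⟨-, -, ρ, hρ⟩ := finite_projective_range hD H i
  let d := (D.d i (i + 1)).hom
  let π : D.X i ⟶ ModuleCat.of R (LinearMap.range d) := ModuleCat.ofHom d.rangeRestrict
  let ι : ModuleCat.of R (LinearMap.range d) ⟶ D.X (i + 1) := ModuleCat.ofHom (LinearMap.range d).subtype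
  let ρ' : D.X (i + 1) ⟶ ModuleCat.of R (LinearMap.range d) := ModuleCat.ofHom ρ
  have hπι : π ≫ ι = D.d i (i + 1) := rfl
  have hιρ : ι ≫ ρ' = 𝟙 _ := ModuleCat.hom_ext hρ
  haveI : Epi π := (ModuleCat.epi_iff_surjective π).2 d.surjective_rangeRestrict
  haveI : F.IsLeftAdjoint := (ModuleCat.extendRestrictScalarsAdj.{u, u, u} (algebraMap R B)).isLeftAdjoint
  have hsurj : Function.Surjective (F.map π).hom := (ModuleCat.epi_iff_surjective _).1 inferInstance
  have hinj : Function.Injective (F.map ι).hom := fun x y hxy => by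
    have e : F.map ι ≫ F.map ρ' = 𝟙 _ := by rw [← F.map_comp, hιρ, F.map_id]
    have := congrArg (F.map ρ').hom hxy
    rwa [← LinearMap.comp_apply, ← LinearMap.comp_apply, ← ModuleCat.hom_comp, e] at this
  have hr : LinearMap.range (((G.obj D).d i (i + 1)).hom) = LinearMap.range (F.map ι).hom := by
    show LinearMap.range (F.map (D.d i (i + 1))).hom = _
    rw [← hπι, F.map_comp, ModuleCat.hom_comp]
    exact LinearMap.range_comp_of_range_eq_top _ (LinearMap.range_eq_top.2 hsurj)
  haveI := free_extA_of_free (ModuleCat.of R (LinearMap.range d)) (hB i)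
  exact Module.Free.of_equiv ((LinearEquiv.ofInjective (F.map ι).hom hinj).trans (LinearEquiv.ofEq _ _ hr.symm))

theorem exists_away_stable_iso (p : Ideal R) [p.IsPrime] (M N : DRing.Cx R) (a b : ℤ)
    (hM : DRing.VanishesOutside M a b) (hN : DRing.VanishesOutside N a b)
    (hMp : DRing.TermwiseFiniteProjective M) (hNp : DRing.TermwiseFiniteProjective N)
    (h : Nonempty (DRing.toD M ≅ DRing.toD N)) :
    ∃ f : R, f ∉ p ∧ ∃ P Q : DRing.Cx (Localization.Away f),
      ((∃ a' b' : ℤ, DRing.VanishesOutside P a' b') ∧ DRing.TermwiseFiniteFree P ∧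
          (∀ i : ℤ, Module.Free (Localization.Away f) (LinearMap.range (P.d i (i + 1)).hom)) ∧ Nonempty (Homotopy (𝟙 P) 0)) ∧
      ((∃ a' b' : ℤ, DRing.VanishesOutside Q a' b') ∧ DRing.TermwiseFiniteFree Q ∧
          (∀ i : ℤ, Module.Free (Localization.Away f) (LinearMap.range (Q.d i (i + 1)).hom)) ∧ Nonempty (Homotopy (𝟙 Q) 0)) ∧
      Nonempty ((((ModuleCat.extendScalars (algebraMap R (Localization.Away f))).mapHomologicalComplex (ComplexShape.up ℤ)).obj M) ⊞ P ≅ (((ModuleCat.extendScalars (algebraMap R (Localization.Away f))).mapHomologicalComplex (ComplexShape.up ℤ)).obj N) ⊞ Q) := by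
  classical
  obtain ⟨e⟩ := h
  haveI := isKProjective_of_bddAbove M b (fun i hi => hM i (Or.inr hi)) fun i => (hMp i).2
  haveI := isKProjective_of_bddAbove N b (fun i hi => hN i (Or.inr hi)) fun i => (hNp i).2
  obtain ⟨g, hg⟩ := Q_map_surjective M N e.hom
  obtain ⟨g', hg'⟩ := Q_map_surjective N M e.inv
  obtain ⟨H⟩ := (Q_map_eq_iff (g ≫ g') (𝟙 M)).1 (by
    rw [Functor.map_comp, hg, hg', CategoryTheory.Functor.map_id]
    exact e.hom_inv_id)
  haveI : QuasiIso g := by
    rw [← DerivedCategory.isIso_Q_map_iff_quasiIso, hg]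
    infer_instance
  obtain ⟨k⟩ := biprod_cone_iso g g' H
  let C := mappingCone g
  let D := mappingCone (𝟙 M)
  obtain ⟨HC⟩ := cone_contractible g
  obtain ⟨HD⟩ := cone_contractible (𝟙 M)
  have hC := cone_finiteProjective g hMp hNp
  have hD := cone_finiteProjective (𝟙 M) hMp hMp
  haveI := fun i => (hC i).1; haveI := fun i => (hC i).2; haveI := fun i => (hD i).1; haveI := fun i => (hD i).2
  haveI := fun i => (finite_projective_range hC HC i).1
  haveI := fun i => (finite_projective_range hC HC i).2.1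
  haveI := fun i => (finite_projective_range hD HD i).1
  haveI := fun i => (finite_projective_range hD HD i).2.1
  choose r1 hr1 hf1 using fun i => exists_free_away p (C.X i : Type u)
  choose r2 hr2 hf2 using fun i => exists_free_away p (LinearMap.range (C.d i (i + 1)).hom)
  choose r3 hr3 hf3 using fun i => exists_free_away p (D.X i : Type u)
  choose r4 hr4 hf4 using fun i => exists_free_away p (LinearMap.range (D.d i (i + 1)).hom)
  let f : R := ∏ i ∈ Finset.Icc (a - 1) b, r1 i * r2 i * r3 i * r4 i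
  have hf : f ∉ p := fun hm => by
    obtain ⟨i, -, hi⟩ := (inferInstance : p.IsPrime).prod_mem_iff.1 hm
    rcases (inferInstance : p.IsPrime).mem_or_mem hi with h1 | h1
    · rcases (inferInstance : p.IsPrime).mem_or_mem h1 with h2 | h2
      · rcases (inferInstance : p.IsPrime).mem_or_mem h2 with h3 | h3
        · exact hr1 i h3
        · exact hr2 i h3
      · exact hr3 i h2
    · exact hr4 i h1
  have hdvd : ∀ i ∈ Finset.Icc (a - 1) b, r1 i ∣ f ∧ r2 i ∣ f ∧ r3 i ∣ f ∧ r4 i ∣ f := fun i hi => by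
    have := Finset.dvd_prod_of_mem (fun i => r1 i * r2 i * r3 i * r4 i) hi
    exact ⟨((dvd_mul_right _ _).trans ((dvd_mul_right _ _).trans (dvd_mul_right _ _))).trans this,
      ((dvd_mul_left _ _).trans ((dvd_mul_right _ _).trans (dvd_mul_right _ _))).trans this,
      ((dvd_mul_left _ _).trans (dvd_mul_right _ _)).trans this, (dvd_mul_left _ _).trans this⟩
  let B := Localization.Away f
  have key : ∀ (E : DRing.Cx R), DRing.VanishesOutside E (a - 1) b → ∀ (r r' : ℤ → R),
      (∀ i, Module.Free (Localization.Away (r i)) (Localization.Away (r i) ⊗[R] (E.X i : Type u))) →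
      (∀ i, Module.Free (Localization.Away (r' i)) (Localization.Away (r' i) ⊗[R] LinearMap.range (E.d i (i + 1)).hom)) →
      (∀ i ∈ Finset.Icc (a - 1) b, r i ∣ f ∧ r' i ∣ f) →
      (∀ i, Module.Free B (B ⊗[R] (E.X i : Type u))) ∧
        ∀ i, Module.Free B (B ⊗[R] LinearMap.range (E.d i (i + 1)).hom) := by
    intro E hv r r' h1 h2 h3
    refine ⟨fun i => ?_, fun i => ?_⟩ <;> by_cases hi : i ∈ Finset.Icc (a - 1) b
    · exact free_away_of_dvd (h3 i hi).1 _ (h1 i)
    · haveI := ModuleCat.subsingleton_of_isZero (hv i (by rw [Finset.mem_Icc] at hi; omega))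
      infer_instance
    · exact free_away_of_dvd (h3 i hi).2 _ (h2 i)
    · haveI := ModuleCat.subsingleton_of_isZero (hv i (by rw [Finset.mem_Icc] at hi; omega))
      haveI : Subsingleton (LinearMap.range (E.d i (i + 1)).hom) := ⟨fun x y => by
        obtain ⟨x', hx⟩ := x.2; obtain ⟨y', hy⟩ := y.2
        exact Subtype.ext (by rw [← hx, ← hy, Subsingleton.elim x' y'])⟩
      infer_instance
  have kC := key C (cone_vanishesOutside g hM hN) r1 r2 hf1 hf2 fun i hi => ⟨(hdvd i hi).1, (hdvd i hi).2.1⟩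
  have kD := key D (cone_vanishesOutside (𝟙 M) hM hM) r3 r4 hf3 hf4 fun i hi => ⟨(hdvd i hi).2.2.1, (hdvd i hi).2.2.2⟩
  let G := (extA R B).mapHomologicalComplex (ComplexShape.up ℤ)
  haveI : G.Additive := inferInstance
  haveI := preservesBinaryBiproducts_of_preservesBiproducts G
  exact ⟨f, hf, G.obj C, G.obj D, trivial_ext (cone_vanishesOutside g hM hN) hC HC kC.1 kC.2,
    trivial_ext (cone_vanishesOutside (𝟙 M) hM hM) hD HD kD.1 kD.2,
    ⟨(G.mapBiprod M C).symm ≪≫ G.mapIso k ≪≫ G.mapBiprod N D⟩⟩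

end Groth.Agent.DR40
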