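import Groth.Agent.DR40.TensorComplete

/-! `- ⊗^L F` and `- ⊗^L M` commute with derived completion on objects bounded above. -/

set_option autoImplicit false
set_option linter.style.haveILetI false
set_option linter.unusedSectionVars false

universe u

open CategoryTheory CategoryTheory.Limits CategoryTheory.Pretriangulated MonoidalCategory HomologicalComplex

attribute [local instance] HasDerivedCategory.standard

namespace Groth.Agent.DR40

open Groth.Agent.DR39

variable {A : Type u} [CommRing A]

/-- `- ⊗^L F` as an exact functor. -/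
noncomputable def cxModel (F : DRing.Cx A) [DRing.HasLTensorCx A F] :
    Model (MonoidalCategory.tensorRight F) (DRing.LTensorCx A F) where
  cls C := C.IsKProjective
  cls_equiv h hX := by
    haveI := hX
    exact h.isKProjective
  res := exists_kproj_rep
  surj C C' hC _ := by
    haveI := hC
    exact Q_map_surjective C C'
  cone f hX hY := isKProjective_cone' f hX hY
  app C hC := (LTensorCxIso F C (by
    haveI := hC
    exact isKFlat_of_isKProjective (P := C))).symm
  nat {P P'} hP hP' f := by
    simp only [Iso.symm_hom]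
    rw [Iso.comp_inv_eq, Category.assoc, Iso.eq_inv_comp]
    exact ((tensorCxCounit F).naturality f).symm
  zero := whiskerRight_comp_zero F
  split := shortExact_tensorRight_of_split F
  smul f C := whiskerRight_smul_id C F f

theorem mapHC_comp_zero (G : ModuleCat.{u} A ⥤ ModuleCat.{u} A) [G.Additive] (S : ShortComplex (DRing.Cx A)) :
    (G.mapHomologicalComplex (ComplexShape.up ℤ)).map S.f ≫
      (G.mapHomologicalComplex (ComplexShape.up ℤ)).map S.g = 0 := by
  rw [← Functor.map_comp, S.zero, Functor.map_zero]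

/-- `- ⊗^L M` as an exact functor. -/
noncomputable def modModel (M : ModuleCat.{u} A) [DRing.HasLTensor A M] :
    Model ((MonoidalCategory.tensorRight M).mapHomologicalComplex (ComplexShape.up ℤ)) (DRing.LTensor A M) where
  cls C := C.IsKProjective
  cls_equiv h hX := by
    haveI := hX
    exact h.isKProjective
  res := exists_kproj_rep
  surj C C' hC _ := by
    haveI := hC
    exact Q_map_surjective C C'
  cone f hX hY := isKProjective_cone' f hX hY
  app C hC := (LTensorIso M C (by
    haveI := hC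
    exact isKFlat_of_isKProjective (P := C))).symm
  nat {P P'} hP hP' f := by
    simp only [Iso.symm_hom]
    rw [Iso.comp_inv_eq, Category.assoc, Iso.eq_inv_comp]
    exact (LFapp_naturality (MonoidalCategory.tensorRight M) f).symm
  zero := mapHC_comp_zero (MonoidalCategory.tensorRight M)
  split S σ := shortExact_of_degreewise_shortExact _ fun n =>
    ((σ n).map (MonoidalCategory.tensorRight M)).shortExact
  smul f C := by
    refine HomologicalComplex.hom_ext _ _ fun n => ?_
    show (f • 𝟙 (C.X n)) ▷ M = f • 𝟙 (C.X n ⊗ M)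
    rw [MonoidalLinear.smul_whiskerRight, MonoidalCategory.id_whiskerRight]

theorem exists_bdd_rep {X : Dual.D A} {b : ℤ} (h : ∀ i, b < i → IsZero ((HF A i).obj X)) :
    ∃ P : DRing.Cx A, DRing.VanishesAbove P b ∧ DRing.IsKFlat A P ∧ Nonempty ((QA A).obj P ≅ X) := by
  obtain ⟨P, hPv, hPF, e⟩ := rep_free_of_acyc (X := X) (b := b) fun i hi => h i (by omega)
  exact ⟨P, fun i hi => hPv i fun h => absurd (Set.mem_Iic.1 h) (by omega),
    isKFlat_of_rep (fun _ => flat_of_FR) hPv hPF, e⟩

theorem exists_fp_rep [IsNoetherianRing A] (M : Type u) [AddCommGroup M] [Module A M] [Module.Finite A M] :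
    ∃ F : DRing.Cx A, DRing.VanishesAbove F 0 ∧ DRing.IsKFlat A F ∧ (∀ i, FFp (F.X i)) ∧
      Nonempty ((QA A).obj F ≅ Dual.inD A M) := by
  have hpc : ∀ m, PC m (Dual.inD A M) := fun m =>
    pc_inD_of_fp_of_coherent (fun I _ => Module.finitePresentation_of_finite A I) M
      (Module.finitePresentation_of_finite A M) m
  obtain ⟨F, hFv, hF, e⟩ := baff_of_forall_pc (b := 0) (acyc_inD M (by omega)) hpc
  exact ⟨F, fun i hi => hFv i fun h => absurd (Set.mem_Iic.1 h) (by omega),
    isKFlat_of_rep (fun _ h => flat_of_FR h.2) hFv hF, hF, e⟩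

theorem dc_LTensorCx (F : DRing.Cx A) [DRing.HasLTensorCx A F] (c : ℤ) (hFc : DRing.VanishesAbove F c)
    (hF : ∀ i, FFp (F.X i)) {I : Ideal A} {X : Dual.D A} {b : ℤ} (hb : ∀ i, b < i → IsZero ((HF A i).obj X))
    (hX : DRing.IsDerivedComplete I X) : DRing.IsDerivedComplete I ((DRing.LTensorCx A F).obj X) := by
  obtain ⟨P, hPb, hP, ⟨e⟩⟩ := exists_bdd_rep hb
  refine dc_of_iso ((dc_iff I _).2 fun g hg n => ?_)
    ((LTensorCxIso F P hP).symm ≪≫ (DRing.LTensorCx A F).mapIso e)
  refine DCM.comp_equiv (HQIso (P ⊗ F) n).toLinearEquiv.symm ?_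
  exact comp_tensor_of_finite_free P hP g (fun k => DCM.comp_equiv (HQIso P k).toLinearEquiv
    (((dc_iff I X).1 hX g hg).of_iso e.symm k)) b hPb F c hFc hF n

theorem dc_LTensor [IsNoetherianRing A] (M : Type u) [AddCommGroup M] [Module A M] [Module.Finite A M]
    [DRing.HasLTensor A (ModuleCat.of A M)] {I : Ideal A} {X : Dual.D A} {b : ℤ}
    (hb : ∀ i, b < i → IsZero ((HF A i).obj X)) (hX : DRing.IsDerivedComplete I X) :
    DRing.IsDerivedComplete I ((DRing.LTensor A (ModuleCat.of A M)).obj X) := by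
  obtain ⟨P, hPb, hP, ⟨e⟩⟩ := exists_bdd_rep hb
  obtain ⟨F, hFb, hFflat, hF, ⟨eF⟩⟩ := exists_fp_rep (A := A) M
  refine dc_of_iso ((dc_iff I _).2 fun g hg n => ?_)
    ((LTensorIso (ModuleCat.of A M) P hP).symm ≪≫ (DRing.LTensor A (ModuleCat.of A M)).mapIso e)
  obtain ⟨l⟩ := nonempty_tensor_homology_iso hP
    (eF ≪≫ (DerivedCategory.singleFunctorIsoCompQ (ModuleCat.{u} A) 0).app (ModuleCat.of A M)) n
  refine DCM.comp_equiv (HQIso (DRing.tensorCx P (ModuleCat.of A M)) n ≪≫
    (homologyFunctor _ _ n).mapIso (@asIso _ _ _ _ (toSingleTensor P (ModuleCat.of A M)) (DR39.isIso_toSingleTensor _ _)) ≪≫ l.symm).toLinearEquiv.symm ?_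
  exact comp_tensor_of_finite_free P hP g (fun k => DCM.comp_equiv (HQIso P k).toLinearEquiv
    (((dc_iff I X).1 hX g hg).of_iso e.symm k)) b hPb F 0 hFb hF n

theorem isZero_completion {I : Ideal A} (hI : I.FG) [DRing.HasDerivedCompletion I] (K : Dual.D A) (b : ℤ)
    (hK : ∀ i : ℤ, b < i → Subsingleton (Dual.HD A K i)) (i : ℤ) (hi : b < i) :
    IsZero ((HF A i).obj ((DRing.derivedCompletion I).obj K).obj) := by
  obtain ⟨fs, hfs⟩ := exists_list_of_fg hI
  exact isZero_compl fs hfs (isCompl_unit I K) i fun j hj _ => (isZero_HF_iff K j).2 (hK j (by omega))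

end Groth.Agent.DR40
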