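import Groth.Agent.DR40.TriFun
import Groth.Agent.DR39.PC2
import Groth.Agent.DR39.PC3
import Mathlib.RingTheory.Flat.CategoryTheory

/-! Derived tensor products with pseudo-coherent objects preserve completeness and completions. -/

set_option autoImplicit false
set_option linter.style.haveILetI false
set_option linter.unusedSectionVars false

universe u

open CategoryTheory CategoryTheory.Limits CategoryTheory.Pretriangulated MonoidalCategory HomologicalComplex

attribute [local instance] HasDerivedCategory.standard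

namespace Groth.Agent.DR40

open Groth.Agent.DR39
open scoped TensorProduct

variable {A : Type u} [CommRing A]

theorem comp_piGen (f : A) (ι : Type*) (N : Type u) [AddCommGroup N] [Module A N] (h : DCM.Comp f N) :
    DCM.Comp f (ι → N) := by
  constructor
  · intro x y hxy
    funext n i
    exact congrFun (h.1 (a₁ := fun m => x m i) (a₂ := fun m => y m i)
      (funext fun m => congrFun (congrFun hxy m) i)) n
  · intro y
    choose x hx using fun i => h.2 fun n => y n i
    exact ⟨fun n i => x i n, funext fun n => funext fun i => congrFun (hx i) n⟩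

theorem comp_tensor_free (f : A) (N : Type u) [AddCommGroup N] [Module A N] (h : DCM.Comp f N)
    (M : Type u) [AddCommGroup M] [Module A M] [Module.Finite A M] [Module.Free A M] :
    DCM.Comp f (N ⊗[A] M) := by
  classical
  let b := Module.Free.chooseBasis A M
  exact DCM.comp_equiv
    ((TensorProduct.congr (LinearEquiv.refl A N) b.equivFun).trans
      (TensorProduct.piScalarRight A A N _)).symm (comp_piGen f _ N h)

theorem whiskerRight_smul_id (C L : DRing.Cx A) (f : A) :
    (f • 𝟙 C) ▷ L = f • 𝟙 (C ⊗ L) := by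
  refine HomologicalComplex.hom_ext _ _ fun n => mapBifunctor.hom_ext fun p q h => ?_
  show ιTensorObj C L p q n h ≫ ((f • 𝟙 C) ▷ L).f n = ιTensorObj C L p q n h ≫ (f • 𝟙 (C ⊗ L) : _ ⟶ _).f n
  rw [DR39.whiskerRight_ι, HomologicalComplex.smul_f_apply, HomologicalComplex.smul_f_apply,
    HomologicalComplex.id_f, HomologicalComplex.id_f, MonoidalLinear.smul_whiskerRight,
    MonoidalCategory.id_whiskerRight, Linear.smul_comp, Category.id_comp, Linear.comp_smul]
  exact congrArg (f • ·) (Category.comp_id _).symm

theorem whiskerRight_comp_zero (L : DRing.Cx A) (S : ShortComplex (DRing.Cx A)) :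
    (MonoidalCategory.tensorRight L).map S.f ≫ (MonoidalCategory.tensorRight L).map S.g = 0 := by
  show (S.f ▷ L) ≫ (S.g ▷ L) = 0
  haveI := DR39.isIso_symm' S.X₃ L
  rw [← cancel_mono (symm' S.X₃ L), zero_comp, Category.assoc, symm'_naturality, ← Category.assoc,
    symm'_naturality, Category.assoc]
  show _ ≫ (DR39.tensorSeq L S).f ≫ (DR39.tensorSeq L S).g = 0
  rw [(DR39.tensorSeq L S).zero, comp_zero]

theorem shortExact_tensorRight_of_split (L : DRing.Cx A) (S : ShortComplex (DRing.Cx A))
    (σ : ∀ n, (S.map (eval (ModuleCat.{u} A) (ComplexShape.up ℤ) n)).Splitting) :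
    (ShortComplex.mk ((MonoidalCategory.tensorRight L).map S.f) ((MonoidalCategory.tensorRight L).map S.g)
      (whiskerRight_comp_zero L S)).ShortExact := by
  exact ShortComplex.shortExact_of_iso (ShortComplex.isoMk (S₁ := ShortComplex.mk ((MonoidalCategory.tensorRight L).map S.f)
      ((MonoidalCategory.tensorRight L).map S.g) (whiskerRight_comp_zero L S)) (S₂ := DR39.tensorSeq L S)
    (@asIso _ _ _ _ (symm' S.X₁ L) (DR39.isIso_symm' _ _)) (@asIso _ _ _ _ (symm' S.X₂ L) (DR39.isIso_symm' _ _))
    (@asIso _ _ _ _ (symm' S.X₃ L) (DR39.isIso_symm' _ _))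
    (symm'_naturality S.f L).symm (symm'_naturality S.g L).symm).symm
    (shortExact_tensorSeq_of_split L S σ)

theorem exists_kproj_rep (X : Dual.D A) :
    ∃ P : DRing.Cx A, P.IsKProjective ∧ Nonempty ((QA A).obj P ≅ X) := by
  obtain ⟨K, ⟨e⟩⟩ := exists_complex_iso X
  haveI := (DerivedCategory.isIso_Q_map_iff_quasiIso (ModuleCat.{u} A) (SF.aug K)).2 inferInstance
  exact ⟨SF.res K, SF.isKProjective_res K, ⟨asIso ((QA A).map (SF.aug K)) ≪≫ e⟩⟩

theorem isKProjective_cone' {X Y : DRing.Cx A} (f : X ⟶ Y) (hX : X.IsKProjective) (hY : Y.IsKProjective) :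
    (CochainComplex.mappingCone f).IsKProjective := by
  rw [CochainComplex.isKProjective_iff_leftOrthogonal]
  exact ObjectProperty.ext_of_isTriangulatedClosed₃ _ _
    (HomotopyCategory.mappingCone_triangleh_distinguished f)
    (CochainComplex.IsKProjective.leftOrthogonal X) (CochainComplex.IsKProjective.leftOrthogonal Y)

/-! ### Tensoring on the left with a K-flat complex -/

section Left

variable (P : DRing.Cx A) (hP : DRing.IsKFlat A P)

include hP in
theorem inverts_tensorLeft :
    (HomologicalComplex.quasiIso (ModuleCat.{u} A) (ComplexShape.up ℤ)).IsInvertedBy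
      (MonoidalCategory.tensorLeft P ⋙ DerivedCategory.Q) := fun C C' α hα => by
  haveI : QuasiIso α := hα
  haveI := quasiIso_whiskerLeft_of_kflat hP α
  exact (DerivedCategory.isIso_Q_map_iff_quasiIso (ModuleCat.{u} A) (P ◁ α)).2 inferInstance

/-- `P ⊗ -` on `D(A)` for K-flat `P`. -/
noncomputable def leftR : Dual.D A ⥤ Dual.D A :=
  Localization.lift (MonoidalCategory.tensorLeft P ⋙ DerivedCategory.Q) (inverts_tensorLeft P hP)
    DerivedCategory.Q

/-- `P ⊗ -` is computed by itself. -/
noncomputable def leftFac : DerivedCategory.Q ⋙ leftR P hP ≅ MonoidalCategory.tensorLeft P ⋙ DerivedCategory.Q :=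
  Localization.fac _ _ _

/-- `P ⊗ -` as an exact functor. -/
noncomputable def leftModel : Model (MonoidalCategory.tensorLeft P) (leftR P hP) where
  cls C := C.IsKProjective
  cls_equiv h hX := by
    haveI := hX
    exact h.isKProjective
  res := exists_kproj_rep
  surj C C' hC _ := by
    haveI := hC
    exact Q_map_surjective C C'
  cone f hX hY := isKProjective_cone' f hX hY
  app C _ := ((leftFac P hP).app C).symm
  nat _ _ f := (leftFac P hP).inv.naturality f
  zero S := (DR39.tensorSeq P S).zero
  split := shortExact_tensorSeq_of_split P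
  smul f C := whiskerLeft_smul_id P C f

include hP in
theorem compD_left_single (g : A) (hc : ∀ n, DCM.Comp g (P.homology n)) (M : ModuleCat.{u} A)
    [Module.Finite A M] [Module.Free A M] (i : ℤ) :
    CompD g ((leftR P hP).obj ((DerivedCategory.singleFunctor (ModuleCat.{u} A) i).obj M)) := by
  let R := leftR P hP
  have hshift : ∀ X : Dual.D A, CompD g (R.obj X) → CompD g (R.obj (X⟦(1 : ℤ)⟧)) := fun X hX => by
    obtain ⟨g', h', hd⟩ := (leftModel P hP).triangle
      (rot_of_distTriang _ (contractible_distinguished X))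
    refine CompD.obj₃ hd hX fun n => ?_
    exact comp_of_nilpotent g _ 0 fun x =>
      @Subsingleton.elim _ ((isZero_HF_iff _ n).1
        ((HF A n).map_isZero ((leftModel P hP).isZero (isZero_zero _)))) _ _
  have hshift' : ∀ X : Dual.D A, CompD g (R.obj (X⟦(1 : ℤ)⟧)) → CompD g (R.obj X) := fun X hX => by
    obtain ⟨g', h', hd⟩ := (leftModel P hP).triangle
      (rot_of_distTriang _ (contractible_distinguished X))
    refine CompD.obj₁ hd (fun n => ?_) hX
    exact comp_of_nilpotent g _ 0 fun x =>
      @Subsingleton.elim _ ((isZero_HF_iff _ n).1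
        ((HF A n).map_isZero ((leftModel P hP).isZero (isZero_zero _)))) _ _
  have h0 : CompD g (R.obj (Dual.inD A M)) := by
    haveI := isIso_toSingleTensor P M
    haveI : (MonoidalCategory.tensorRight M).PreservesHomology := by
      haveI : Module.Flat A M := inferInstance
      haveI : PreservesFiniteLimits (MonoidalCategory.tensorRight M) := inferInstance
      haveI : PreservesFiniteColimits (MonoidalCategory.tensorRight M) :=
        preservesFiniteColimits_of_natIso (BraidedCategory.tensorLeftIsoTensorRight M)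
      infer_instance
    let e : R.obj (Dual.inD A M) ≅
        (QA A).obj (((MonoidalCategory.tensorRight M).mapHomologicalComplex (ComplexShape.up ℤ)).obj P) :=
      R.mapIso ((DerivedCategory.singleFunctorIsoCompQ (ModuleCat.{u} A) 0).app M) ≪≫
        (leftFac P hP).app (sgl M) ≪≫ ((QA A).mapIso (asIso (toSingleTensor P M))).symm
    refine CompD.of_iso (fun n => ?_) e.symm
    refine DCM.comp_equiv (HQIso (((MonoidalCategory.tensorRight M).mapHomologicalComplex (ComplexShape.up ℤ)).obj P) n ≪≫ (P.sc n).mapHomologyIso (MonoidalCategory.tensorRight M)).toLinearEquiv.symm ?_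
    exact comp_tensor_free g _ (hc n) M
  have hpow : ∀ k : ℕ, CompD g (R.obj ((Dual.inD A M)⟦(k : ℤ)⟧)) ∧
      CompD g (R.obj ((Dual.inD A M)⟦-(k : ℤ)⟧)) := by
    intro k
    induction k with
    | zero =>
      refine ⟨h0.of_iso (R.mapIso ((shiftFunctorZero (Dual.D A) ℤ).app _).symm), ?_⟩
      exact h0.of_iso (R.mapIso ((shiftFunctorZero' (Dual.D A) (-(0 : ℕ) : ℤ) (by simp)).app _).symm)
    | succ k ih =>
      refine ⟨(hshift _ ih.1).of_iso (R.mapIso
        ((shiftFunctorAdd' (Dual.D A) (k : ℤ) 1 ((k + 1 : ℕ) : ℤ) (by push_cast; rfl)).app _).symm), ?_⟩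
      exact hshift' _ (ih.2.of_iso (R.mapIso
        ((shiftFunctorAdd' (Dual.D A) (-((k + 1 : ℕ) : ℤ)) 1 (-(k : ℤ)) (by push_cast; ring)).app _)))
  rcases le_total i 0 with hi | hi
  · exact ((hpow (-i).toNat).1).of_iso (R.mapIso (singleShiftIso M i _ (by omega)))
  · exact ((hpow i.toNat).2).of_iso (R.mapIso (singleShiftIso M i _ (by omega)))

include hP in
theorem comp_tensor_of_finite_free (g : A) (hc : ∀ n, DCM.Comp g (P.homology n)) (b : ℤ)
    (hPb : DRing.VanishesAbove P b) (F : DRing.Cx A) (c : ℤ) (hFc : DRing.VanishesAbove F c)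
    (hF : ∀ i, FFp (F.X i)) (n : ℤ) : DCM.Comp g ((P ⊗ F).homology n) := by
  have h : CompD g ((leftR P hP).obj ((QA A).obj (cutGE F (n - 1 - b)))) :=
    DR39.induction_terms (P := fun X => CompD g ((leftR P hP).obj X))
      (fun T hT h1 h3 => by
        obtain ⟨g', h', hd⟩ := (leftModel P hP).triangle hT
        exact CompD.obj₂ hd h1 h3)
      (fun X hX n => comp_of_nilpotent g _ 0 fun x => by
        haveI := (isZero_HF_iff _ n).1 ((HF A n).map_isZero ((leftModel P hP).isZero hX))
        exact Subsingleton.elim _ _)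
      F c hFc _ (fun i _ => by
        haveI := (hF i).1
        haveI := (hF i).2
        exact compD_left_single P hP g hc (F.X i) i)
  have hiso : ∀ k, n - 1 ≤ k → IsIso ((P ◁ cutι F (n - 1 - b)).f k) := by
    intro k hk
    haveI : ∀ p q, p + q = k → IsIso (P.X p ◁ (cutι F (n - 1 - b)).f q) := fun p q hpq => by
      by_cases hp : b < p
      · exact Limits.IsZero.isIso
          (Functor.map_isZero (MonoidalCategory.tensorRight _) (hPb p hp))
          (Functor.map_isZero (MonoidalCategory.tensorRight _) (hPb p hp)) _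
      · haveI : IsIso ((cutι F (n - 1 - b)).f q) :=
          (DR39.isIso_iff_bijective _).2 (cutι_bijective F (by omega))
        infer_instance
    let inv' : (P ⊗ F).X k ⟶ (P ⊗ cutGE F (n - 1 - b)).X k :=
      mapBifunctorDesc fun p q h =>
        haveI := this p q h
        inv (P.X p ◁ (cutι F (n - 1 - b)).f q) ≫ ιTensorObj P (cutGE F (n - 1 - b)) p q k h
    have hι : ∀ p q h, ιTensorObj P F p q k h ≫ inv' =
        (haveI := this p q h
         inv (P.X p ◁ (cutι F (n - 1 - b)).f q) ≫ ιTensorObj P (cutGE F (n - 1 - b)) p q k h) :=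
      fun p q h => ι_mapBifunctorDesc _ p q h
    refine ⟨inv', mapBifunctor.hom_ext fun p q h => ?_, mapBifunctor.hom_ext fun p q h => ?_⟩
    · show ιTensorObj P (cutGE F (n - 1 - b)) p q k h ≫ _ ≫ inv' = ιTensorObj P (cutGE F (n - 1 - b)) p q k h ≫ 𝟙 _
      haveI := this p q h
      rw [← Category.assoc, DR39.whiskerLeft_ι, Category.assoc, hι, IsIso.hom_inv_id_assoc]
      exact (Category.comp_id _).symm
    · show ιTensorObj P F p q k h ≫ inv' ≫ _ = ιTensorObj P F p q k h ≫ 𝟙 _
      haveI := this p q h
      rw [← Category.assoc, hι, Category.assoc, DR39.whiskerLeft_ι, IsIso.inv_hom_id_assoc]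
      exact (Category.comp_id _).symm
  haveI : IsIso (HomologicalComplex.homologyMap (P ◁ cutι F (n - 1 - b)) n) := by
    rw [DR39.isIso_iff_bijective]
    have hb : ∀ k, n - 1 ≤ k → Function.Bijective ((P ◁ cutι F (n - 1 - b)).f k).hom :=
      fun k hk => (DR39.isIso_iff_bijective _).1 (hiso k hk)
    refine ⟨(injective_homologyMap_iff _ n).2 fun x hx y hy => ?_,
      (surjective_homologyMap_iff _ n).2 fun z hz => ?_⟩
    · obtain ⟨y', rfl⟩ := (hb (n - 1) le_rfl).2 y
      exact ⟨y', (hb n (by omega)).1 ((f_apply_d _ _ _ _).trans hy)⟩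
    · obtain ⟨x, rfl⟩ := (hb n (by omega)).2 z
      refine ⟨x, (hb (n + 1) (by omega)).1 ?_, by rw [sub_self]; exact Submodule.zero_mem _⟩
      rw [f_apply_d, hz, map_zero]
  exact DCM.comp_equiv ((HF A n).mapIso ((leftFac P hP).app (cutGE F (n - 1 - b))) ≪≫
    HQIso (P ⊗ cutGE F (n - 1 - b)) n ≪≫
      asIso (HomologicalComplex.homologyMap (P ◁ cutι F (n - 1 - b)) n)).toLinearEquiv (h n)

end Left

end Groth.Agent.DR40
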