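import Groth.Agent.DR40.KFlatTri
import Groth.Agent.DR39.DCModule
import Groth.Agent.DR39.TensorSymm

/-! Cohomology of `L ⊗ -` on distinguished triangles. -/

set_option autoImplicit false
set_option linter.style.haveILetI false
set_option linter.unusedSectionVars false

universe u

open CategoryTheory CategoryTheory.Limits CategoryTheory.Pretriangulated MonoidalCategory HomologicalComplex

namespace Groth.Agent.DR40

open Groth.Agent.DR39

variable {A : Type u} [CommRing A]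

/-- `H^i(L ⊗ -)` on the homotopy category. -/
noncomputable def tensorH (L : DRing.Cx A) (i : ℤ) :
    HomotopyCategory (ModuleCat.{u} A) (ComplexShape.up ℤ) ⥤ ModuleCat.{u} A :=
  CategoryTheory.Quotient.lift _
    (MonoidalCategory.tensorLeft L ⋙ HomologicalComplex.homologyFunctor (ModuleCat.{u} A) (ComplexShape.up ℤ) i)
    (fun _ _ _ _ ⟨h⟩ => (HomologicalComplex.mapBifunctorMapHomotopy₂ (𝟙 L) h
      (curriedTensor (ModuleCat.{u} A)) (ComplexShape.up ℤ)).homologyMap_eq i)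

theorem whiskerLeft_smul_id (L C : DRing.Cx A) (f : A) :
    L ◁ (f • 𝟙 C) = f • 𝟙 (L ⊗ C) := by
  refine HomologicalComplex.hom_ext _ _ fun n => mapBifunctor.hom_ext fun p q h => ?_
  show ιTensorObj L C p q n h ≫ (L ◁ (f • 𝟙 C)).f n = ιTensorObj L C p q n h ≫ (f • 𝟙 (L ⊗ C) : _ ⟶ _).f n
  rw [DR39.whiskerLeft_ι, HomologicalComplex.smul_f_apply, HomologicalComplex.smul_f_apply,
    HomologicalComplex.id_f, HomologicalComplex.id_f, MonoidalLinear.whiskerLeft_smul,
    MonoidalCategory.whiskerLeft_id, Linear.smul_comp, Category.id_comp, Linear.comp_smul]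
  exact congrArg (f • ·) (Category.comp_id _).symm

theorem homologyMap_smul_id_apply (C : DRing.Cx A) (f : A) (i : ℤ) (x : C.homology i) :
    (HomologicalComplex.homologyMap (f • 𝟙 C) i).hom x = f • x := by
  obtain ⟨z, rfl⟩ := hcls_surjective C i x
  rw [homologyMap_hcls, ← map_smul]
  rfl

/-- `H^i(L ⊗ -)` on an isomorphism of the homotopy category. -/
noncomputable def tensorHMap (L : DRing.Cx A) {X Y : HomotopyCategory (ModuleCat.{u} A) (ComplexShape.up ℤ)} (e : X ≅ Y) (i : ℤ) : (L ⊗ X.as).homology i ≅ (L ⊗ Y.as).homology i := (tensorH L i).mapIso e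

/-- The same, towards a complex. -/
noncomputable def tensorHMap' (L : DRing.Cx A) {X : HomotopyCategory (ModuleCat.{u} A) (ComplexShape.up ℤ)} {S : DRing.Cx A} (e : X ≅ (HomotopyCategory.quotient _ _).obj S) (i : ℤ) : (L ⊗ X.as).homology i ≅ (L ⊗ S).homology i := tensorHMap L e i

theorem tensorHMap'_comm (L : DRing.Cx A) {X Y : HomotopyCategory (ModuleCat.{u} A) (ComplexShape.up ℤ)} {S S' : DRing.Cx A} (a : X ≅ (HomotopyCategory.quotient _ _).obj S) (b : Y ≅ (HomotopyCategory.quotient _ _).obj S') (m : X ⟶ Y) (g : S ⟶ S') (h : m ≫ b.hom = a.hom ≫ (HomotopyCategory.quotient _ _).map g) (i : ℤ) :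
    (tensorH L i).map m ≫ (tensorHMap' L b i).hom = (tensorHMap' L a i).hom ≫ HomologicalComplex.homologyMap (L ◁ g) i :=
  ((tensorH L i).map_comp _ _).symm.trans ((congrArg (tensorH L i).map h).trans ((tensorH L i).map_comp _ _))

/-- Derived completeness in the middle of a five-term exact sequence. -/
theorem comp_of_exact₅ {f : A} {N₁ N₂ N₃ N₄ N₅ : ModuleCat.{u} A} (a : N₁ ⟶ N₂) (b : N₂ ⟶ N₃)
    (c : N₃ ⟶ N₄) (d : N₄ ⟶ N₅) (hab : LinearMap.range a.hom = LinearMap.ker b.hom)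
    (hbc : LinearMap.range b.hom = LinearMap.ker c.hom) (hcd : LinearMap.range c.hom = LinearMap.ker d.hom)
    (h₁ : DCM.Comp f N₁) (h₂ : DCM.Comp f N₂) (h₄ : DCM.Comp f N₄) (h₅ : DCM.Comp f N₅) :
    DCM.Comp f N₃ := by
  refine DCM.comp_of_extension (LinearMap.range b.hom) ?_ ?_
  · refine DCM.comp_equiv b.hom.quotKerEquivRange (DCM.comp_quotient _ ?_ h₂)
    rw [← hab]
    exact DCM.comp_range _ h₁ h₂
  · rw [hbc]
    refine DCM.comp_equiv c.hom.quotKerEquivRange.symm ?_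
    rw [hcd]
    exact DCM.comp_ker _ h₄ h₅

variable (L : DRing.Cx A) (T : Triangle (HomotopyCategory (ModuleCat.{u} A) (ComplexShape.up ℤ)))
  (hT : T ∈ distinguishedTriangles)

include hT in
theorem exists_split_model : ∃ (S : ShortComplex (DRing.Cx A)) (_ : (DR39.tensorSeq L S).ShortExact)
    (e₁ : ∀ i, (L ⊗ T.obj₁.as).homology i ≅ (L ⊗ S.X₁).homology i)
    (e₂ : ∀ i, (L ⊗ T.obj₂.as).homology i ≅ (L ⊗ S.X₂).homology i)
    (_ : ∀ i, (L ⊗ T.obj₃.as).homology i ≅ (L ⊗ S.X₃).homology i),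
    ∀ i, (tensorH L i).map T.mor₁ ≫ (e₂ i).hom =
      (e₁ i).hom ≫ HomologicalComplex.homologyMap (L ◁ S.f) i := by
  obtain ⟨S, σ, ⟨e⟩⟩ := (HomotopyCategory.distinguished_iff_iso_trianglehOfDegreewiseSplit T).1 hT
  exact ⟨S, shortExact_tensorSeq_of_split L S σ, tensorHMap' L (Triangle.π₁.mapIso e),
    tensorHMap' L (Triangle.π₂.mapIso e), tensorHMap' L (Triangle.π₃.mapIso e),
    tensorHMap'_comm L (Triangle.π₁.mapIso e) (Triangle.π₂.mapIso e) T.mor₁ S.f e.hom.comm₁⟩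

include hT in
theorem comp_triangle (f : A) (i : ℤ)
    (h₁ : DCM.Comp f ((L ⊗ T.obj₁.as).homology i)) (h₂ : DCM.Comp f ((L ⊗ T.obj₂.as).homology i))
    (h₁' : DCM.Comp f ((L ⊗ T.obj₁.as).homology (i + 1)))
    (h₂' : DCM.Comp f ((L ⊗ T.obj₂.as).homology (i + 1))) :
    DCM.Comp f ((L ⊗ T.obj₃.as).homology i) := by
  obtain ⟨S, hS, e₁, e₂, e₃, -⟩ := exists_split_model L T hT
  exact DCM.comp_equiv (e₃ i).symm.toLinearEquiv (comp_of_exact₅ _ _ _ _
    (hS.homology_exact₂ i).moduleCat_range_eq_ker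
    (hS.homology_exact₃ i (i + 1) rfl).moduleCat_range_eq_ker
    (hS.homology_exact₁ i (i + 1) rfl).moduleCat_range_eq_ker
    (DCM.comp_equiv (e₁ i).toLinearEquiv h₁) (DCM.comp_equiv (e₂ i).toLinearEquiv h₂)
    (DCM.comp_equiv (e₁ (i + 1)).toLinearEquiv h₁') (DCM.comp_equiv (e₂ (i + 1)).toLinearEquiv h₂'))

include hT in
theorem epi_of_triangle (i : ℤ) (h : IsZero ((L ⊗ T.obj₃.as).homology i)) :
    Epi ((tensorH L i).map T.mor₁) := by
  obtain ⟨S, hS, e₁, e₂, e₃, he⟩ := exists_split_model L T hT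
  have hz : IsZero ((DR39.tensorSeq L S).X₃.homology i) := h.of_iso (e₃ i).symm
  haveI : Epi (HomologicalComplex.homologyMap (L ◁ S.f) i) :=
    (hS.homology_exact₂ i).epi_f (hz.eq_of_tgt _ _)
  have h' := ((Iso.eq_comp_inv (e₂ i)).2 (he i)).trans (Category.assoc _ _ _)
  rw [h']
  exact epi_comp' inferInstance (epi_comp' this inferInstance)

theorem smul_surjective_of_cone (C : DRing.Cx A) (f : A) (i : ℤ)
    (h : IsZero ((L ⊗ CochainComplex.mappingCone (f • 𝟙 C)).homology i)) :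
    ∀ z : (L ⊗ C).homology i, ∃ y, f • y = z := by
  have := epi_of_triangle L _ (HomotopyCategory.mappingCone_triangleh_distinguished (f • 𝟙 C)) i h
  have h' : Function.Surjective (HomologicalComplex.homologyMap (L ◁ (f • 𝟙 C)) i).hom :=
    (ModuleCat.epi_iff_surjective (HomologicalComplex.homologyMap (L ◁ (f • 𝟙 C)) i)).1 this
  intro z
  obtain ⟨y, hy⟩ := h' z
  exact ⟨y, by rw [← homologyMap_smul_id_apply, ← whiskerLeft_smul_id]; exact hy⟩

end Groth.Agent.DR40
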