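import Groth.Agent.DR40.PushBC
import Groth.Agent.DR40.KFlatTri
import Groth.Agent.DR39.PureAcyclic
import Groth.Agent.DR39.TA
import Groth.Agent.FCx40.Acyclic

/-! Tor amplitude bounded below. -/

set_option autoImplicit false
set_option linter.style.haveILetI false
set_option linter.unusedSectionVars false

universe u

open CategoryTheory CategoryTheory.Limits MonoidalCategory HomologicalComplex
open scoped TensorProduct
attribute [local instance] HasDerivedCategory.standard

namespace Groth.Agent.DR40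

open Groth.Agent.DR39

variable {A : Type u} [CommRing A]

theorem nonempty_LTensorCx_single_iso (K : DRing.Cx A) [DRing.HasLTensorCx A K] {F : DRing.Cx A}
    (hF : DRing.IsKFlat A F) (e : (QA A).obj F ≅ (QA A).obj K) (M : ModuleCat.{u} A) :
    Nonempty ((DRing.LTensorCx A K).obj ((QA A).obj (sgl M)) ≅ (QA A).obj (DRing.tensorCx F M)) := by
  let P := SF.res (sgl M)
  have hP : DRing.IsKFlat A P := isKFlat_of_isKProjective
  haveI := (DerivedCategory.isIso_Q_map_iff_quasiIso (ModuleCat.{u} A) (SF.aug (sgl M))).2 inferInstance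
  haveI := quasiIso_whiskerRight' hF (SF.aug (sgl M))
  haveI := (DerivedCategory.isIso_Q_map_iff_quasiIso (ModuleCat.{u} A) (SF.aug (sgl M) ▷ F)).2 inferInstance
  haveI := isIso_toSingleTensor F M
  exact ⟨(DRing.LTensorCx A K).mapIso (asIso ((QA A).map (SF.aug (sgl M)))).symm ≪≫ LTensorCxIso K P hP ≪≫
    ((leftFac P hP).app K).symm ≪≫ (leftR P hP).mapIso e.symm ≪≫ (leftFac P hP).app F ≪≫
    asIso ((QA A).map (SF.aug (sgl M) ▷ F)) ≪≫
    (QA A).mapIso (asIso (symm' (sgl M) F) ≪≫ (asIso (toSingleTensor F M)).symm)⟩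

theorem isIso_πTruncGE_f (E : DRing.Cx A) (a i : ℤ) (hi : a < i) : IsIso ((E.πTruncGE a).f i) := by
  obtain ⟨k, rfl⟩ := Int.le.dest hi.le
  show IsIso (((ComplexShape.embeddingUpIntGE a).liftExtend _ (E.restrictionToTruncGE'_hasLift _)).f _)
  rw [(ComplexShape.embeddingUpIntGE a).isIso_liftExtend_f_iff _ _ (i := k) (by simp)]
  exact E.isIso_restrictionToTruncGE' _ k fun h => by
    rw [ComplexShape.boundaryGE_embeddingUpIntGE_iff] at h
    omega

theorem epi_πTruncGE_f (E : DRing.Cx A) (a i : ℤ) : Function.Surjective ((E.πTruncGE a).f i).hom :=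
  (ModuleCat.epi_iff_surjective _).1 (inferInstanceAs (Epi ((HomologicalComplex.πTruncGE E (ComplexShape.embeddingUpIntGE a)).f i)))

theorem exact_πTruncGE_f (E : DRing.Cx A) (a : ℤ) :
    Function.Exact (E.d (a - 1) a).hom ((E.πTruncGE a).f a).hom := by
  intro x
  have hz : Subsingleton ((E.truncGE a).X (a - 1)) :=
    ModuleCat.subsingleton_of_isZero ((E.truncGE a).isZero_of_isStrictlyGE a (a - 1) (by omega))
  constructor
  · intro hx
    have hdx : (E.d a (a + 1)).hom x = 0 := by
      haveI := isIso_πTruncGE_f E a (a + 1) (by omega)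
      apply ((ConcreteCategory.isIso_iff_bijective ((E.πTruncGE a).f (a + 1))).1 inferInstance).1
      exact (f_apply_d (E.πTruncGE a) a (a + 1) x).trans ((congrArg _ hx).trans ((map_zero _).trans (map_zero _).symm))
    haveI := CochainComplex.quasiIsoAt_πTruncGE E a a le_rfl
    have hb : Function.Injective (homologyMap (E.πTruncGE a) a).hom :=
      ((DR39.isIso_iff_bijective _).1 ((quasiIsoAt_iff_isIso_homologyMap _ _).1 inferInstance)).1
    obtain ⟨y, hy⟩ := (injective_homologyMap_iff _ a).1 hb x hdx 0 (by rw [map_zero, hx])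
    exact ⟨y, hy⟩
  · rintro ⟨y, rfl⟩
    rw [f_apply_d, Subsingleton.elim (((E.πTruncGE a).f (a - 1)).hom y) 0, map_zero]

/-- The truncation of a complex with low exactness stays computing `- ⊗ M`. -/
theorem quasiIso_tensor_πTruncGE {E : DRing.Cx A} {a : ℤ} (h : LowEx E a) (M : ModuleCat.{u} A) :
    QuasiIso (((tensorRight M).mapHomologicalComplex (ComplexShape.up ℤ)).map (E.πTruncGE a)) := by
  let T := (tensorRight M).mapHomologicalComplex (ComplexShape.up ℤ)
  let f := T.map (E.πTruncGE a)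
  show QuasiIso f
  have hsurj : ∀ i, Function.Surjective (f.f i).hom := fun i => LinearMap.rTensor_surjective _ (epi_πTruncGE_f E a i)
  have hinj : ∀ i, a < i → Function.Injective (f.f i).hom := fun i hi => by
    haveI := isIso_πTruncGE_f E a i hi
    haveI : IsIso ((tensorRight M).map ((E.πTruncGE a).f i)) := inferInstance
    exact ((ConcreteCategory.isIso_iff_bijective ((tensorRight M).map ((E.πTruncGE a).f i))).1 inferInstance).1
  have hz : ∀ i, i < a → Subsingleton ((T.obj (E.truncGE a)).X i) := fun i hi =>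
    subsingleton_X_map A (tensorRight M) (E.truncGE a) i
      (ModuleCat.subsingleton_of_isZero ((E.truncGE a).isZero_of_isStrictlyGE a i hi))
  refine ⟨fun i => quasiIsoAt_of_elements f i (fun x hx y hy => ?_) fun z hz' => ?_⟩
  · rcases lt_trichotomy i a with hi | rfl | hi
    · exact (isZero_homology_iff _ i).1 (h M i hi) x hx
    · haveI := hz (i - 1) (by omega)
      rw [Subsingleton.elim y 0, map_zero] at hy
      obtain ⟨w, hw⟩ := ((rTensor_exact M (exact_πTruncGE_f E i) (epi_πTruncGE_f E i i)) x).1 hy.symm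
      exact ⟨w, hw⟩
    · obtain ⟨y', rfl⟩ := hsurj _ y
      rw [← f_apply_d] at hy
      exact ⟨y', hinj i hi hy⟩
  · rcases lt_or_ge i a with hi | hi
    · haveI := hz i hi
      exact ⟨0, map_zero _, 0, Subsingleton.elim _ _⟩
    · obtain ⟨x, rfl⟩ := hsurj i z
      refine ⟨x, hinj (i + 1) (by omega) ?_, 0, by rw [map_zero, sub_self]⟩
      rw [f_apply_d, hz', map_zero]

theorem isKFlat_truncGE {E : DRing.Cx A} {a : ℤ} (hE : DRing.IsKFlat A E) (h : LowEx E a) :
    DRing.IsKFlat A (E.truncGE a) := by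
  let C := CochainComplex.mappingCone (E.πTruncGE a)
  have hC : DRing.IsKFlat A C := isKFlat_of_exT fun M i => by
    rw [← isZero_tensorCx_iff]
    haveI := quasiIso_tensor_πTruncGE h M
    exact ((FCx40.quasiIso_iff_cone _).1 this i).of_iso
      ((HomologicalComplex.homologyFunctor _ _ i).mapIso
        (CochainComplex.mappingCone.mapHomologicalComplexIso (E.πTruncGE a) (tensorRight M)))
  intro L hL i
  exact (kflat_triangle _ (HomotopyCategory.mappingCone_triangleh_distinguished (E.πTruncGE a)) L i).2.1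
    (hE L hL i) (hC L hL i)

theorem exists_kflat_ge {K : DRing.Cx A} [DRing.HasLTensorCx A K] {a : ℤ}
    (h : ∀ (M : ModuleCat.{u} A) (i : ℤ), i < a → Subsingleton (Dual.HD A ((DRing.LTensorCx A K).obj
      (DRing.toD ((CochainComplex.singleFunctor (ModuleCat.{u} A) 0).obj M))) i)) :
    ∃ E : DRing.Cx A, DRing.IsKFlat A E ∧ DRing.TermwiseFlat E ∧ (∀ i : ℤ, i < a → IsZero (E.X i)) ∧
      Nonempty ((QA A).obj E ≅ (QA A).obj K) := by
  let F := SF.res K
  have hFk : DRing.IsKFlat A F := isKFlat_of_isKProjective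
  haveI := (DerivedCategory.isIso_Q_map_iff_quasiIso (ModuleCat.{u} A) (SF.aug K)).2 inferInstance
  let e : (QA A).obj F ≅ (QA A).obj K := asIso ((QA A).map (SF.aug K))
  have hlow : LowEx F a := fun M i hi => by
    obtain ⟨k⟩ := nonempty_LTensorCx_single_iso K hFk e M
    exact (isZero_HF_Q_iff _ i).1 (IsZero.of_iso ((isZero_HF_iff _ i).2 (h M i hi)) ((HF A i).mapIso k.symm))
  have hX : ∀ i, FLp (F.X i) := fun i => flat_of_FR (SF.free_res K i)
  haveI := isGE_of_lowEx hlow
  haveI : Module.Flat A (F.X a) := hX a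
  exact ⟨F.truncGE a, isKFlat_truncGE hFk hlow,
    cls_truncGE isModClass_FL F a (fun i _ => hX i) (flat_coker F a fun M => exT_of_lowEx hlow M (by omega)),
    fun i hi => (F.truncGE a).isZero_of_isStrictlyGE a i hi, ⟨(asIso ((QA A).map (F.πTruncGE a))).symm ≪≫ e⟩⟩

theorem lowEx_of_kflat_ge {K : DRing.Cx A} [DRing.HasLTensorCx A K] {a : ℤ} {E : DRing.Cx A}
    (hE : DRing.IsKFlat A E) (hv : ∀ i : ℤ, i < a → IsZero (E.X i))
    (e : (QA A).obj E ≅ (QA A).obj K) (M : ModuleCat.{u} A) (i : ℤ) (hi : i < a) :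
    Subsingleton (Dual.HD A ((DRing.LTensorCx A K).obj
      (DRing.toD ((CochainComplex.singleFunctor (ModuleCat.{u} A) 0).obj M))) i) := by
  obtain ⟨k⟩ := nonempty_LTensorCx_single_iso K hE e M
  refine (isZero_HF_iff _ i).1 (IsZero.of_iso ((isZero_HF_Q_iff _ i).2 ?_) ((HF A i).mapIso k))
  refine (isZero_homology_iff _ i).2 fun x _ => ⟨0, ?_⟩
  haveI := subsingleton_X_map A (tensorRight M) E i (ModuleCat.subsingleton_of_isZero (hv i hi))
  exact @Subsingleton.elim _ this _ _

end Groth.Agent.DR40
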