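import Groth.Agent.DR40.DCExist
import Groth.Agent.DR39.RHom
import Groth.Agent.DR39.Derived
import Mathlib.Algebra.Homology.DerivedCategory.ShortExact
import Mathlib.Algebra.Homology.HomotopyCategory.DegreewiseSplit

/-! Derived functors computed on adapted complexes are exact, and preserve derived completions. -/

set_option autoImplicit false
set_option linter.style.haveILetI false
set_option linter.unusedSectionVars false

universe u

open CategoryTheory CategoryTheory.Limits CategoryTheory.Pretriangulated MonoidalCategory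

attribute [local instance] HasDerivedCategory.standard

namespace Groth.Agent.DR40

open Groth.Agent.DR39

variable {A : Type u} [CommRing A]

/-- `R` is computed by `Γ` on an adapted class. -/
structure Model (Γ : DRing.Cx A ⥤ DRing.Cx A) (R : Dual.D A ⥤ Dual.D A) where
  cls : DRing.Cx A → Prop
  cls_equiv : ∀ {X Y : DRing.Cx A}, HomotopyEquiv X Y → cls X → cls Y
  res : ∀ X : Dual.D A, ∃ P, cls P ∧ Nonempty ((QA A).obj P ≅ X)
  surj : ∀ P P', cls P → cls P' → Function.Surjective ((QA A).map : (P ⟶ P') → _)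
  cone : ∀ {P P' : DRing.Cx A} (f : P ⟶ P'), cls P → cls P' → cls (CochainComplex.mappingCone f)
  app : ∀ P, cls P → ((QA A).obj (Γ.obj P) ≅ R.obj ((QA A).obj P))
  nat : ∀ {P P' : DRing.Cx A} (hP : cls P) (hP' : cls P') (f : P ⟶ P'),
    (QA A).map (Γ.map f) ≫ (app P' hP').hom = (app P hP).hom ≫ R.map ((QA A).map f)
  zero : ∀ (S : ShortComplex (DRing.Cx A)), Γ.map S.f ≫ Γ.map S.g = 0
  split : ∀ (S : ShortComplex (DRing.Cx A))
    (_ : ∀ i, (S.map (HomologicalComplex.eval (ModuleCat.{u} A) (ComplexShape.up ℤ) i)).Splitting),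
    (ShortComplex.mk (Γ.map S.f) (Γ.map S.g) (zero S)).ShortExact
  smul : ∀ (f : A) (P : DRing.Cx A), Γ.map (f • 𝟙 P) = f • 𝟙 (Γ.obj P)

variable {Γ : DRing.Cx A ⥤ DRing.Cx A} {R : Dual.D A ⥤ Dual.D A}

/-- An isomorphism of the homotopy category lifts to a homotopy equivalence. -/
theorem exists_equiv_of_iso {P P' : DRing.Cx A}
    (e : (HomotopyCategory.quotient (ModuleCat.{u} A) (ComplexShape.up ℤ)).obj P ≅
      (HomotopyCategory.quotient _ _).obj P') :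
    ∃ (h : HomotopyEquiv P P'), (HomotopyCategory.quotient _ _).map h.hom = e.hom := by
  obtain ⟨a, ha⟩ := (HomotopyCategory.quotient (ModuleCat.{u} A) (ComplexShape.up ℤ)).map_surjective e.hom
  obtain ⟨b, hb⟩ := (HomotopyCategory.quotient (ModuleCat.{u} A) (ComplexShape.up ℤ)).map_surjective e.inv
  refine ⟨⟨a, b, HomotopyCategory.homotopyOfEq _ _ ?_, HomotopyCategory.homotopyOfEq _ _ ?_⟩, ha⟩
  · rw [Functor.map_comp, ha, hb, e.hom_inv_id, CategoryTheory.Functor.map_id]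
  · rw [Functor.map_comp, ha, hb, e.inv_hom_id, CategoryTheory.Functor.map_id]

theorem isIso_Q_of_equiv {P P' : DRing.Cx A} (h : HomotopyEquiv P P') : IsIso ((QA A).map h.hom) :=
  ⟨(QA A).map h.inv,
    by rw [← Functor.map_comp, DerivedCategory.Q_map_eq_of_homotopy (C := ModuleCat.{u} A) h.homotopyHomInvId,
      CategoryTheory.Functor.map_id],
    by rw [← Functor.map_comp, DerivedCategory.Q_map_eq_of_homotopy (C := ModuleCat.{u} A) h.homotopyInvHomId,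
      CategoryTheory.Functor.map_id]⟩

theorem Model.map_smul (M : Model Γ R) (f : A) (X : Dual.D A) : R.map (f • 𝟙 X) = f • 𝟙 (R.obj X) := by
  obtain ⟨P, hP, ⟨e⟩⟩ := M.res X
  have h1 : f • 𝟙 X = e.inv ≫ (QA A).map (f • 𝟙 P) ≫ e.hom := by
    show f • 𝟙 X = e.inv ≫ DerivedCategory.Q.map (f • 𝟙 P) ≫ e.hom
    rw [Functor.map_smul, CategoryTheory.Functor.map_id]
    simp [Linear.smul_comp, Linear.comp_smul]
  have h2 : R.map ((QA A).map (f • 𝟙 P)) = f • 𝟙 (R.obj ((QA A).obj P)) := by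
    rw [← cancel_epi (M.app P hP).hom, ← M.nat hP hP, M.smul, Linear.comp_smul, Category.comp_id]
    show DerivedCategory.Q.map _ ≫ _ = _
    rw [Functor.map_smul, CategoryTheory.Functor.map_id, Linear.smul_comp, Category.id_comp]
  rw [h1, R.map_comp, R.map_comp, h2, Linear.smul_comp, Linear.comp_smul, Category.id_comp,
    ← R.map_comp, e.inv_hom_id, CategoryTheory.Functor.map_id]

theorem Model.triangle (M : Model Γ R) {T : Triangle (Dual.D A)} (hT : T ∈ distinguishedTriangles) :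
    ∃ (g' : R.obj T.obj₂ ⟶ R.obj T.obj₃) (h' : R.obj T.obj₃ ⟶ (R.obj T.obj₁)⟦(1 : ℤ)⟧),
      Triangle.mk (R.map T.mor₁) g' h' ∈ distinguishedTriangles := by
  obtain ⟨P₁, hP₁, ⟨e₁⟩⟩ := M.res T.obj₁
  obtain ⟨P₂, hP₂, ⟨e₂⟩⟩ := M.res T.obj₂
  obtain ⟨f, hf⟩ := M.surj P₁ P₂ hP₁ hP₂ (e₁.hom ≫ T.mor₁ ≫ e₂.inv)
  obtain ⟨S, σ, ⟨e⟩⟩ := (HomotopyCategory.distinguished_iff_iso_trianglehOfDegreewiseSplit _).1
    (HomotopyCategory.mappingCone_triangleh_distinguished f)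
  obtain ⟨q₁, (hq₁ : (HomotopyCategory.quotient _ _).map q₁.hom = e.hom.hom₁)⟩ :=
    exists_equiv_of_iso (P := P₁) (P' := S.X₁) (Triangle.π₁.mapIso e : _)
  obtain ⟨q₂, (hq₂ : (HomotopyCategory.quotient _ _).map q₂.hom = e.hom.hom₂)⟩ :=
    exists_equiv_of_iso (P := P₂) (P' := S.X₂) (Triangle.π₂.mapIso e : _)
  obtain ⟨q₃, -⟩ :=
    exists_equiv_of_iso (P := CochainComplex.mappingCone f) (P' := S.X₃) (Triangle.π₃.mapIso e : _)
  have hS₁ := M.cls_equiv q₁ hP₁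
  have hS₂ := M.cls_equiv q₂ hP₂
  have hS₃ := M.cls_equiv q₃ (M.cone f hP₁ hP₂)
  have hS : S.ShortExact :=
    HomologicalComplex.shortExact_of_degreewise_shortExact _ fun i => (σ i).shortExact
  have hsq : (QA A).map f ≫ (QA A).map q₂.hom = (QA A).map q₁.hom ≫ (QA A).map S.f := by
    rw [← Functor.map_comp, ← Functor.map_comp]
    refine DerivedCategory.Q_map_eq_of_homotopy (C := ModuleCat.{u} A) (HomotopyCategory.homotopyOfEq _ _ ?_)
    rw [Functor.map_comp, Functor.map_comp, hq₁, hq₂]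
    exact e.hom.comm₁
  haveI := isIso_Q_of_equiv q₁
  haveI := isIso_Q_of_equiv q₂
  let a₁ : T.obj₁ ≅ (QA A).obj S.X₁ := e₁.symm ≪≫ asIso ((QA A).map q₁.hom)
  let a₂ : T.obj₂ ≅ (QA A).obj S.X₂ := e₂.symm ≪≫ asIso ((QA A).map q₂.hom)
  have ha : T.mor₁ ≫ a₂.hom = a₁.hom ≫ (QA A).map S.f := by
    simp only [a₁, a₂, Iso.trans_hom, Iso.symm_hom, asIso_hom, Category.assoc]
    rw [← hsq, reassoc_of% hf]
    simp
  let E := isoTriangleOfIso₁₂ T (DerivedCategory.triangleOfSES hS) hT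
    (DerivedCategory.triangleOfSES_distinguished hS) a₁ a₂ ha
  let hS' := M.split S σ
  let D := DerivedCategory.triangleOfSES hS'
  let b₁ : R.obj T.obj₁ ≅ (QA A).obj (Γ.obj S.X₁) := R.mapIso a₁ ≪≫ (M.app _ hS₁).symm
  let b₂ : R.obj T.obj₂ ≅ (QA A).obj (Γ.obj S.X₂) := R.mapIso a₂ ≪≫ (M.app _ hS₂).symm
  let b₃ : R.obj T.obj₃ ≅ (QA A).obj (Γ.obj S.X₃) := R.mapIso (Triangle.π₃.mapIso E) ≪≫ (M.app _ hS₃).symm
  refine ⟨b₂.hom ≫ (QA A).map (Γ.map S.g) ≫ b₃.inv, b₃.hom ≫ D.mor₃ ≫ b₁.inv⟦(1 : ℤ)⟧',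
    isomorphic_distinguished D (DerivedCategory.triangleOfSES_distinguished hS') _ ?_⟩
  refine Triangle.isoMk _ _ b₁ b₂ b₃ ?_ ?_ ?_
  · have h1 : (M.app _ hS₁).inv ≫ (QA A).map (Γ.map S.f) = R.map ((QA A).map S.f) ≫ (M.app _ hS₂).inv := by
      rw [Iso.inv_comp_eq, ← Category.assoc, ← M.nat hS₁ hS₂, Category.assoc, Iso.hom_inv_id, Category.comp_id]
    show R.map T.mor₁ ≫ b₂.hom = b₁.hom ≫ (QA A).map (Γ.map S.f)
    simp only [b₁, b₂, Iso.trans_hom, Iso.symm_hom, Functor.mapIso_hom, Category.assoc]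
    rw [h1, ← R.map_comp_assoc, ← R.map_comp_assoc, ha]
  · show (b₂.hom ≫ (QA A).map (Γ.map S.g) ≫ b₃.inv) ≫ b₃.hom = b₂.hom ≫ (QA A).map (Γ.map S.g)
    simp
  · show (b₃.hom ≫ D.mor₃ ≫ b₁.inv⟦(1 : ℤ)⟧') ≫ b₁.hom⟦(1 : ℤ)⟧' = b₃.hom ≫ D.mor₃
    refine (Category.assoc _ _ _).trans (congrArg (b₃.hom ≫ ·) ((Category.assoc _ _ _).trans ?_))
    exact (congrArg (D.mor₃ ≫ ·) ((shiftFunctor (Dual.D A) (1 : ℤ)).mapIso b₁).inv_hom_id).trans
      (Category.comp_id _)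

theorem Model.isZero (M : Model Γ R) {X : Dual.D A} (h : IsZero X) : IsZero (R.obj X) := by
  have hT : Triangle.mk (𝟙 X) (0 : X ⟶ X) 0 ∈ distinguishedTriangles :=
    isomorphic_distinguished _ (contractible_distinguished X) _
      (Triangle.isoMk _ _ (Iso.refl X) (Iso.refl X) (h.iso (isZero_zero _)) rfl
        (h.eq_of_src _ _) (h.eq_of_src _ _))
  obtain ⟨g', h', hd⟩ := M.triangle hT
  exact (Triangle.isZero₃_iff_isIso₁ _ hd).2 (by
    show IsIso (R.map (𝟙 X))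
    infer_instance)

theorem cn_iso (f : A) {X : Dual.D A} {T : Triangle (Dual.D A)} (hT : T ∈ distinguishedTriangles)
    (e₁ : X ≅ T.obj₁) (e₂ : X ≅ T.obj₂) (h : (f • 𝟙 X) ≫ e₂.hom = e₁.hom ≫ T.mor₁) :
    Nonempty (cn f X ≅ T.obj₃) :=
  ⟨Triangle.π₃.mapIso (isoTriangleOfIso₁₂ _ T (cn_distinguished f X) hT e₁ e₂ h)⟩

theorem cn_iso_of_iso (f : A) {X Y : Dual.D A} (e : X ≅ Y) : Nonempty (cn f X ≅ cn f Y) :=
  cn_iso f (cn_distinguished f Y) e e (by
    show (f • 𝟙 X) ≫ e.hom = e.hom ≫ (f • 𝟙 Y)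
    simp)

theorem kosObj_iso : ∀ (fs : List A) {X Y : Dual.D A}, (X ≅ Y) → Nonempty (kosObj fs X ≅ kosObj fs Y)
  | [], _, _, e => ⟨e⟩
  | f :: fs, _, _, e => kosObj_iso fs (cn_iso_of_iso f e).some

theorem Model.kosObj (M : Model Γ R) : ∀ (fs : List A) (X : Dual.D A),
    Nonempty (kosObj fs (R.obj X) ≅ R.obj (kosObj fs X))
  | [], _ => ⟨Iso.refl _⟩
  | f :: fs, X => by
    obtain ⟨g', h', hd⟩ := M.triangle (cn_distinguished f X)
    obtain ⟨e⟩ := cn_iso f (T := Triangle.mk (R.map (f • 𝟙 X)) g' h') hd (Iso.refl (R.obj X))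
      (Iso.refl (R.obj X)) (by
        show (f • 𝟙 _) ≫ 𝟙 _ = 𝟙 _ ≫ R.map (f • 𝟙 X)
        rw [M.map_smul]
        simp)
    obtain ⟨e'⟩ := M.kosObj fs (cn f X)
    exact ⟨(kosObj_iso fs e).some ≪≫ e'⟩

theorem Model.orth (M : Model Γ R) (fs : List A) {I : Ideal A} (hI : Ideal.span {x | x ∈ fs} = I)
    {X : Dual.D A} (h : Orth I X) : Orth I (R.obj X) := by
  obtain ⟨e⟩ := M.kosObj fs X
  exact (orth_iff_kos fs hI _).2 ((M.isZero ((orth_iff_kos fs hI X).1 h)).of_iso e)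

theorem IsCompl.orth_cone {I : Ideal A} {K C : Dual.D A} {η : K ⟶ C} (h : IsCompl I η)
    {Z : Dual.D A} {p : C ⟶ Z} {d : Z ⟶ K⟦(1 : ℤ)⟧} (hT : Triangle.mk η p d ∈ distinguishedTriangles) :
    Orth I Z := fun E hE g => by
  have h0 : p ≫ g = 0 := (h.2 E hE).1 (by
    show η ≫ p ≫ g = η ≫ 0
    rw [comp_zero, ← Category.assoc]
    erw [comp_distTriang_mor_zero₁₂ _ hT]
    exact zero_comp)
  obtain ⟨(k : K⟦(1 : ℤ)⟧ ⟶ E), (hk : g = d ≫ k)⟩ := Triangle.yoneda_exact₃ _ hT g h0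
  obtain ⟨k', hk'⟩ := (h.shift_bijective E hE).2 k
  simp only at hk'
  rw [hk, ← hk', ← Category.assoc]
  erw [comp_distTriang_mor_zero₃₁ _ hT]
  exact zero_comp

/-- An exact functor preserves completions as soon as it preserves completeness of the target. -/
theorem Model.isCompl (M : Model Γ R) (fs : List A) {I : Ideal A} (hI : Ideal.span {x | x ∈ fs} = I)
    {K C : Dual.D A} {η : K ⟶ C} (h : IsCompl I η) (hC : DRing.IsDerivedComplete I (R.obj C)) :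
    IsCompl I (R.map η) := by
  obtain ⟨Z, p, d, hT⟩ := distinguished_cocone_triangle η
  obtain ⟨g', h', hd⟩ := M.triangle hT
  exact ⟨hC, fun E hE => bijective_of_orth hd (M.orth fs hI (h.orth_cone hT)) E hE⟩

end Groth.Agent.DR40
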