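import Groth.Agent.DR39.PC3
import Mathlib.Algebra.Homology.DerivedCategory.Linear

/-! Morphisms in `D(A)` out of two-term complexes with projective top term. -/

set_option autoImplicit false
set_option linter.style.haveILetI false
set_option linter.unusedSectionVars false

universe u

open CategoryTheory CategoryTheory.Limits CategoryTheory.Pretriangulated

attribute [local instance] HasDerivedCategory.standard

namespace Groth.Agent.DR40

open Groth.Agent.DR39

variable {A : Type u} [CommRing A]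

theorem eq_zero_of_isZero {M : ModuleCat.{u} A} (h : IsZero M) (x : M) : x = 0 :=
  haveI := ModuleCat.subsingleton_of_isZero h
  Subsingleton.elim _ _

/-- A linear map killing the kernel of a surjection factors through it. -/
theorem exists_factor_surj {X W N : Type u} [AddCommGroup X] [Module A X] [AddCommGroup W] [Module A W]
    [AddCommGroup N] [Module A N] (Φ : X →ₗ[A] W) (hΦ : Function.Surjective Φ) (G' : X →ₗ[A] N)
    (h : LinearMap.ker Φ ≤ LinearMap.ker G') : ∃ G : W →ₗ[A] N, ∀ x, G (Φ x) = G' x := by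
  refine ⟨(LinearMap.ker Φ).liftQ G' h ∘ₗ (LinearMap.quotKerEquivOfSurjective Φ hΦ).symm.toLinearMap,
    fun x => ?_⟩
  have h2 : (LinearMap.quotKerEquivOfSurjective Φ hΦ).symm (Φ x) = Submodule.Quotient.mk x :=
    (LinearEquiv.symm_apply_eq _).2 rfl
  show (LinearMap.ker Φ).liftQ G' h ((LinearMap.quotKerEquivOfSurjective Φ hΦ).symm (Φ x)) = _
  rw [h2, Submodule.liftQ_apply]

/-- Null homotopy criterion in degrees `-1`, `0`. -/
def HT {M K : DRing.Cx A} (f : M ⟶ K) (h : M.X 0 ⟶ K.X (-1)) : Prop :=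
  f.f (-1) = M.d (-1) 0 ≫ h ∧ f.f 0 = h ≫ K.d (-1) 0

variable {M K : DRing.Cx A}

theorem homotopy_of_ht (hM : ∀ i : ℤ, 0 < i → IsZero (M.X i)) (hK : ∀ i : ℤ, i ≤ -2 → IsZero (K.X i))
    {f : M ⟶ K} {h : M.X 0 ⟶ K.X (-1)} (hh : HT f h) : Nonempty (Homotopy f 0) := by
  classical
  refine ⟨{ hom := fun i j => if e : i = 0 ∧ j = -1 then
              eqToHom (congrArg M.X e.1) ≫ h ≫ eqToHom (congrArg K.X e.2).symm else 0
            zero := fun i j hij => dif_neg ?_
            comm := fun i => ?_ }⟩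
  · rintro ⟨rfl, rfl⟩
    exact hij (by simp)
  · by_cases h1 : i = -1
    · subst h1
      rw [dNext_eq _ (show (ComplexShape.up ℤ).Rel (-1) 0 by simp),
        prevD_eq _ (show (ComplexShape.up ℤ).Rel (-2) (-1) by simp)]
      simp [hh.1]
    · by_cases h2 : i = 0
      · subst h2
        rw [dNext_eq _ (show (ComplexShape.up ℤ).Rel 0 1 by simp),
          prevD_eq _ (show (ComplexShape.up ℤ).Rel (-1) 0 by simp)]
        simp [hh.2]
      · by_cases h3 : 0 < i
        · exact (hM i h3).eq_of_src _ _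
        · exact (hK i (by omega)).eq_of_tgt _ _

theorem ht_of_homotopy (hM : ∀ i : ℤ, 0 < i → IsZero (M.X i)) (hK : ∀ i : ℤ, i ≤ -2 → IsZero (K.X i))
    {f : M ⟶ K} (H : Homotopy f 0) : ∃ h, HT f h := by
  refine ⟨H.hom 0 (-1), ?_, ?_⟩
  · have := H.comm (-1)
    rw [dNext_eq _ (show (ComplexShape.up ℤ).Rel (-1) 0 by simp),
      prevD_eq _ (show (ComplexShape.up ℤ).Rel (-2) (-1) by simp)] at this
    rw [this, (hK (-2) le_rfl).eq_of_tgt (H.hom (-1) (-2)) 0]
    simp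
  · have := H.comm 0
    rw [dNext_eq _ (show (ComplexShape.up ℤ).Rel 0 1 by simp),
      prevD_eq _ (show (ComplexShape.up ℤ).Rel (-1) 0 by simp)] at this
    rw [this, (hM 1 one_pos).eq_of_src (H.hom 1 0) 0]
    simp

/-! Elementwise facts about quasi-isomorphisms. -/

variable {P : DRing.Cx A}

theorem inj_of_quasiIso (s : P ⟶ M) [QuasiIso s] {i j k : ℤ} (hij : i + 1 = j) (hki : k + 1 = i)
    (x : P.X i) (hx : (P.d i j).hom x = 0) (y : M.X k) (hy : (M.d k i).hom y = (s.f i).hom x) :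
    ∃ w : P.X k, (P.d k i).hom w = x := by
  obtain rfl : j = i + 1 := hij.symm
  obtain rfl : k = i - 1 := by omega
  have hb := (DR39.isIso_iff_bijective (HomologicalComplex.homologyMap s i)).1 inferInstance
  obtain ⟨w, hw⟩ := (injective_homologyMap_iff s i).1 hb.1 x hx y hy
  exact ⟨w, hw⟩

theorem surj_of_quasiIso (s : P ⟶ M) [QuasiIso s] {i j k : ℤ} (hij : i + 1 = j) (hki : k + 1 = i)
    (z : M.X i) (hz : (M.d i j).hom z = 0) :
    ∃ x : P.X i, (P.d i j).hom x = 0 ∧ ∃ y : M.X k, (M.d k i).hom y = (s.f i).hom x - z := by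
  obtain rfl : j = i + 1 := hij.symm
  obtain rfl : k = i - 1 := by omega
  have hb := (DR39.isIso_iff_bijective (HomologicalComplex.homologyMap s i)).1 inferInstance
  obtain ⟨x, hx, y, hy⟩ := (surjective_homologyMap_iff s i).1 hb.2 z hz
  exact ⟨x, hx, y, hy⟩

section Descent

variable (s : P ⟶ M) [QuasiIso s] (hP : ∀ i : ℤ, 0 < i → IsZero (P.X i))
  (hM : ∀ i : ℤ, 0 < i → IsZero (M.X i)) (hK : ∀ i : ℤ, i ≤ -2 → IsZero (K.X i))

include hP hM in
theorem exists_lift_pair (p : P.X 0) (x : M.X (-1)) (h : (s.f 0).hom p = (M.d (-1) 0).hom x) :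
    ∃ (y : P.X (-1)) (w : M.X (-2)), (P.d (-1) 0).hom y = p ∧
      (s.f (-1)).hom y + (M.d (-2) (-1)).hom w = x := by
  obtain ⟨y₀, hy₀⟩ := inj_of_quasiIso s (show (0 : ℤ) + 1 = 1 by simp) (show (-1 : ℤ) + 1 = 0 by simp) p
    (eq_zero_of_isZero (hP 1 one_pos) _) x h.symm
  obtain ⟨z, hz, w, hw⟩ := surj_of_quasiIso s (show (-1 : ℤ) + 1 = 0 by simp)
    (show (-2 : ℤ) + 1 = -1 by simp) (x - (s.f (-1)).hom y₀)
    (by rw [map_sub, ← f_apply_d, hy₀, h, sub_self])
  refine ⟨y₀ + z, -w, by rw [map_add, hy₀, hz, add_zero], ?_⟩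
  rw [map_add, map_neg, hw]
  abel

/-- The pairs `(p, x)` with `s p = d x`. -/
def pairs : Submodule A (P.X 0 × M.X (-1)) :=
  LinearMap.ker ((s.f 0).hom ∘ₗ LinearMap.fst A (P.X 0) (M.X (-1)) -
    (M.d (-1) 0).hom ∘ₗ LinearMap.snd A (P.X 0) (M.X (-1)))

theorem mem_pairs (p : P.X 0) (x : M.X (-1)) :
    (p, x) ∈ pairs s ↔ (s.f 0).hom p = (M.d (-1) 0).hom x := by
  simp [pairs, LinearMap.mem_ker, sub_eq_zero]

include hP hM hK in
theorem exists_G (g : P ⟶ K) : ∃ G : pairs s →ₗ[A] K.X (-1),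
    (∀ (y : P.X (-1)) (hy), G ⟨((P.d (-1) 0).hom y, (s.f (-1)).hom y), hy⟩ = (g.f (-1)).hom y) ∧
    (∀ (w : M.X (-2)) (hw), G ⟨(0, (M.d (-2) (-1)).hom w), hw⟩ = 0) ∧
    (∀ v : pairs s, (K.d (-1) 0).hom (G v) = (g.f 0).hom v.1.1) := by
  let Φ₀ : P.X (-1) × M.X (-2) →ₗ[A] P.X 0 × M.X (-1) :=
    ((P.d (-1) 0).hom ∘ₗ LinearMap.fst A (P.X (-1)) (M.X (-2))).prod
      ((s.f (-1)).hom ∘ₗ LinearMap.fst A (P.X (-1)) (M.X (-2)) +
        (M.d (-2) (-1)).hom ∘ₗ LinearMap.snd A (P.X (-1)) (M.X (-2)))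
  have hΦ₀ : ∀ v, Φ₀ v = ((P.d (-1) 0).hom v.1, (s.f (-1)).hom v.1 + (M.d (-2) (-1)).hom v.2) :=
    fun v => rfl
  have hmem : ∀ v, Φ₀ v ∈ pairs s := fun v => by
    rw [hΦ₀, mem_pairs, map_add, d_apply_d, add_zero, f_apply_d]
  let Φ := Φ₀.codRestrict (pairs s) hmem
  have hsurj : Function.Surjective Φ := by
    rintro ⟨⟨p, x⟩, hv⟩
    obtain ⟨y, w, rfl, rfl⟩ := exists_lift_pair s hP hM p x ((mem_pairs s p x).1 hv)
    exact ⟨(y, w), rfl⟩
  have hker : LinearMap.ker Φ ≤ LinearMap.ker ((g.f (-1)).hom ∘ₗ LinearMap.fst A _ _) := by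
    rintro ⟨y, w⟩ hv
    have h0 : Φ₀ (y, w) = 0 := congrArg Subtype.val (LinearMap.mem_ker.1 hv)
    rw [hΦ₀, Prod.ext_iff] at h0
    have h2 : (s.f (-1)).hom y + (M.d (-2) (-1)).hom w = 0 := h0.2
    obtain ⟨t, rfl⟩ := inj_of_quasiIso s (show (-1 : ℤ) + 1 = 0 by simp) (show (-2 : ℤ) + 1 = -1 by simp)
      y h0.1 (-w) (by rw [map_neg]; exact (eq_neg_of_add_eq_zero_left h2).symm)
    rw [LinearMap.mem_ker]
    show (g.f (-1)).hom ((P.d (-2) (-1)).hom t) = 0
    rw [f_apply_d, eq_zero_of_isZero (hK (-2) le_rfl) ((g.f (-2)).hom t), map_zero]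
  obtain ⟨G, hG⟩ := exists_factor_surj Φ hsurj _ hker
  refine ⟨G, fun y hy => ?_, fun w hw => ?_, fun v => ?_⟩
  · have := hG (y, 0)
    rw [show Φ (y, 0) = ⟨((P.d (-1) 0).hom y, (s.f (-1)).hom y), hy⟩ from
      Subtype.ext (by show Φ₀ (y, 0) = _; rw [hΦ₀]; simp)] at this
    exact this
  · have := hG (0, w)
    rw [show Φ (0, w) = ⟨(0, (M.d (-2) (-1)).hom w), hw⟩ from
      Subtype.ext (by show Φ₀ (0, w) = _; rw [hΦ₀]; simp)] at this
    rw [this]
    simp
  · obtain ⟨⟨y, w⟩, rfl⟩ := hsurj v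
    rw [hG]
    show (K.d (-1) 0).hom ((g.f (-1)).hom y) = (g.f 0).hom (Φ₀ (y, w)).1
    rw [hΦ₀, f_apply_d]

variable (hM0 : Module.Projective A (M.X 0))

include hM hM0 in
theorem exists_section : ∃ (σ : M.X 0 →ₗ[A] P.X 0) (τ : M.X 0 →ₗ[A] M.X (-1)),
    ∀ z, (s.f 0).hom (σ z) + (M.d (-1) 0).hom (τ z) = z := by
  have hsurj : Function.Surjective ((s.f 0).hom.coprod (M.d (-1) 0).hom) := by
    intro z
    obtain ⟨x, -, y, hy⟩ := surj_of_quasiIso s (show (0 : ℤ) + 1 = 1 by simp)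
      (show (-1 : ℤ) + 1 = 0 by simp) z (eq_zero_of_isZero (hM 1 one_pos) _)
    refine ⟨(x, -y), ?_⟩
    rw [LinearMap.coprod_apply, map_neg, hy]
    abel
  obtain ⟨ψ, hψ⟩ := Module.projective_lifting_property _ LinearMap.id hsurj
  refine ⟨LinearMap.fst A _ _ ∘ₗ ψ, LinearMap.snd A _ _ ∘ₗ ψ, fun z => ?_⟩
  have := LinearMap.congr_fun hψ z
  rw [LinearMap.comp_apply, LinearMap.coprod_apply, LinearMap.id_apply] at this
  exact this

include hP hM hK hM0 in
theorem exists_descend (g : P ⟶ K) : ∃ (f : M ⟶ K) (k : P.X 0 ⟶ K.X (-1)), HT (s ≫ f - g) k := by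
  obtain ⟨G, hG1, hG2, hG3⟩ := exists_G s hP hM hK g
  obtain ⟨σ, τ, hst⟩ := exists_section s hM hM0
  let L : M.X (-1) →ₗ[A] pairs s := LinearMap.codRestrict (pairs s)
    ((σ ∘ₗ (M.d (-1) 0).hom).prod (LinearMap.id - τ ∘ₗ (M.d (-1) 0).hom)) fun x => by
      refine (mem_pairs s _ _).2 ?_
      show (s.f 0).hom (σ ((M.d (-1) 0).hom x)) =
        (M.d (-1) 0).hom (x - τ ((M.d (-1) 0).hom x))
      have := hst ((M.d (-1) 0).hom x)
      rw [map_sub]
      exact eq_sub_of_add_eq this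
  let L' : P.X 0 →ₗ[A] pairs s := LinearMap.codRestrict (pairs s)
    ((LinearMap.id - σ ∘ₗ (s.f 0).hom).prod (τ ∘ₗ (s.f 0).hom)) fun p => by
      refine (mem_pairs s _ _).2 ?_
      show (s.f 0).hom (p - σ ((s.f 0).hom p)) = (M.d (-1) 0).hom (τ ((s.f 0).hom p))
      have := hst ((s.f 0).hom p)
      rw [map_sub, sub_eq_iff_eq_add, add_comm]
      exact this.symm
  let a : M.X (-1) ⟶ K.X (-1) := ModuleCat.ofHom (G ∘ₗ L)
  let b : M.X 0 ⟶ K.X 0 := ModuleCat.ofHom ((g.f 0).hom ∘ₗ σ)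
  classical
  let f : M ⟶ K :=
  { f := fun i => if e : i = -1 then eqToHom (congrArg M.X e) ≫ a ≫ eqToHom (congrArg K.X e).symm
      else if e : i = 0 then eqToHom (congrArg M.X e) ≫ b ≫ eqToHom (congrArg K.X e).symm else 0
    comm' := by
      intro i j hij
      change i + 1 = j at hij
      subst hij
      by_cases h1 : i = -1
      · subst h1
        rw [dif_pos rfl, dif_neg (by omega), dif_pos (by omega)]
        ext x
        show (K.d (-1) 0).hom (G (L x)) = (g.f 0).hom (σ ((M.d (-1) 0).hom x))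
        rw [hG3]
        rfl
      · by_cases h2 : i = -2
        · subst h2
          rw [dif_neg h1, dif_neg (by omega), dif_pos (by omega), zero_comp]
          ext w
          show (0 : K.X (-1)) = G (L ((M.d (-2) (-1)).hom w))
          refine ((congrArg G ?_).trans (hG2 w ?_)).symm
          · apply Subtype.ext
            show (σ ((M.d (-1) 0).hom ((M.d (-2) (-1)).hom w)),
              (M.d (-2) (-1)).hom w - τ ((M.d (-1) 0).hom ((M.d (-2) (-1)).hom w))) =
              ((0 : P.X 0), (M.d (-2) (-1)).hom w)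
            simp [d_apply_d]
          · exact (mem_pairs s _ _).2 (by simp [d_apply_d])
        · by_cases h3 : 0 ≤ i
          · have hd : M.d i (i + 1) = 0 := (hM (i + 1) (by omega)).eq_of_tgt _ _
            rw [hd, zero_comp]
            by_cases h4 : i = 0
            · subst h4
              rw [dif_neg h1, dif_pos rfl]
              ext z
              show (K.d 0 1).hom ((g.f 0).hom (σ z)) = 0
              rw [← f_apply_d, eq_zero_of_isZero (hP 1 one_pos) ((P.d 0 1).hom (σ z)), map_zero]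
            · rw [dif_neg h1, dif_neg h4, zero_comp]
          · exact (hK (i + 1) (by omega)).eq_of_tgt _ _ }
  have hf1 : f.f (-1) = a := by
    simp only [f]
    rw [dif_pos trivial]
    simp
  have hf0 : f.f 0 = b := by
    simp only [f]
    rw [dif_neg (by omega), dif_pos trivial]
    simp
  refine ⟨f, ModuleCat.ofHom (-(G ∘ₗ L')), ?_, ?_⟩
  · rw [HomologicalComplex.sub_f_apply, HomologicalComplex.comp_f, hf1]
    ext y
    show G (L ((s.f (-1)).hom y)) - (g.f (-1)).hom y = -(G (L' ((P.d (-1) 0).hom y)))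
    have hy : ((P.d (-1) 0).hom y, (s.f (-1)).hom y) ∈ pairs s := (mem_pairs s _ _).2 (f_apply_d s (-1) 0 y)
    rw [← hG1 y hy, ← map_sub, ← map_neg]
    congr 1
    apply Subtype.ext
    refine Prod.ext ?_ ?_
    · show σ ((M.d (-1) 0).hom ((s.f (-1)).hom y)) - (P.d (-1) 0).hom y =
        -((P.d (-1) 0).hom y - σ ((s.f 0).hom ((P.d (-1) 0).hom y)))
      rw [f_apply_d]; abel
    · show (s.f (-1)).hom y - τ ((M.d (-1) 0).hom ((s.f (-1)).hom y)) - (s.f (-1)).hom y =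
        -(τ ((s.f 0).hom ((P.d (-1) 0).hom y)))
      rw [f_apply_d]; abel
  · rw [HomologicalComplex.sub_f_apply, HomologicalComplex.comp_f, hf0]
    ext p
    show (g.f 0).hom (σ ((s.f 0).hom p)) - (g.f 0).hom p = (K.d (-1) 0).hom (-(G (L' p)))
    rw [map_neg, hG3]
    show _ = -(g.f 0).hom (p - σ ((s.f 0).hom p))
    rw [map_sub]; abel

include hP hM hM0 in
theorem exists_ht_descend (f : M ⟶ K) (k : P.X 0 ⟶ K.X (-1)) (hk : HT (s ≫ f) k)
    (hK : ∀ i : ℤ, i ≤ -2 → IsZero (K.X i)) : ∃ h, HT f h := by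
  obtain ⟨σ, τ, hst⟩ := exists_section s hM hM0
  refine ⟨ModuleCat.ofHom (k.hom ∘ₗ σ + (f.f (-1)).hom ∘ₗ τ), ?_, ?_⟩
  · ext x
    show (f.f (-1)).hom x = k.hom (σ ((M.d (-1) 0).hom x)) + (f.f (-1)).hom (τ ((M.d (-1) 0).hom x))
    obtain ⟨y, w, hy, hw⟩ := exists_lift_pair s hP hM (σ ((M.d (-1) 0).hom x))
      (x - τ ((M.d (-1) 0).hom x)) (by rw [map_sub]; exact eq_sub_of_add_eq (hst _))
    have h1 : (f.f (-1)).hom ((s.f (-1)).hom y) = k.hom ((P.d (-1) 0).hom y) := by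
      have := hk.1
      rw [HomologicalComplex.comp_f] at this
      exact LinearMap.congr_fun (congrArg ModuleCat.Hom.hom this) y
    have h2 : (f.f (-1)).hom ((M.d (-2) (-1)).hom w) = 0 := by
      rw [f_apply_d, eq_zero_of_isZero (hK (-2) le_rfl) ((f.f (-2)).hom w), map_zero]
    rw [← sub_eq_iff_eq_add, ← map_sub, ← hw, map_add, h1, h2, hy, add_zero]
  · ext z
    show (f.f 0).hom z = (K.d (-1) 0).hom (k.hom (σ z) + (f.f (-1)).hom (τ z))
    have h1 : (f.f 0).hom ((s.f 0).hom (σ z)) = (K.d (-1) 0).hom (k.hom (σ z)) := by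
      have := hk.2
      rw [HomologicalComplex.comp_f] at this
      exact LinearMap.congr_fun (congrArg ModuleCat.Hom.hom this) (σ z)
    rw [map_add, ← h1, ← f_apply_d, ← map_add, hst]

end Descent

theorem exists_resolution (M : DRing.Cx A) (hM : ∀ i : ℤ, 0 < i → IsZero (M.X i)) :
    ∃ (P : DRing.Cx A) (s : P ⟶ M), QuasiIso s ∧ (∀ i : ℤ, 0 < i → IsZero (P.X i)) ∧
      P.IsKProjective := by
  have hb : ∀ j : ℤ, 0 < j → IsZero (M.homology j) := fun j hj =>
    (isZero_homology_iff M j).2 fun x _ => ⟨0, by rw [map_zero, eq_zero_of_isZero (hM j hj) x]⟩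
  refine ⟨Res.cx M 0 hb, Res.aug M 0 hb, Res.quasiIso_aug M 0 hb, Res.vanishesAbove M 0 hb,
    isKProjective_of_bddAbove _ 0 (Res.vanishesAbove M 0 hb) fun i => ?_⟩
  haveI := Res.free M 0 hb i
  exact Module.Projective.of_free

variable (hM : ∀ i : ℤ, 0 < i → IsZero (M.X i)) (hM0 : Module.Projective A (M.X 0))
  (hK : ∀ i : ℤ, i ≤ -2 → IsZero (K.X i))

include hM hM0 hK in
theorem Q_map_surj : Function.Surjective ((QA A).map : (M ⟶ K) → _) := by
  intro φ
  obtain ⟨P, s, hs, hP, hPp⟩ := exists_resolution M hM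
  obtain ⟨g, hg⟩ := DR39.Q_map_surjective P K ((QA A).map s ≫ φ)
  obtain ⟨f, k, hk⟩ := exists_descend s hP hM hK hM0 g
  obtain ⟨H⟩ := homotopy_of_ht hP hK hk
  have := DerivedCategory.Q_map_eq_of_homotopy (C := ModuleCat.{u} A) H
  rw [Functor.map_sub, Functor.map_zero, sub_eq_zero, Functor.map_comp, hg] at this
  exact ⟨f, (cancel_epi ((QA A).map s)).1 this⟩

include hM hM0 hK in
theorem Q_map_zero_iff (f : M ⟶ K) : (QA A).map f = 0 ↔ ∃ h, HT f h := by
  constructor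
  · intro h
    obtain ⟨P, s, hs, hP, hPp⟩ := exists_resolution M hM
    obtain ⟨H⟩ := (DR39.Q_map_eq_iff (s ≫ f) 0).1 (by
      rw [Functor.map_comp, h, comp_zero, Functor.map_zero])
    obtain ⟨k, hk⟩ := ht_of_homotopy hP hK H
    exact exists_ht_descend s hP hM hM0 f k hk hK
  · rintro ⟨h, hh⟩
    obtain ⟨H⟩ := homotopy_of_ht hM hK hh
    rw [DerivedCategory.Q_map_eq_of_homotopy (C := ModuleCat.{u} A) H, Functor.map_zero]

include hM hM0 hK in
theorem Qh_map_bijective : Function.Bijective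
    (fun φ : (HomotopyCategory.quotient (ModuleCat.{u} A) (ComplexShape.up ℤ)).obj M ⟶
        (HomotopyCategory.quotient (ModuleCat.{u} A) (ComplexShape.up ℤ)).obj K =>
      DerivedCategory.Qh.map φ) := by
  have key : ∀ f : M ⟶ K, DerivedCategory.Qh.map
      ((HomotopyCategory.quotient (ModuleCat.{u} A) (ComplexShape.up ℤ)).map f) =
      (DerivedCategory.quotientCompQhIso (ModuleCat.{u} A)).hom.app M ≫ (QA A).map f ≫
        (DerivedCategory.quotientCompQhIso (ModuleCat.{u} A)).inv.app K := fun f =>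
    (NatIso.naturality_2 (DerivedCategory.quotientCompQhIso (ModuleCat.{u} A)) f).symm
  constructor
  · intro φ ψ h
    obtain ⟨f, rfl⟩ := (HomotopyCategory.quotient _ (ComplexShape.up ℤ)).map_surjective φ
    obtain ⟨g, rfl⟩ := (HomotopyCategory.quotient _ (ComplexShape.up ℤ)).map_surjective ψ
    simp only [key, cancel_epi, cancel_mono] at h
    obtain ⟨k, hk⟩ := (Q_map_zero_iff hM hM0 hK (f - g)).1 (by rw [Functor.map_sub, h, sub_self])
    obtain ⟨H⟩ := homotopy_of_ht hM hK hk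
    exact HomotopyCategory.eq_of_homotopy _ _ (Homotopy.equivSubZero.symm H)
  · intro φ
    obtain ⟨f, hf⟩ := Q_map_surj hM hM0 hK
      ((DerivedCategory.quotientCompQhIso (ModuleCat.{u} A)).inv.app M ≫ φ ≫
        (DerivedCategory.quotientCompQhIso (ModuleCat.{u} A)).hom.app K)
    refine ⟨(HomotopyCategory.quotient _ (ComplexShape.up ℤ)).map f, ?_⟩
    simp only [key, hf, Category.assoc, Iso.hom_inv_id_app, Iso.hom_inv_id_app_assoc]
    exact Category.comp_id φ

end Groth.Agent.DR40
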