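import Groth.Agent.DR40.TwoTerm

/-! Two-term representatives and `Ext¹` out of them. -/

set_option autoImplicit false
set_option linter.style.haveILetI false
set_option linter.unusedSectionVars false

universe u

open CategoryTheory CategoryTheory.Limits CategoryTheory.Pretriangulated

attribute [local instance] HasDerivedCategory.standard

namespace Groth.Agent.DR40

open Groth.Agent.DR39

variable {A : Type u} [CommRing A]

/-! ### Quotient complexes -/

/-- `S` is stable under the differential. -/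
def StableD (E : DRing.Cx A) (S : ∀ i, Submodule A (E.X i)) : Prop :=
  ∀ i j : ℤ, i + 1 = j → S i ≤ (S j).comap (E.d i j).hom

variable {E : DRing.Cx A} {S : ∀ i, Submodule A (E.X i)}

/-- The quotient of `E` by a stable family of submodules. -/
noncomputable def qCx (hS : StableD E S) : DRing.Cx A where
  X i := ModuleCat.of A (E.X i ⧸ S i)
  d i j := if h : i + 1 = j then
      ModuleCat.ofHom (Submodule.mapQ (S i) (S j) (E.d i j).hom (hS i j h)) else 0
  shape i j h := dif_neg h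
  d_comp_d' i j k hij hjk := by
    change i + 1 = j at hij
    change j + 1 = k at hjk
    rw [dif_pos hij, dif_pos hjk]
    refine ModuleCat.hom_ext (LinearMap.ext fun x => ?_)
    obtain ⟨x, rfl⟩ := Submodule.mkQ_surjective _ x
    show Submodule.Quotient.mk ((E.d j k).hom ((E.d i j).hom x)) = 0
    rw [d_apply_d, Submodule.Quotient.mk_zero]

/-- The projection. -/
noncomputable def qπ (hS : StableD E S) : E ⟶ qCx hS where
  f i := ModuleCat.ofHom (S i).mkQ
  comm' i j hij := by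
    change i + 1 = j at hij
    have : (qCx hS).d i j = ModuleCat.ofHom (Submodule.mapQ (S i) (S j) (E.d i j).hom (hS i j hij)) :=
      dif_pos hij
    rw [this]
    rfl

theorem qπ_surj (hS : StableD E S) (i : ℤ) : Function.Surjective ((qπ hS).f i).hom :=
  Submodule.mkQ_surjective _

theorem qπ_eq_zero_iff (hS : StableD E S) (i : ℤ) (x : E.X i) :
    ((qπ hS).f i).hom x = 0 ↔ x ∈ S i := Submodule.Quotient.mk_eq_zero _

theorem qCx_isZero_of_top (hS : StableD E S) {i : ℤ} (h : S i = ⊤) : IsZero ((qCx hS).X i) :=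
  @ModuleCat.isZero_of_subsingleton _ _ _
    (Submodule.Quotient.subsingleton_iff.2 h : Subsingleton (E.X i ⧸ S i))

theorem qCx_isZero_of_isZero (hS : StableD E S) {i : ℤ} (h : IsZero (E.X i)) :
    IsZero ((qCx hS).X i) := by
  haveI := ModuleCat.subsingleton_of_isZero h
  exact @ModuleCat.isZero_of_subsingleton _ _ _
    ((Submodule.mkQ_surjective (S i)).subsingleton : Subsingleton (E.X i ⧸ S i))

/-- The degree `-1`, `0` truncation. -/
noncomputable def truncSub (E : DRing.Cx A) (i : ℤ) : Submodule A (E.X i) :=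
  if i < -1 then ⊤ else if i = -1 then LinearMap.range (E.d (i - 1) i).hom else ⊥

theorem truncSub_stable (E : DRing.Cx A) : StableD E (truncSub E) := by
  intro i j hij x hx
  rw [Submodule.mem_comap]
  unfold truncSub at hx ⊢
  by_cases h1 : j < -1
  · rw [if_pos h1]; trivial
  rw [if_neg h1]
  by_cases h2 : j = -1
  · rw [if_pos h2]
    obtain rfl : i = j - 1 := by omega
    exact LinearMap.mem_range_self _ x
  rw [if_neg h2]
  by_cases h3 : i = -1
  · rw [if_neg (by omega), if_pos h3] at hx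
    obtain ⟨y, rfl⟩ := hx
    simp [d_apply_d]
  · rw [if_neg (by omega), if_neg h3] at hx
    simp [(Submodule.mem_bot A).1 hx]

/-- The kernel of the differential in degree `-1`. -/
noncomputable def kerSub (E : DRing.Cx A) (i : ℤ) : Submodule A (E.X i) :=
  if i = -1 then LinearMap.ker (E.d i (i + 1)).hom else ⊥

theorem kerSub_stable (E : DRing.Cx A) : StableD E (kerSub E) := by
  intro i j hij x hx
  rw [Submodule.mem_comap]
  unfold kerSub at hx ⊢
  by_cases h3 : i = -1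
  · rw [if_pos h3, LinearMap.mem_ker] at hx
    subst hij
    rw [hx]
    exact Submodule.zero_mem _
  · rw [if_neg h3] at hx
    simp [(Submodule.mem_bot A).1 hx]

/-- The truncation of a complex in degrees `≤ 0` and exact in degrees `< -1` is quasi-isomorphic to it. -/
theorem quasiIso_trunc (P : DRing.Cx A)
    (hH : ∀ i : ℤ, i < -1 → IsZero (P.homology i)) : QuasiIso (qπ (truncSub_stable P)) := by
  have hbot : ∀ i : ℤ, -1 < i → truncSub P i = ⊥ := fun i hi => by
    unfold truncSub; rw [if_neg (by omega), if_neg (by omega)]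
  refine ⟨fun i => quasiIsoAt_of_elements _ i (fun x hx y hy => ?_) (fun z hz => ?_)⟩
  · obtain ⟨y, rfl⟩ := qπ_surj (truncSub_stable P) (i - 1) y
    rw [← f_apply_d, ← sub_eq_zero, ← map_sub, qπ_eq_zero_iff] at hy
    by_cases h1 : i < -1
    · exact (isZero_homology_iff P i).1 (hH i h1) x hx
    by_cases h2 : i = -1
    · unfold truncSub at hy
      rw [if_neg h1, if_pos h2] at hy
      have := sub_mem (LinearMap.mem_range_self (P.d (i - 1) i).hom y) hy
      rwa [sub_sub_cancel] at this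
    · rw [hbot i (by omega), Submodule.mem_bot, sub_eq_zero] at hy
      exact ⟨y, hy⟩
  · obtain ⟨x, rfl⟩ := qπ_surj (truncSub_stable P) i z
    by_cases h1 : i < -1
    · refine ⟨0, map_zero _, ?_⟩
      have : truncSub P i = ⊤ := by unfold truncSub; rw [if_pos h1]
      rw [(qπ_eq_zero_iff (truncSub_stable P) i x).2 (by rw [this]; trivial), map_zero, sub_zero]
      exact Submodule.zero_mem _
    · refine ⟨x, ?_, by rw [sub_self]; exact Submodule.zero_mem _⟩
      rw [← f_apply_d, qπ_eq_zero_iff, hbot (i + 1) (by omega)] at hz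
      exact hz

/-! ### Two-term representatives -/

/-- `H^i(K) = 0` outside degrees `-1`, `0`. -/
theorem acyc_one {K : Dual.D A} (hK : ∀ i : ℤ, i ≠ -1 → i ≠ 0 → Subsingleton (Dual.HD A K i)) :
    Acyc (0 + 1) K := fun i hi => (isZero_HF_iff K i).2 (hK i (by omega) (by omega))

theorem exists_trunc_rep {P : DRing.Cx A} {K : Dual.D A} (e : (QA A).obj P ≅ K)
    (hP : DRing.VanishesAbove P 0)
    (hK : ∀ i : ℤ, i ≠ -1 → i ≠ 0 → Subsingleton (Dual.HD A K i)) :
    DRing.VanishesOutside (qCx (truncSub_stable P)) (-1) 0 ∧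
      Nonempty ((qCx (truncSub_stable P)).X 0 ≅ P.X 0) ∧
      Nonempty (DRing.toD (qCx (truncSub_stable P)) ≅ K) := by
  have hH : ∀ i : ℤ, i < -1 → IsZero (P.homology i) := fun i hi =>
    (isZero_HF_Q_iff P i).1 (((isZero_HF_iff K i).2 (hK i (by omega) (by omega))).of_iso ((HF A i).mapIso e))
  haveI := quasiIso_trunc P hH
  refine ⟨fun i hi => ?_, ⟨?_⟩, ⟨(asIso ((QA A).map (qπ (truncSub_stable P)))).symm ≪≫ e⟩⟩
  · rcases hi with hi | hi
    · exact qCx_isZero_of_top _ (if_pos hi)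
    · exact qCx_isZero_of_isZero _ (hP i hi)
  · haveI : IsIso ((qπ (truncSub_stable P)).f 0) := by
      rw [DR39.isIso_iff_bijective]
      refine ⟨(injective_iff_map_eq_zero _).2 fun x hx => ?_, qπ_surj _ _⟩
      rw [qπ_eq_zero_iff] at hx
      exact (Submodule.mem_bot A).1 (by simpa [truncSub] using hx)
    exact (asIso ((qπ (truncSub_stable P)).f 0)).symm

theorem exists_twoTerm_free (K : Dual.D A)
    (hK : ∀ i : ℤ, i ≠ -1 → i ≠ 0 → Subsingleton (Dual.HD A K i)) :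
    ∃ E : DRing.Cx A, DRing.VanishesOutside E (-1) 0 ∧ Module.Free A (E.X 0) ∧
      Nonempty (DRing.toD E ≅ K) := by
  obtain ⟨P, hP, hfree, ⟨e⟩⟩ := rep_free_of_acyc (acyc_one hK)
  obtain ⟨h1, ⟨e0⟩, h3⟩ := exists_trunc_rep e ((vanishesAbove_iff P 0).2 hP) hK
  haveI : Module.Free A (P.X 0) := hfree 0
  exact ⟨_, h1, Module.Free.of_equiv e0.toLinearEquiv.symm, h3⟩

theorem exists_twoTerm_finite_free [IsNoetherianRing A] (K : Dual.D A)
    (hK : ∀ i : ℤ, i ≠ -1 → i ≠ 0 → Subsingleton (Dual.HD A K i))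
    (h1 : Module.Finite A (Dual.HD A K (-1))) (h0 : Module.Finite A (Dual.HD A K 0)) :
    ∃ E : DRing.Cx A, DRing.VanishesOutside E (-1) 0 ∧ Module.Free A (E.X 0) ∧
      Module.Finite A (E.X 0) ∧ Module.Finite A (E.X (-1)) ∧ Nonempty (DRing.toD E ≅ K) := by
  have hpc : ∀ m, PC m K := fun m => pc_of_homology (acyc_one hK) fun i _ => by
    have hfin : Module.Finite A ((HF A i).obj K) := by
      by_cases h : i = -1
      · subst h; exact h1
      by_cases h' : i = 0
      · subst h'; exact h0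
      haveI := hK i h h'
      exact Module.Finite.of_finite
    exact pc_inD_of_fp_of_coherent (fun I _ => Module.finitePresentation_of_finite A I) _
      (Module.finitePresentation_of_finite A _) _
  obtain ⟨P, hP, hff, ⟨e⟩⟩ := baff_of_forall_pc (acyc_one hK) hpc
  obtain ⟨hv, ⟨e0⟩, h3⟩ := exists_trunc_rep e ((vanishesAbove_iff P 0).2 hP) hK
  haveI : Module.Free A (P.X 0) := (hff 0).2
  haveI : Module.Finite A (P.X 0) := (hff 0).1
  haveI : Module.Finite A (P.X (-1)) := (hff (-1)).1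
  exact ⟨_, hv, Module.Free.of_equiv e0.toLinearEquiv.symm, Module.Finite.equiv e0.toLinearEquiv.symm,
    Module.Finite.of_surjective _ (qπ_surj (truncSub_stable P) (-1)), h3⟩

/-! ### `Ext¹` to modules -/

/-- `N[1]` as a complex. -/
noncomputable abbrev N1 (N : ModuleCat.{u} A) : DRing.Cx A :=
  (HomologicalComplex.single (ModuleCat.{u} A) (ComplexShape.up ℤ) (-1)).obj N

theorem isZero_N1 (N : ModuleCat.{u} A) (i : ℤ) (h : i ≠ -1) : IsZero ((N1 N).X i) :=
  HomologicalComplex.isZero_single_obj_X _ _ _ _ h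

/-- The class of a complex in degree `-1`. -/
noncomputable def n1Iso (N : ModuleCat.{u} A) :
    (QA A).obj (N1 N) ≅ (Dual.inD A N)⟦(1 : ℤ)⟧ := (singleShiftIso N (-1) 1 (by omega)).symm

/-- The chain map to `N[1]` of a linear map in degree `-1`. -/
noncomputable def toN1 (M : DRing.Cx A) {N : ModuleCat.{u} A} (f : M.X (-1) ⟶ N)
    (hf : M.d (-2) (-1) ≫ f = 0) : M ⟶ N1 N :=
  HomologicalComplex.mkHomToSingle f fun i hi => by
    change i + 1 = -1 at hi
    obtain rfl : i = -2 := by omega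
    exact hf

/-- The class in `Ext¹` of a linear map in degree `-1`. -/
noncomputable def cls1 (M : DRing.Cx A) {N : ModuleCat.{u} A} (f : M.X (-1) ⟶ N)
    (hf : M.d (-2) (-1) ≫ f = 0) : DRing.toD M ⟶ (Dual.inD A N)⟦(1 : ℤ)⟧ :=
  (QA A).map (toN1 M f hf) ≫ (n1Iso N).hom

theorem smul_cls1 (M : DRing.Cx A) {N : ModuleCat.{u} A} (f : M.X (-1) ⟶ N)
    (hf : M.d (-2) (-1) ≫ f = 0) (a : A) :
    a • cls1 M f hf = cls1 M (a • f) (by rw [Linear.comp_smul, hf, smul_zero]) := by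
  have : a • toN1 M f hf = toN1 M (a • f) (by rw [Linear.comp_smul, hf, smul_zero]) := by
    refine HomologicalComplex.to_single_hom_ext ?_
    simp [toN1]
  rw [cls1, cls1, ← this, ← Linear.smul_comp]
  refine congrArg (fun t => t ≫ (n1Iso N).hom) ?_
  rw [Functor.map_smul]

theorem comp_cls1 {M K : DRing.Cx A} (φ : M ⟶ K) {N : ModuleCat.{u} A} (f : K.X (-1) ⟶ N)
    (hf : K.d (-2) (-1) ≫ f = 0) :
    (QA A).map φ ≫ cls1 K f hf = cls1 M (φ.f (-1) ≫ f)
      (by rw [← Category.assoc, ← φ.comm, Category.assoc, hf, comp_zero]) := by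
  rw [cls1, cls1, ← Category.assoc, ← Functor.map_comp]
  congr 2
  refine HomologicalComplex.to_single_hom_ext ?_
  simp [toN1]

variable {M : DRing.Cx A} (hM : ∀ i : ℤ, 0 < i → IsZero (M.X i)) (hM0 : Module.Projective A (M.X 0))

include hM hM0 in
theorem cls1_eq_zero_iff {N : ModuleCat.{u} A} (f : M.X (-1) ⟶ N) (hf : M.d (-2) (-1) ≫ f = 0) :
    cls1 M f hf = 0 ↔ ∃ h : M.X 0 ⟶ N, f = M.d (-1) 0 ≫ h := by
  rw [cls1, ← cancel_mono (n1Iso N).inv, Category.assoc, Iso.hom_inv_id, Category.comp_id, zero_comp,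
    Q_map_zero_iff hM hM0 (fun i hi => isZero_N1 N i (by omega))]
  constructor
  · rintro ⟨h, h1, -⟩
    refine ⟨h ≫ (HomologicalComplex.singleObjXSelf (ComplexShape.up ℤ) (-1) N).hom, ?_⟩
    rw [← Category.assoc, ← h1]
    simp [toN1]
  · rintro ⟨h, hh⟩
    refine ⟨h ≫ (HomologicalComplex.singleObjXSelf (ComplexShape.up ℤ) (-1) N).inv, ?_,
      (isZero_N1 N 0 (by omega)).eq_of_tgt _ _⟩
    simp [toN1, hh]

include hM hM0 in
theorem exists_cls1 {N : ModuleCat.{u} A} (ξ : DRing.toD M ⟶ (Dual.inD A N)⟦(1 : ℤ)⟧) :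
    ∃ (f : M.X (-1) ⟶ N) (hf : M.d (-2) (-1) ≫ f = 0), ξ = cls1 M f hf := by
  obtain ⟨g, hg⟩ := Q_map_surj hM hM0 (fun i hi => isZero_N1 N i (by omega)) (ξ ≫ (n1Iso N).inv)
  refine ⟨g.f (-1) ≫ (HomologicalComplex.singleObjXSelf (ComplexShape.up ℤ) (-1) N).hom, ?_, ?_⟩
  · rw [← Category.assoc, ← g.comm, (isZero_N1 N (-2) (by omega)).eq_of_tgt (g.f (-2)) 0,
      zero_comp, zero_comp]
  · have : toN1 M (g.f (-1) ≫ (HomologicalComplex.singleObjXSelf (ComplexShape.up ℤ) (-1) N).hom)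
        (by rw [← Category.assoc, ← g.comm, (isZero_N1 N (-2) (by omega)).eq_of_tgt (g.f (-2)) 0,
          zero_comp, zero_comp]) = g := by
      refine HomologicalComplex.to_single_hom_ext ?_
      simp [toN1]
    rw [cls1, this, hg, Category.assoc, Iso.inv_hom_id, Category.comp_id]

include hM hM0 in
theorem ext_one_map_zero_iff {K : DRing.Cx A} (hK : ∀ i : ℤ, i ≠ -1 → i ≠ 0 → IsZero (K.X i))
    (hK0 : Module.Projective A (K.X 0)) (a : M ⟶ K) :
    (∀ (N : Type u) [AddCommGroup N] [Module A N] (ξ : DRing.toD K ⟶ (Dual.inD A N)⟦(1 : ℤ)⟧),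
        DerivedCategory.Q.map a ≫ ξ = 0) ↔
      ∃ h : M.X 0 ⟶ K.X (-1), a.f (-1) + M.d (-1) 0 ≫ h = 0 := by
  have hK' : ∀ i : ℤ, 0 < i → IsZero (K.X i) := fun i hi => hK i (by omega) (by omega)
  constructor
  · intro h
    have hd : K.d (-2) (-1) ≫ 𝟙 (K.X (-1)) = 0 := (hK (-2) (by omega) (by omega)).eq_of_src _ _
    have h' : (QA A).map a ≫ cls1 K (𝟙 (K.X (-1))) hd = 0 := h (K.X (-1)) _
    rw [comp_cls1, cls1_eq_zero_iff hM hM0] at h'
    obtain ⟨g, hg⟩ := h'
    refine ⟨-g, ?_⟩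
    rw [Preadditive.comp_neg, ← hg, Category.comp_id, add_neg_cancel]
  · rintro ⟨g, hg⟩ N _ _ ξ
    obtain ⟨f, hf, rfl⟩ := exists_cls1 (N := ModuleCat.of A N) hK' hK0 ξ
    refine (comp_cls1 a f hf).trans ?_
    rw [cls1_eq_zero_iff hM hM0]
    refine ⟨-g ≫ f, ?_⟩
    rw [eq_neg_of_add_eq_zero_left hg]
    ext x
    simp

/-- `a` kills `Ext¹(K, N)` for all modules `N`. -/
def Ann (a : A) (K : Dual.D A) : Prop :=
  ∀ (N : Type u) [AddCommGroup N] [Module A N] (ξ : K ⟶ (Dual.inD A N)⟦(1 : ℤ)⟧), a • ξ = 0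

theorem Ann.of_iso {a : A} {K K' : Dual.D A} (h : Ann a K) (e : K ≅ K') : Ann a K' := by
  intro N _ _ ξ
  rw [← cancel_epi e.hom, comp_zero, Linear.comp_smul]
  exact h N _

/-- Multiplication by `a` on `E^{-1}` factors through the differential. -/
def Fac (E : DRing.Cx A) (a : A) : Prop :=
  ∃ h : E.X 0 ⟶ E.X (-1), E.d (-1) 0 ≫ h = a • 𝟙 (E.X (-1))

variable {E : DRing.Cx A} (hE : DRing.VanishesOutside E (-1) 0) (hE0 : Module.Projective A (E.X 0))

include hE hE0 in
theorem ann_iff_fac (a : A) : Ann a (DRing.toD E) ↔ Fac E a := by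
  have hE' : ∀ i : ℤ, 0 < i → IsZero (E.X i) := fun i hi => hE i (Or.inr hi)
  constructor
  · intro h
    have hd : E.d (-2) (-1) ≫ 𝟙 (E.X (-1)) = 0 := (hE (-2) (Or.inl (by omega))).eq_of_src _ _
    have h' : a • cls1 E (𝟙 (E.X (-1))) hd = 0 := h (E.X (-1)) _
    rw [smul_cls1, cls1_eq_zero_iff hE' hE0] at h'
    obtain ⟨g, hg⟩ := h'
    exact ⟨g, hg.symm⟩
  · rintro ⟨g, hg⟩ N _ _ ξ
    obtain ⟨f, hf, rfl⟩ := exists_cls1 (N := ModuleCat.of A N) hE' hE0 ξ
    refine (smul_cls1 E f hf a).trans ?_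
    rw [cls1_eq_zero_iff hE' hE0]
    exact ⟨g ≫ f, by rw [← Category.assoc, hg, Linear.smul_comp, Category.id_comp]⟩

/-- Precomposition with a map inducing iso on `H⁰` and epi on `H^{-1}` is injective on maps to objects `≥ -1`. -/
theorem precomp_eq_zero {K K' : Dual.D A} (α : K ⟶ K')
    (hK : ∀ i : ℤ, i ≠ -1 → i ≠ 0 → Subsingleton (Dual.HD A K i))
    (hK' : ∀ i : ℤ, i ≠ -1 → i ≠ 0 → Subsingleton (Dual.HD A K' i))
    (h0 : IsIso ((DerivedCategory.homologyFunctor (ModuleCat.{u} A) 0).map α))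
    (h1 : Epi ((DerivedCategory.homologyFunctor (ModuleCat.{u} A) (-1)).map α))
    {Y : Dual.D A} (hY : Y.IsGE (-1)) (g : K' ⟶ Y) (hg : α ≫ g = 0) : g = 0 := by
  obtain ⟨C, p, q, hT⟩ := distinguished_cocone_triangle α
  have hC : Acyc (-1) C := (acyc_obj₃_iff _ hT (-1)).2 ⟨fun i hi => by
    by_cases h : i = 0
    · subst h; exact h0
    · have z1 : IsZero ((HF A i).obj K) := (isZero_HF_iff K i).2 (hK i (by omega) h)
      have z2 : IsZero ((HF A i).obj K') := (isZero_HF_iff K' i).2 (hK' i (by omega) h)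
      exact ⟨0, z1.eq_of_src _ _, z2.eq_of_src _ _⟩, h1⟩
  obtain ⟨g', rfl⟩ := Triangle.yoneda_exact₂ _ hT g hg
  haveI : C.IsLE (-2) := by
    have := (acyc_iff_isLE (-1) C).1 hC
    rwa [show (-1 : ℤ) - 1 = -2 by omega] at this
  haveI : DerivedCategory.TStructure.t.IsLE (Triangle.mk α p q).obj₃ (-2) :=
    inferInstanceAs (DerivedCategory.TStructure.t.IsLE C (-2))
  have : g' = 0 := DerivedCategory.TStructure.t.zero g' (-2) (-1)
  rw [this]
  exact comp_zero

theorem isGE_shift_inD (N : Type u) [AddCommGroup N] [Module A N] :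
    DerivedCategory.IsGE ((Dual.inD A N)⟦(1 : ℤ)⟧) (-1) :=
  DerivedCategory.TStructure.t.isGE_shift (Dual.inD A N) 0 1 (-1)

theorem isGE_neg_one {K : Dual.D A} (hK : ∀ i : ℤ, i ≠ -1 → i ≠ 0 → Subsingleton (Dual.HD A K i)) :
    K.IsGE (-1) :=
  (DerivedCategory.isGE_iff K (-1)).2 fun i hi => (isZero_HF_iff K i).2 (hK i (by omega) (by omega))

theorem ann_of_map {a : A} {K K' : Dual.D A} (α : K ⟶ K')
    (hK : ∀ i : ℤ, i ≠ -1 → i ≠ 0 → Subsingleton (Dual.HD A K i))
    (hK' : ∀ i : ℤ, i ≠ -1 → i ≠ 0 → Subsingleton (Dual.HD A K' i))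
    (h0 : IsIso ((DerivedCategory.homologyFunctor (ModuleCat.{u} A) 0).map α))
    (h1 : Epi ((DerivedCategory.homologyFunctor (ModuleCat.{u} A) (-1)).map α))
    (h : Ann a K) : Ann a K' := fun N _ _ ξ =>
  precomp_eq_zero α hK hK' h0 h1 (isGE_shift_inD N) (a • ξ) (by rw [Linear.comp_smul]; exact h N _)

/-- Composites are zero when the first kills `H⁰` and the second kills `H^{-1}`. -/
theorem comp_eq_zero_of_homology {K₁ K₂ K₃ : Dual.D A} (φ : K₁ ⟶ K₂) (ψ : K₂ ⟶ K₃)
    (h₁ : ∀ i : ℤ, i ≠ -1 → i ≠ 0 → Subsingleton (Dual.HD A K₁ i))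
    (h₂ : ∀ i : ℤ, i ≠ -1 → i ≠ 0 → Subsingleton (Dual.HD A K₂ i))
    (h₃ : ∀ i : ℤ, i ≠ -1 → i ≠ 0 → Subsingleton (Dual.HD A K₃ i))
    (hφ : (DerivedCategory.homologyFunctor (ModuleCat.{u} A) 0).map φ = 0)
    (hψ : (DerivedCategory.homologyFunctor (ModuleCat.{u} A) (-1)).map ψ = 0) :
    φ ≫ ψ = 0 := by
  obtain ⟨E₁, v₁, f₁, ⟨e₁⟩⟩ := exists_twoTerm_free K₁ h₁
  obtain ⟨E₂, v₂, f₂, ⟨e₂⟩⟩ := exists_twoTerm_free K₂ h₂
  obtain ⟨E₃, v₃, f₃, ⟨e₃⟩⟩ := exists_twoTerm_free K₃ h₃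
  obtain ⟨u, hu⟩ := Q_map_surj (fun i hi => v₁ i (Or.inr hi)) (@Module.Projective.of_free _ _ _ _ _ f₁)
    (fun i hi => v₂ i (Or.inl (by omega))) (e₁.hom ≫ φ ≫ e₂.inv)
  obtain ⟨v, hv⟩ := Q_map_surj (fun i hi => v₂ i (Or.inr hi)) (@Module.Projective.of_free _ _ _ _ _ f₂)
    (fun i hi => v₃ i (Or.inl (by omega))) (e₂.hom ≫ ψ ≫ e₃.inv)
  have hu0 : HomologicalComplex.homologyMap u 0 = 0 := by
    rw [← cancel_epi (HQIso E₁ 0).hom, ← HQIso_naturality, hu]
    simp [hφ]
  have hv1 : HomologicalComplex.homologyMap v (-1) = 0 := by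
    rw [← cancel_epi (HQIso E₂ (-1)).hom, ← HQIso_naturality, hv]
    simp [hψ]
  have hu0' : ∀ x : E₁.X 0, (u.f 0).hom x ∈ LinearMap.range (E₂.d (-1) 0).hom := by
    intro x
    have hx : (E₁.d 0 (0 + 1)).hom x = 0 := eq_zero_of_isZero (v₁ _ (Or.inr (by omega))) _
    have := (homologyMap_hcls u 0 ⟨x, hx⟩).symm.trans (by rw [hu0]; rfl : _ = (0 : E₂.homology 0))
    rw [hcls_eq_zero_iff] at this
    exact this
  have hv1' : ∀ z : E₂.X (-1), (E₂.d (-1) 0).hom z = 0 → (v.f (-1)).hom z = 0 := by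
    intro z hz
    have := (homologyMap_hcls v (-1) ⟨z, hz⟩).symm.trans
      (by rw [hv1]; rfl : _ = (0 : E₃.homology (-1)))
    rw [hcls_eq_zero_iff] at this
    obtain ⟨w, hw⟩ := this
    rw [eq_zero_of_isZero (v₃ (-1 - 1) (Or.inl (by omega))) w, map_zero] at hw
    exact hw.symm
  haveI := f₁
  obtain ⟨h, hh⟩ := Module.projective_lifting_property (E₂.d (-1) 0).hom.rangeRestrict
    ((u.f 0).hom.codRestrict _ hu0') (LinearMap.surjective_rangeRestrict _)
  have hh' : ∀ x, (E₂.d (-1) 0).hom (h x) = (u.f 0).hom x := fun x =>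
    congrArg Subtype.val (LinearMap.congr_fun hh x)
  have hht : HT (u ≫ v) (ModuleCat.ofHom h ≫ v.f (-1)) := by
    constructor
    · ext x
      show (v.f (-1)).hom ((u.f (-1)).hom x) = (v.f (-1)).hom (h ((E₁.d (-1) 0).hom x))
      rw [← sub_eq_zero, ← map_sub]
      exact hv1' _ (by rw [map_sub, hh', ← f_apply_d, sub_self])
    · ext x
      show (v.f 0).hom ((u.f 0).hom x) = (E₃.d (-1) 0).hom ((v.f (-1)).hom (h x))
      rw [← f_apply_d, hh']
  have := (Q_map_zero_iff (fun i hi => v₁ i (Or.inr hi)) (@Module.Projective.of_free _ _ _ _ _ f₁)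
    (fun i hi => v₃ i (Or.inl (by omega))) (u ≫ v)).2 ⟨_, hht⟩
  rw [Functor.map_comp, hu, hv] at this
  rw [← cancel_mono e₃.inv, zero_comp, Category.assoc]
  simpa using this

/-! ### Cohomology of a two-term complex -/

variable (E) in
/-- `H^i(K)` against a representative. -/
noncomputable def hdEquiv {K : Dual.D A} (e : DRing.toD E ≅ K) (i : ℤ) :
    Dual.HD A K i ≃ₗ[A] E.homology i :=
  ((HF A i).mapIso e.symm ≪≫ HQIso E i).toLinearEquiv

include hE in
theorem forall_homology_neg_one (p : E.homology (-1) → Prop) :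
    (∀ c, p c) ↔ ∀ z : Zd E (-1), p (hcls E (-1) z) := (hcls_surjective E (-1)).forall

include hE in
theorem hcls_neg_one_eq_zero_iff (z : Zd E (-1)) : hcls E (-1) z = 0 ↔ (z : E.X (-1)) = 0 := by
  rw [hcls_eq_zero_iff]
  constructor
  · rintro ⟨w, hw⟩
    rw [← hw, eq_zero_of_isZero (hE (-1 - 1) (Or.inl (by omega))) w, map_zero]
  · intro h; rw [h]; exact Submodule.zero_mem _

include hE in
theorem smul_homology_neg_one_iff (a : A) :
    (∀ c : E.homology (-1), a • c = 0) ↔ ∀ x, (E.d (-1) 0).hom x = 0 → a • x = 0 := by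
  rw [forall_homology_neg_one hE]
  constructor
  · intro h x hx
    have := h ⟨x, hx⟩
    rw [← map_smul, hcls_neg_one_eq_zero_iff hE] at this
    exact this
  · intro h z
    rw [← map_smul, hcls_neg_one_eq_zero_iff hE]
    exact h z z.2

include hE in
theorem exists_proj0 : ∃ q : E.X 0 →ₗ[A] E.homology 0, Function.Surjective q ∧
    LinearMap.ker q = LinearMap.range (E.d (-1) 0).hom := by
  have hz : ∀ x : E.X 0, x ∈ Zd E 0 := fun x =>
    LinearMap.mem_ker.2 (eq_zero_of_isZero (hE (0 + 1) (Or.inr (by omega))) _)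
  refine ⟨hcls E 0 ∘ₗ LinearMap.id.codRestrict (Zd E 0) hz, fun c => ?_, ?_⟩
  · obtain ⟨z, rfl⟩ := hcls_surjective E 0 c
    exact ⟨z, rfl⟩
  · ext x
    rw [LinearMap.mem_ker, LinearMap.comp_apply, hcls_eq_zero_iff]
    rfl

include hE hE0 in
theorem fac_one_iff : Fac E 1 ↔ Subsingleton (E.homology (-1)) ∧ Module.Projective A (E.homology 0) := by
  obtain ⟨q, hq, hker⟩ := exists_proj0 hE
  have hsub : Subsingleton (E.homology (-1)) ↔ Function.Injective (E.d (-1) 0).hom := by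
    rw [injective_iff_map_eq_zero, ← ModuleCat.isZero_iff_subsingleton, isZero_homology_iff]
    refine forall₂_congr fun x hx => ⟨?_, fun h => by rw [h]; exact Submodule.zero_mem _⟩
    rintro ⟨w, rfl⟩
    rw [eq_zero_of_isZero (hE (-1 - 1) (Or.inl (by omega))) w, map_zero]
  constructor
  · rintro ⟨h, hh⟩
    have hh' : ∀ x, h.hom ((E.d (-1) 0).hom x) = x := fun x => by
      have := LinearMap.congr_fun (congrArg ModuleCat.Hom.hom hh) x
      simpa using this
    refine ⟨hsub.2 fun x y hxy => by rw [← hh' x, ← hh' y, hxy], ?_⟩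
    obtain ⟨s, hs⟩ := exists_factor_surj q hq (LinearMap.id - (E.d (-1) 0).hom ∘ₗ h.hom) (by
      rw [hker]
      rintro _ ⟨x, rfl⟩
      simp [hh'])
    refine Module.Projective.of_split s q (LinearMap.ext fun c => ?_)
    obtain ⟨x, rfl⟩ := hq c
    have hz : q ((E.d (-1) 0).hom (h.hom x)) = 0 := by
      rw [← LinearMap.mem_ker, hker]; exact LinearMap.mem_range_self _ _
    simp [hs, hz]
  · rintro ⟨h1, h0⟩
    obtain ⟨s, hs⟩ := Module.projective_lifting_property q LinearMap.id hq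
    have hd := hsub.1 h1
    let g : E.X 0 →ₗ[A] LinearMap.range (E.d (-1) 0).hom :=
      (LinearMap.id - s ∘ₗ q).codRestrict _ fun x => by
        rw [← hker, LinearMap.mem_ker, LinearMap.sub_apply, map_sub, LinearMap.comp_apply,
          LinearMap.id_apply, ← LinearMap.comp_apply, hs, LinearMap.id_apply, sub_self]
    refine ⟨ModuleCat.ofHom ((LinearEquiv.ofInjective (E.d (-1) 0).hom hd).symm.toLinearMap ∘ₗ g), ?_⟩
    ext x
    simp only [ModuleCat.hom_comp, LinearMap.comp_apply, ModuleCat.hom_ofHom, LinearEquiv.coe_coe,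
      one_smul, ModuleCat.hom_id, LinearMap.id_apply]
    rw [LinearEquiv.symm_apply_eq]
    apply Subtype.ext
    have hz : q ((E.d (-1) 0).hom x) = 0 := by
      rw [← LinearMap.mem_ker, hker]; exact LinearMap.mem_range_self _ _
    show (E.d (-1) 0).hom x - s (q ((E.d (-1) 0).hom x)) = (E.d (-1) 0).hom x
    rw [hz, map_zero, sub_zero]

theorem twoTerm_ext_one_vanishing_iff (K : Dual.D A)
    (hK : ∀ i : ℤ, i ≠ -1 → i ≠ 0 → Subsingleton (Dual.HD A K i)) :
    (Subsingleton (Dual.HD A K (-1)) ∧ Module.Projective A (Dual.HD A K 0)) ↔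
      ∀ (M : Type u) [AddCommGroup M] [Module A M], Subsingleton (K ⟶ (Dual.inD A M)⟦(1 : ℤ)⟧) := by
  obtain ⟨E, hE, hf, ⟨e⟩⟩ := exists_twoTerm_free K hK
  have hE0 : Module.Projective A (E.X 0) := Module.Projective.of_free
  have h1 : (∀ (M : Type u) [AddCommGroup M] [Module A M],
      Subsingleton (K ⟶ (Dual.inD A M)⟦(1 : ℤ)⟧)) ↔ Fac E 1 := by
    rw [← ann_iff_fac hE hE0 1]
    constructor
    · intro h N _ _ ξ
      rw [one_smul, ← cancel_epi e.inv, comp_zero]
      exact (h N).elim _ _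
    · intro h M _ _
      refine subsingleton_of_forall_eq 0 fun ξ => ?_
      have := h.of_iso e M ξ
      rwa [one_smul] at this
  rw [h1, fac_one_iff hE hE0, (hdEquiv E e (-1)).subsingleton_congr]
  exact and_congr_right fun _ => ⟨fun _ => Module.Projective.of_equiv (hdEquiv E e 0),
    fun _ => Module.Projective.of_equiv (hdEquiv E e 0).symm⟩

include hE in
theorem inD_H0_iso_kerQuot (E' : DRing.Cx A) (hE' : E' = qCx (kerSub_stable E)) {K : Dual.D A}
    (e : DRing.toD E ≅ K) : Nonempty (DRing.toD E' ≅ Dual.inD A (Dual.HD A K 0)) := by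
  subst hE'
  have hbot : ∀ i : ℤ, i ≠ -1 → kerSub E i = ⊥ := fun i hi => if_neg hi
  haveI : IsIso (HomologicalComplex.homologyMap (qπ (kerSub_stable E)) 0) := by
    rw [DR39.isIso_iff_bijective, Function.Bijective, injective_homologyMap_iff, surjective_homologyMap_iff]
    refine ⟨fun x _ y hy => ?_, fun z hz => ?_⟩
    · obtain ⟨y, rfl⟩ := qπ_surj (kerSub_stable E) (0 - 1) y
      rw [← f_apply_d, ← sub_eq_zero, ← map_sub, qπ_eq_zero_iff, hbot 0 (by omega),
        Submodule.mem_bot, sub_eq_zero] at hy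
      exact ⟨y, hy⟩
    · obtain ⟨x, rfl⟩ := qπ_surj (kerSub_stable E) 0 z
      refine ⟨x, ?_, by rw [sub_self]; exact Submodule.zero_mem _⟩
      rw [← f_apply_d, qπ_eq_zero_iff, hbot (0 + 1) (by omega)] at hz
      exact hz
  obtain ⟨e'⟩ := exists_iso_single_homology (DRing.toD (qCx (kerSub_stable E))) 0 fun i hi => by
    refine (isZero_HF_Q_iff _ i).2 ((isZero_homology_iff _ i).2 fun z hz => ?_)
    by_cases h : i = -1
    · obtain ⟨x, rfl⟩ := qπ_surj (kerSub_stable E) i z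
      rw [← f_apply_d, qπ_eq_zero_iff, hbot (i + 1) (by omega), Submodule.mem_bot] at hz
      have hx : x ∈ kerSub E i := by rw [kerSub, if_pos h]; exact hz
      rw [(qπ_eq_zero_iff _ i x).2 hx]
      exact Submodule.zero_mem _
    · have hzero : IsZero ((qCx (kerSub_stable E)).X i) :=
        qCx_isZero_of_isZero _ (hE i (by omega))
      rw [eq_zero_of_isZero hzero z]
      exact Submodule.zero_mem _
  exact ⟨e' ≪≫ (DerivedCategory.singleFunctor (ModuleCat.{u} A) 0).mapIso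
    (HQIso _ 0 ≪≫ (asIso (HomologicalComplex.homologyMap (qπ (kerSub_stable E)) 0)).symm ≪≫
      (hdEquiv E e 0).symm.toModuleIso)⟩

include hE hE0 in
theorem fac_kerQuot (a : A) : (Fac E a → Fac (qCx (kerSub_stable E)) a) ∧
    (∀ b : A, Fac (qCx (kerSub_stable E)) b → (∀ x, (E.d (-1) 0).hom x = 0 → a • x = 0) →
      Fac E (a * b)) := by
  have hker : kerSub E (-1) = LinearMap.ker (E.d (-1) 0).hom := by
    unfold kerSub; rw [if_pos rfl]; rfl
  have hbot : kerSub E 0 = ⊥ := if_neg (by omega)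
  let p0 : E.X 0 →ₗ[A] (qCx (kerSub_stable E)).X 0 := ((qπ (kerSub_stable E)).f 0).hom
  have hp0 : Function.Bijective p0 := ⟨(injective_iff_map_eq_zero _).2 fun x hx => by
    rw [show p0 = ((qπ (kerSub_stable E)).f 0).hom from rfl, qπ_eq_zero_iff, hbot] at hx
    exact hx, qπ_surj _ _⟩
  let e0 := LinearEquiv.ofBijective p0 hp0
  constructor
  · rintro ⟨h, hh⟩
    refine ⟨ModuleCat.ofHom (((qπ (kerSub_stable E)).f (-1)).hom ∘ₗ h.hom ∘ₗ e0.symm.toLinearMap), ?_⟩
    ext z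
    obtain ⟨x, rfl⟩ := qπ_surj (kerSub_stable E) (-1) z
    show ((qπ (kerSub_stable E)).f (-1)).hom (h.hom (e0.symm (((qCx (kerSub_stable E)).d (-1) 0).hom
        (((qπ (kerSub_stable E)).f (-1)).hom x)))) = a • ((qπ (kerSub_stable E)).f (-1)).hom x
    rw [← f_apply_d, show ((qπ (kerSub_stable E)).f 0).hom ((E.d (-1) 0).hom x) =
      e0 ((E.d (-1) 0).hom x) from rfl, LinearEquiv.symm_apply_apply, ← map_smul]
    congr 1
    exact (LinearMap.congr_fun (congrArg ModuleCat.Hom.hom hh) x).trans rfl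
  · rintro b ⟨h, hh⟩ ha
    obtain ⟨g, hg⟩ := Module.projective_lifting_property ((qπ (kerSub_stable E)).f (-1)).hom
      (h.hom ∘ₗ p0) (qπ_surj _ _)
    refine ⟨ModuleCat.ofHom (a • g), ?_⟩
    ext x
    show a • g ((E.d (-1) 0).hom x) = (a * b) • x
    rw [← sub_eq_zero, mul_smul, ← smul_sub]
    refine ha _ ?_
    rw [← LinearMap.mem_ker, ← hker, ← qπ_eq_zero_iff (kerSub_stable E), map_sub, map_smul]
    have h1 : ((qπ (kerSub_stable E)).f (-1)).hom (g ((E.d (-1) 0).hom x)) =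
        h.hom (p0 ((E.d (-1) 0).hom x)) := LinearMap.congr_fun hg _
    rw [h1, show p0 ((E.d (-1) 0).hom x) = ((qCx (kerSub_stable E)).d (-1) 0).hom
      (((qπ (kerSub_stable E)).f (-1)).hom x) from f_apply_d _ _ _ _, sub_eq_zero]
    exact (LinearMap.congr_fun (congrArg ModuleCat.Hom.hom hh)
      (((qπ (kerSub_stable E)).f (-1)).hom x)).trans rfl

include hE hE0 in
theorem fac_mul_ideal (J J' : Ideal A) (h : ∀ a ∈ J, ∀ b ∈ J', Fac E (a * b)) :
    ∀ r ∈ J * J', Fac E r := by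
  intro r hr
  induction hr using Submodule.mul_induction_on' with
  | mem_mul_mem a ha b hb => exact h a ha b hb
  | add x _ y _ hx hy =>
    obtain ⟨f, hf⟩ := hx
    obtain ⟨g, hg⟩ := hy
    exact ⟨f + g, by rw [Preadditive.comp_add, hf, hg, add_smul]⟩

theorem twoTerm_ext_one_killed_iff (I : Ideal A) (K : Dual.D A)
    (hK : ∀ i : ℤ, i ≠ -1 → i ≠ 0 → Subsingleton (Dual.HD A K i)) :
    (∃ c : ℕ, ∀ (N : Type u) [AddCommGroup N] [Module A N] (a : A), a ∈ I ^ c →
        ∀ ξ : K ⟶ (Dual.inD A N)⟦(1 : ℤ)⟧, a • ξ = 0) ↔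
      ∃ c : ℕ, (∀ a : A, a ∈ I ^ c → ∀ x : Dual.HD A K (-1), a • x = 0) ∧
        ∀ (N : Type u) [AddCommGroup N] [Module A N] (a : A), a ∈ I ^ c →
          ∀ ξ : Dual.inD A (Dual.HD A K 0) ⟶ (Dual.inD A N)⟦(1 : ℤ)⟧, a • ξ = 0 := by
  obtain ⟨E, hE, hf, ⟨e⟩⟩ := exists_twoTerm_free K hK
  have hE0 : Module.Projective A (E.X 0) := Module.Projective.of_free
  obtain ⟨e'⟩ := inD_H0_iso_kerQuot hE _ rfl e
  have hvq : DRing.VanishesOutside (qCx (kerSub_stable E)) (-1) 0 := fun i hi =>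
    qCx_isZero_of_isZero _ (hE i hi)
  have hq0 : Module.Projective A ((qCx (kerSub_stable E)).X 0) := by
    refine Module.Projective.of_equiv (LinearEquiv.ofBijective ((qπ (kerSub_stable E)).f 0).hom
      ⟨(injective_iff_map_eq_zero _).2 fun x hx => ?_, qπ_surj _ _⟩)
    rw [qπ_eq_zero_iff, show kerSub E 0 = ⊥ from if_neg (by omega)] at hx
    exact hx
  have hsm : ∀ a : A, (∀ x : Dual.HD A K (-1), a • x = 0) ↔
      ∀ x, (E.d (-1) 0).hom x = 0 → a • x = 0 := fun a => by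
    rw [← smul_homology_neg_one_iff hE a, (hdEquiv E e (-1)).symm.surjective.forall]
    simp [← map_smul]
  constructor
  · rintro ⟨c, hc⟩
    refine ⟨c, fun a ha => ?_, fun N _ _ a ha ξ => ?_⟩
    all_goals
      have hfac : Fac E a := (ann_iff_fac hE hE0 a).1 (Ann.of_iso (fun N _ _ ξ => hc N a ha ξ) e.symm)
    · rw [hsm]
      intro x hx
      obtain ⟨h, hh⟩ := hfac
      have := LinearMap.congr_fun (congrArg ModuleCat.Hom.hom hh) x
      simp only [ModuleCat.hom_comp, LinearMap.comp_apply] at this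
      rw [hx, map_zero] at this
      simpa using this.symm
    · exact ((ann_iff_fac hvq hq0 a).2 ((fac_kerQuot hE hE0 a).1 hfac)).of_iso e' N ξ
  · rintro ⟨c, h1, h0⟩
    refine ⟨c + c, fun N _ _ a ha ξ => ?_⟩
    rw [pow_add] at ha
    have key : Fac E a := fac_mul_ideal hE hE0 _ _ (fun x hx y hy => (fac_kerQuot hE hE0 x).2 y
      ((ann_iff_fac hvq hq0 y).1 (Ann.of_iso (fun N _ _ ξ => h0 N y hy ξ) e'.symm)) ((hsm x).1 (h1 x hx)))
      a ha
    exact ((ann_iff_fac hE hE0 a).2 key).of_iso e N ξ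

end Groth.Agent.DR40
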